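import Cfsg.Agent.OddHalf.D7Out.FrGen

/-!
# D7, outer 2-part: the choice of `T = U P` (helper903; text: helper490, bb ODD 11669, section 3; d7row 102)

`K` normal in `C(t)`, `Y ≤ C(t)` (the stabiliser of a frame), `C(t) = K Y`, `K ∩ Y` without involutions, `U` a Sylow
2-subgroup of `K` normalised by `Y`. For a Sylow 2-subgroup `P` of `Y`:

* `T = U P` is a Sylow 2-subgroup of `C(t)`, `T ∩ K = U`, `P ∩ K = 1`, `R = ⟨v⟩ ≤ P` (`exists_out`);
* the frame `Defs.Fr` holds for this `T` (`Out.fr0`, `Out.fr`; more generally `fr0_of` for every Sylow `T` with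
  `T ∩ K = U`);
* (CYC) ⟹ `P = ⟨y⟩ R` (`Out.cyc`), and for `R = ⟨t⟩`: `P` is abelian (`Out.comm`), its involutions are `t, g, t g`
  (`Out.inv`);
* `Us ≥ U` normalised by `P` with `C_Us(t) = U`: `S = Us P` has `C_S(t) = T`, `P ∩ Us = 1` (`Out.doubled`).
-/

set_option autoImplicit false

namespace Cfsg.Agent.OddHalf.D7Out.TwChoice

open Subgroup Cfsg.Agent.OddHalf

variable {G : Type*} [Group G]

/-- The input of the choice. -/
structure Hyp (t v : G) (K Y U : Subgroup G) : Prop where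
  Yt : ∀ y ∈ Y, y * t = t * y
  vY : v ∈ Y
  /-- `C(t) = K Y` -/
  KY : ∀ g : G, g * t = t * g → ∃ k ∈ K, ∃ y ∈ Y, g = k * y
  /-- `K ∩ Y` has odd order -/
  odd : ∀ x ∈ K, x ∈ Y → x * x = 1 → x = 1
  UK : U ≤ K
  pU : IsPGroup 2 ↥U
  maxU : ∀ P : Subgroup G, IsPGroup 2 ↥P → U ≤ P → P ≤ K → P ≤ U
  YU : ∀ y ∈ Y, ∀ u ∈ U, y * u * y⁻¹ ∈ U

/-- The output of the choice. -/
structure Out (t v : G) (K Y U P T : Subgroup G) : Prop where
  pP : IsPGroup 2 ↥P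
  PY : P ≤ Y
  /-- `P` is a Sylow 2-subgroup of `Y` -/
  maxP : ∀ Q : Subgroup G, IsPGroup 2 ↥Q → P ≤ Q → Q ≤ Y → Q ≤ P
  vP : v ∈ P
  /-- `P ∩ K = 1` -/
  PK : ∀ x ∈ P, x ∈ K → x = 1
  /-- `P` normalises `U` -/
  PU : ∀ p ∈ P, ∀ u ∈ U, p * u * p⁻¹ ∈ U
  UT : U ≤ T
  PT : P ≤ T
  /-- `T = U P` -/
  T_eq : ∀ x, x ∈ T ↔ ∃ u ∈ U, ∃ p ∈ P, x = u * p
  pT : IsPGroup 2 ↥T
  tc : ∀ x ∈ T, x * t = t * x
  /-- `T` is a Sylow 2-subgroup of `C(t)` -/
  max : ∀ Q : Subgroup G, IsPGroup 2 ↥Q → T ≤ Q → (∀ x ∈ Q, x * t = t * x) → Q ≤ T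
  TK : T ⊓ K = U

theorem comm_inv {a t : G} (h : a * t = t * a) : a⁻¹ * t = t * a⁻¹ := by
  rw [inv_mul_eq_iff_eq_mul, ← mul_assoc, h, mul_inv_cancel_right]

theorem mem_normalizer_of [Finite G] {U : Subgroup G} {y : G} (h : ∀ u ∈ U, y * u * y⁻¹ ∈ U) :
    y ∈ normalizer (U : Set G) := by
  have hk : ∀ k : ℕ, ∀ x ∈ U, y ^ k * x * (y ^ k)⁻¹ ∈ U := by
    intro k
    induction k with
    | zero => intro x hx; simpa using hx
    | succ k ih =>
      intro x hx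
      have := h _ (ih x hx)
      have e : y * (y ^ k * x * (y ^ k)⁻¹) * y⁻¹ = y ^ (k + 1) * x * (y ^ (k + 1))⁻¹ := by
        rw [pow_succ' y k]; group
      rwa [e] at this
  rw [mem_normalizer_iff]
  intro x
  constructor
  · exact h x
  · intro hx
    have h1 := hk (orderOf y - 1) _ hx
    have e : y ^ (orderOf y - 1) = y⁻¹ := by
      rw [eq_inv_iff_mul_eq_one, ← pow_succ, Nat.sub_add_cancel (orderOf_pos y), pow_orderOf_eq_one]
    rw [e] at h1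
    have e2 : y⁻¹ * (y * x * y⁻¹) * y⁻¹⁻¹ = x := by group
    rwa [e2] at h1

/-- `R = ⟨v⟩` is normalised by `C(t)` -/
theorem conj_R {K : Subgroup G} {t v : G} (S : Front.FE.Start0 K t v) {y : G} (hy : y * t = t * y) :
    ∀ r ∈ zpowers v, y * r * y⁻¹ ∈ zpowers v := by
  have key : y * v * y⁻¹ ∈ zpowers v := by
    apply S.cK
    · have hvt := S.Qt v (mem_zpowers v)
      have hyt := comm_inv hy
      calc y * v * y⁻¹ * t = y * v * (y⁻¹ * t) := by group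
        _ = y * (v * t) * y⁻¹ := by rw [hyt]; group
        _ = y * t * v * y⁻¹ := by rw [hvt]; group
        _ = t * (y * v * y⁻¹) := by rw [hy]; group
    · intro k hk
      have hyN := S.nK y hy
      have h1 : y⁻¹ * k * y ∈ K := by
        apply (mem_normalizer_iff.1 hyN (y⁻¹ * k * y)).2
        have e : y * (y⁻¹ * k * y) * y⁻¹ = k := by group
        rw [e]; exact hk
      have h2 := S.qK _ h1
      calc k * (y * v * y⁻¹) = y * (y⁻¹ * k * y * v) * y⁻¹ := by group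
        _ = y * (v * (y⁻¹ * k * y)) * y⁻¹ := by rw [h2]
        _ = y * v * y⁻¹ * k := by group
  intro r hr
  obtain ⟨j, rfl⟩ := mem_zpowers_iff.1 hr
  have e : y * v ^ j * y⁻¹ = (y * v * y⁻¹) ^ j := by rw [conj_zpow]
  rw [e]
  exact zpow_mem key j

/-- the product `U P` -/
theorem mem_sup_iff {U P : Subgroup G} (h : ∀ p ∈ P, ∀ u ∈ U, p * u * p⁻¹ ∈ U) {x : G} :
    x ∈ U ⊔ P ↔ ∃ u ∈ U, ∃ p ∈ P, x = u * p := by
  constructor
  · intro hx
    let M : Subgroup G :=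
      { carrier := {x | ∃ u ∈ U, ∃ p ∈ P, x = u * p}
        one_mem' := ⟨1, one_mem _, 1, one_mem _, (one_mul 1).symm⟩
        mul_mem' := by
          rintro _ _ ⟨u, hu, p, hp, rfl⟩ ⟨u', hu', p', hp', rfl⟩
          exact ⟨u * (p * u' * p⁻¹), mul_mem hu (h p hp u' hu'), p * p', mul_mem hp hp', by group⟩
        inv_mem' := by
          rintro _ ⟨u, hu, p, hp, rfl⟩
          exact ⟨p⁻¹ * u⁻¹ * p⁻¹⁻¹, h _ (inv_mem hp) _ (inv_mem hu), p⁻¹, inv_mem hp, by group⟩ }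
    have h1 : U ⊔ P ≤ M := sup_le (fun u hu => ⟨u, hu, 1, one_mem _, (mul_one u).symm⟩)
      (fun p hp => ⟨1, one_mem _, p, hp, (one_mul p).symm⟩)
    exact h1 hx
  · rintro ⟨u, hu, p, hp, rfl⟩
    exact mul_mem ((le_sup_left : U ≤ _) hu) ((le_sup_right : P ≤ _) hp)

/-- **The choice of `T = U P`**, for a given Sylow 2-subgroup `P` of `Y`. -/
theorem out_of_max [Finite G] {t v : G} {K Y U P : Subgroup G} (S : Front.FE.Start0 K t v) (H : Hyp t v K Y U)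
    (pP : IsPGroup 2 ↥P) (PY : P ≤ Y)
    (maxP : ∀ Q : Subgroup G, IsPGroup 2 ↥Q → P ≤ Q → Q ≤ Y → Q ≤ P) : Out t v K Y U P (U ⊔ P) := by
  classical
  have : Fact (Nat.Prime 2) := ⟨Nat.prime_two⟩
  have Pt : ∀ x ∈ P, x * t = t * x := fun x hx => H.Yt x (PY hx)
  have Ut : ∀ x ∈ U, x * t = t * x := fun x hx => S.Kt x (H.UK hx)
  have hPU : ∀ p ∈ P, ∀ u ∈ U, p * u * p⁻¹ ∈ U := fun p hp => H.YU p (PY hp)
  have hPN : P ≤ normalizer (U : Set G) := fun p hp => mem_normalizer_of (hPU p hp)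
  have pT : IsPGroup 2 ↥(U ⊔ P) := by
    rw [sup_comm]
    exact pP.to_sup_of_normal_right' H.pU hPN
  have hTt : ∀ x ∈ U ⊔ P, x * t = t * x := by
    have : U ⊔ P ≤ centralizer ({t} : Set G) := sup_le
      (fun x hx => mem_centralizer_singleton_iff.2 (Ut x hx))
      (fun x hx => mem_centralizer_singleton_iff.2 (Pt x hx))
    exact fun x hx => mem_centralizer_singleton_iff.1 (this hx)
  have hTK : (U ⊔ P) ⊓ K = U := by
    apply le_antisymm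
    · exact H.maxU _ (pT.to_le inf_le_left) (le_inf le_sup_left H.UK) inf_le_right
    · exact le_inf le_sup_left H.UK
  -- `v ∈ P`
  have hv : v ∈ P := by
    have h1 : IsPGroup 2 ↥(P ⊔ zpowers v) := by
      refine pP.to_sup_of_normal_right' S.pQ ?_
      exact fun p hp => mem_normalizer_of (conj_R S (Pt p hp))
    exact maxP _ h1 le_sup_left (sup_le PY (zpowers_le.2 H.vY)) ((le_sup_right : zpowers v ≤ _) (mem_zpowers v))
  have hPK : ∀ x ∈ P, x ∈ K → x = 1 := by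
    intro x hx hxK
    by_contra hx1
    obtain ⟨y, hy, hyy, hy1⟩ := Front.FE.exists_involution hx1 (pP.to_le (zpowers_le.2 hx))
    exact hy1 (H.odd y (zpowers_le.2 hxK hy) (PY (zpowers_le.2 hx hy)) hyy)
  refine ⟨pP, PY, maxP, hv, hPK, hPU, le_sup_left, le_sup_right, fun x => mem_sup_iff hPU, pT, hTt, ?_, hTK⟩
  -- `T` is a Sylow 2-subgroup of `C(t)`
  intro Q hQ hTQ hQt
  set C : Subgroup G := centralizer ({t} : Set G) with hC
  have hYC : Y ≤ C := fun y hy => mem_centralizer_singleton_iff.2 (H.Yt y hy)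
  have hQC : Q ≤ C := fun y hy => mem_centralizer_singleton_iff.2 (hQt y hy)
  have hN : (K.subgroupOf C).Normal := by
    refine ⟨fun n hn g => ?_⟩
    rw [mem_subgroupOf] at hn ⊢
    exact (mem_normalizer_iff.1 (S.nK g (mem_centralizer_singleton_iff.1 g.2)) (n : G)).1 hn
  set π : ↥C →* ↥C ⧸ K.subgroupOf C := QuotientGroup.mk' (K.subgroupOf C) with hπ
  have hπeq : ∀ a b : ↥C, π a = π b ↔ (a : G)⁻¹ * b ∈ K := by
    intro a b
    rw [hπ, QuotientGroup.mk'_apply, QuotientGroup.mk'_apply, QuotientGroup.eq, mem_subgroupOf]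
    rfl
  set f : ↥Y →* ↥C ⧸ K.subgroupOf C := π.comp (inclusion hYC) with hf
  have hsurj : Function.Surjective f := by
    intro q
    obtain ⟨c, rfl⟩ := QuotientGroup.mk'_surjective _ q
    obtain ⟨k, hk, y, hy, hc⟩ := H.KY c (mem_centralizer_singleton_iff.1 c.2)
    refine ⟨⟨y, hy⟩, ?_⟩
    show π (inclusion hYC ⟨y, hy⟩) = π c
    rw [hπeq]
    show y⁻¹ * (c : G) ∈ K
    rw [hc]
    have h1 : y⁻¹ * (k * y) = y⁻¹ * k * y⁻¹⁻¹ := by group
    rw [h1]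
    exact (mem_normalizer_iff.1 (S.nK y⁻¹ (comm_inv (H.Yt y hy))) k).1 hk
  let P0 : Sylow 2 ↥Y := ⟨P.subgroupOf Y, pP.comap_of_injective Y.subtype Y.subtype_injective, by
    intro R hR hle
    apply le_antisymm _ hle
    intro y hy
    have h1 : R.map Y.subtype ≤ P := by
      apply maxP _ (hR.map Y.subtype)
      · intro x hx
        exact ⟨⟨x, PY hx⟩, hle (by exact hx), rfl⟩
      · exact map_subtype_le _
    exact h1 ⟨y, hy, rfl⟩⟩
  have hP0 : ∀ y : ↥Y, y ∈ (P0 : Subgroup ↥Y) ↔ (y : G) ∈ P := fun y => Iff.rfl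
  have h1 : (Q.subgroupOf C).map π = (P0.mapSurjective hsurj : Subgroup (↥C ⧸ K.subgroupOf C)) := by
    apply (P0.mapSurjective hsurj).is_maximal'
    · exact (hQ.comap_of_injective C.subtype C.subtype_injective).map _
    · rw [Sylow.coe_mapSurjective]
      rintro _ ⟨y, hy, rfl⟩
      exact ⟨inclusion hYC y, hTQ ((le_sup_right : P ≤ U ⊔ P) ((hP0 y).1 hy)), rfl⟩
  intro x hx
  have h2 : π ⟨x, hQC hx⟩ ∈ (P0.mapSurjective hsurj : Subgroup (↥C ⧸ K.subgroupOf C)) := by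
    rw [← h1]
    exact ⟨⟨x, hQC hx⟩, hx, rfl⟩
  rw [Sylow.coe_mapSurjective] at h2
  obtain ⟨p, hp, hpx⟩ := h2
  have hp' : (p : G) ∈ P := (hP0 p).1 hp
  have h3 : (p : G)⁻¹ * x ∈ K := (hπeq _ _).1 hpx
  have h4 : (p : G)⁻¹ * x ∈ Q := mul_mem (inv_mem (hTQ ((le_sup_right : P ≤ U ⊔ P) hp'))) hx
  have h5 : (p : G)⁻¹ * x ∈ U := by
    refine H.maxU (Q ⊓ K) (hQ.to_le inf_le_left) (le_inf ?_ H.UK) inf_le_right ⟨h4, h3⟩
    exact le_trans le_sup_left hTQ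
  have h6 : x = p * ((p : G)⁻¹ * x) := by group
  rw [h6]
  exact mul_mem ((le_sup_right : P ≤ U ⊔ P) hp') ((le_sup_left : U ≤ U ⊔ P) h5)

/-- **The choice of `T = U P`** -/
theorem exists_out [Finite G] {t v : G} {K Y U : Subgroup G} (S : Front.FE.Start0 K t v) (H : Hyp t v K Y U) :
    ∃ P : Subgroup G, Out t v K Y U P (U ⊔ P) := by
  have : Fact (Nat.Prime 2) := ⟨Nat.prime_two⟩
  obtain ⟨P0⟩ : Nonempty (Sylow 2 ↥Y) := inferInstance
  refine ⟨(P0 : Subgroup ↥Y).map Y.subtype, out_of_max S H (P0.isPGroup'.map _) (map_subtype_le _) ?_⟩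
  intro Q hQ hle hQY x hx
  have h1 := P0.is_maximal' (hQ.comap_of_injective Y.subtype Y.subtype_injective) (by
    intro y hy
    exact hle ⟨y, hy, rfl⟩)
  have h2 : (⟨x, hQY hx⟩ : ↥Y) ∈ Q.comap Y.subtype := hx
  rw [h1] at h2
  exact ⟨⟨x, hQY hx⟩, h2, rfl⟩

/-! ### The frame for a given `T` -/

open FrGen in
/-- **The frame for a given Sylow 2-subgroup `T` of `C(t)`** with `T ∩ K = U`. -/
theorem fr0_of {K : Subgroup G} {t v : G} (S : Front.FE.Start K t v) {U Z : Subgroup ↥K}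
    (F : KF0 U Z) (hs : Schreier.Basic.Sch ↥K) {T : Subgroup G} (pT : IsPGroup 2 ↥T) (vT : v ∈ T)
    (tc : ∀ x ∈ T, x * t = t * x)
    (max : ∀ P : Subgroup G, IsPGroup 2 ↥P → T ≤ P → (∀ x ∈ P, x * t = t * x) → P ≤ T)
    (hTK : T ⊓ K = U.map K.subtype) :
    Defs.Fr t v K (U.map K.subtype) (Z.map K.subtype) T := by
  have hKR : ∀ x ∈ K, x ∈ Subgroup.zpowers v → x = 1 := by
    intro x hx hxv
    exact S.cen x hx fun y hy => S.QK x hxv y hy
  constructor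
  · exact S.tt
  · exact S.t1
  · exact S.pQ
  · exact S.tQ
  · exact S.nK
  · exact S.qK
  · exact S.cK
  · exact hKR
  · exact pT
  · exact vT
  · exact tc
  · exact max
  · exact hTK.symm
  · exact Subgroup.map_mono F.ZU
  · rintro _ ⟨z, hz, rfl⟩ _ ⟨u, hu, rfl⟩
    exact congrArg Subtype.val (F.Zc z hz u hu)
  · rintro _ ⟨z, hz, rfl⟩
    exact congrArg Subtype.val (F.Zsq z hz)
  · intro h0
    rw [Subgroup.map_eq_bot_iff_of_injective _ K.subtype_injective] at h0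
    exact F.Z1 h0
  · intro x hx hxU
    have hxN := S.nK x (tc x hx)
    obtain ⟨m, hm⟩ := pT ⟨x, hx⟩
    have hm' : x ^ 2 ^ m = 1 := congrArg Subtype.val hm
    obtain ⟨z, hz, hzK⟩ := F.aut (cjK hxN) ⟨m, by
      ext k
      rw [cjK_pow, hm']
      simp⟩ (fun u hu => by
      apply Subtype.ext
      change x * u * x⁻¹ = u
      rw [hxU u ⟨u, hu, rfl⟩, mul_inv_cancel_right])
    have hr : (z : G)⁻¹ * x ∈ Subgroup.zpowers v := by
      apply S.cK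
      · have h1 := tc x hx
        have h2 := S.Kt z z.2
        have h3 : (z : G)⁻¹ * t = t * (z : G)⁻¹ := by
          rw [inv_mul_eq_iff_eq_mul, ← mul_assoc, h2, mul_inv_cancel_right]
        calc (z : G)⁻¹ * x * t = (z : G)⁻¹ * t * x := by rw [mul_assoc, h1, ← mul_assoc]
          _ = t * ((z : G)⁻¹ * x) := by rw [h3, mul_assoc]
      · intro k hk
        have h4 : x * k * x⁻¹ = z * k * (z : G)⁻¹ := congrArg Subtype.val (hzK ⟨k, hk⟩)
        symm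
        calc (z : G)⁻¹ * x * k = (z : G)⁻¹ * (x * k * x⁻¹) * x := by group
          _ = (z : G)⁻¹ * (z * k * (z : G)⁻¹) * x := by rw [h4]
          _ = k * ((z : G)⁻¹ * x) := by group
    refine ⟨(z : G)⁻¹ * x, hr, z, ⟨z, hz, rfl⟩, ?_⟩
    rw [← S.QK _ hr z z.2]; group
  · rintro _ ⟨z, hz, rfl⟩ g hg
    obtain ⟨L₀, hL₀, hzL₀, hLz₀⟩ := F.P2' z hz
    have hg' : g * t * g⁻¹ = z := hg
    set L : Subgroup G := L₀.map K.subtype with hL
    have hLp : ⁅L, L⁆ = L := by rw [hL, ← Subgroup.map_commutator, hL₀]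
    set L' : Subgroup G := L.map (MulAut.conj g⁻¹).toMonoidHom with hL'
    have hp : ⁅L', L'⁆ = L' := by rw [hL', ← Subgroup.map_commutator, hLp]
    have h1 : ∀ x ∈ L', x * t = t * x := by
      rintro _ ⟨_, ⟨w, hw, rfl⟩, rfl⟩
      have h2 : (w : G) * z = z * w := congrArg Subtype.val (hLz₀ w hw)
      show g⁻¹ * w * g⁻¹⁻¹ * t = t * (g⁻¹ * w * g⁻¹⁻¹)
      calc g⁻¹ * w * g⁻¹⁻¹ * t = g⁻¹ * (w * (g * t * g⁻¹)) * g := by group
        _ = g⁻¹ * (w * z) * g := by rw [hg']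
        _ = g⁻¹ * (z * w) * g := by rw [h2]
        _ = g⁻¹ * (g * t * g⁻¹ * w) * g := by rw [hg']
        _ = t * (g⁻¹ * w * g⁻¹⁻¹) := by group
    have h2 := perf_le S.toStart0 hs h1 hp
    have h3 : t ∈ L' := ⟨z, ⟨z, hzL₀, rfl⟩, by
      show g⁻¹ * z * g⁻¹⁻¹ = t
      rw [← hg']; group⟩
    exact S.t1 (hKR t (h2 h3) S.tQ)

/-- the frame, `Z` a root group, for a given `T` -/
theorem fr_of {K : Subgroup G} {t v : G} (S : Front.FE.Start K t v) {U Z : Subgroup ↥K}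
    (F : FrGen.KF U Z) (hs : Schreier.Basic.Sch ↥K) {T : Subgroup G} (pT : IsPGroup 2 ↥T) (vT : v ∈ T)
    (tc : ∀ x ∈ T, x * t = t * x)
    (max : ∀ P : Subgroup G, IsPGroup 2 ↥P → T ≤ P → (∀ x ∈ P, x * t = t * x) → P ≤ T)
    (hTK : T ⊓ K = U.map K.subtype) :
    Defs.FrT t v K (U.map K.subtype) (Z.map K.subtype) T := by
  refine ⟨fr0_of S F.toKF0 hs pT vT tc max hTK, ?_⟩
  rintro _ ⟨z, hz, rfl⟩ _ ⟨z', hz', rfl⟩ hz1 hz1'
  obtain ⟨k, hk⟩ := F.trans z hz z' hz' (fun e => hz1 (by rw [e]; rfl)) (fun e => hz1' (by rw [e]; rfl))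
  exact ⟨k, k.2, congrArg Subtype.val hk⟩

/-- the frame for `T = U P` -/
theorem Out.fr0 {K Y P : Subgroup G} {t v : G} {U Z : Subgroup ↥K} {T : Subgroup G}
    (O : Out t v K Y (U.map K.subtype) P T) (S : Front.FE.Start K t v) (F : FrGen.KF0 U Z)
    (hs : Schreier.Basic.Sch ↥K) : Defs.Fr t v K (U.map K.subtype) (Z.map K.subtype) T :=
  fr0_of S F hs O.pT (O.PT O.vP) O.tc O.max O.TK

/-- the frame for `T = U P`, `Z` a root group -/
theorem Out.fr {K Y P : Subgroup G} {t v : G} {U Z : Subgroup ↥K} {T : Subgroup G}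
    (O : Out t v K Y (U.map K.subtype) P T) (S : Front.FE.Start K t v) (F : FrGen.KF U Z)
    (hs : Schreier.Basic.Sch ↥K) : Defs.FrT t v K (U.map K.subtype) (Z.map K.subtype) T :=
  fr_of S F hs O.pT (O.PT O.vP) O.tc O.max O.TK

/-! ### (CYC) -/

/-- (CYC): 2-subgroups of `C(t)` induce a cyclic group of outer automorphisms of `K` -/
def CycT (t v : G) (K : Subgroup G) : Prop :=
  ∀ P : Subgroup G, IsPGroup 2 ↥P → (∀ x ∈ P, x * t = t * x) →
    ∃ y ∈ P, ∀ x ∈ P, ∃ i : ℤ, ∃ k ∈ K, ∃ r ∈ zpowers v, x = y ^ i * k * r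

/-- (CYC) as a fact on the group `Y = K`: 2-groups of automorphisms have cyclic image in `Out(K)` -/
def CycOut (Y : Type*) [Group Y] : Prop :=
  ∀ A : Subgroup (MulAut Y), IsPGroup 2 ↥A → ∃ α ∈ A, ∀ β ∈ A, ∃ i : ℤ, ∃ k : Y, β = α ^ i * MulAut.conj k

theorem CycOut.of_equiv {Y Y' : Type*} [Group Y] [Group Y'] (e : Y ≃* Y') (h : CycOut Y) : CycOut Y' := by
  intro A hA
  obtain ⟨α, hα, h1⟩ := h (A.map (MulAut.congr e.symm).toMonoidHom) (hA.map _)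
  obtain ⟨α', hα', rfl⟩ := hα
  refine ⟨α', hα', fun β hβ => ?_⟩
  obtain ⟨i, k, hk⟩ := h1 (MulAut.congr e.symm β) ⟨β, hβ, rfl⟩
  refine ⟨i, e k, ?_⟩
  have h2 := congrArg (MulAut.congr e) hk
  have h3 : ∀ γ : MulAut Y', MulAut.congr e (MulAut.congr e.symm γ) = γ := by
    intro γ
    ext x
    show e (e.symm (γ (e (e.symm x)))) = γ x
    simp
  rw [h3, map_mul, map_zpow] at h2
  change β = (MulAut.congr e (MulAut.congr e.symm α')) ^ i * _ at h2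
  rw [h3] at h2
  rw [h2]
  congr 1
  ext x
  show e (k * e.symm x * k⁻¹) = e k * x * (e k)⁻¹
  simp

/-- (CYC) from the cyclic image in `Aut(Y) / Inn(Y)` -/
theorem CycOut.of_isCyclic {Y : Type*} [Group Y]
    (h : have := Schreier.Basic.conj_range_normal Y
      ∀ A : Subgroup (MulAut Y), IsPGroup 2 ↥A →
        IsCyclic ↥(A.map (QuotientGroup.mk' (MulAut.conj : Y →* MulAut Y).range))) : CycOut Y := by
  have := Schreier.Basic.conj_range_normal Y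
  intro A hA
  obtain ⟨⟨_, ⟨α, hα, rfl⟩⟩, hg⟩ := (h A hA).exists_generator
  refine ⟨α, hα, fun β hβ => ?_⟩
  obtain ⟨i, hi⟩ := mem_zpowers_iff.1 (hg ⟨_, ⟨β, hβ, rfl⟩⟩)
  have h1 : (QuotientGroup.mk' (MulAut.conj : Y →* MulAut Y).range) (α ^ i) =
      (QuotientGroup.mk' (MulAut.conj : Y →* MulAut Y).range) β := by
    rw [map_zpow]
    exact congrArg Subtype.val hi
  rw [QuotientGroup.mk'_apply, QuotientGroup.mk'_apply, QuotientGroup.eq] at h1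
  obtain ⟨k, hk⟩ := h1
  refine ⟨i, k, ?_⟩
  rw [hk, mul_inv_cancel_left]

/-- the K-fact (CYC) gives (CYC) in `C(t)` -/
theorem cycT_of {K : Subgroup G} {t v : G} (S : Front.FE.Start0 K t v) (h : CycOut ↥K) : CycT t v K := by
  intro P hP hPt
  have hPN : ∀ x ∈ P, x ∈ normalizer (K : Set G) := fun x hx => S.nK x (hPt x hx)
  have h1 : IsPGroup 2 ↥(FrGen.actK hPN).range := by
    rw [MonoidHom.range_eq_map]
    exact (hP.to_le (le_refl P) |>.of_equiv (Subgroup.topEquiv (G := ↥P)).symm).map _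
  obtain ⟨_, ⟨y, rfl⟩, hy⟩ := h _ h1
  refine ⟨y, y.2, fun x hx => ?_⟩
  obtain ⟨i, k, hk⟩ := hy _ ⟨⟨x, hx⟩, rfl⟩
  refine ⟨i, k, k.2, ((y : G) ^ i * k)⁻¹ * x, ?_, by group⟩
  have hyit : ∀ j : ℤ, (y : G) ^ j * t = t * (y : G) ^ j := fun j => (Commute.zpow_left (hPt y y.2) j).eq
  have hkt := S.Kt k k.2
  have h0 : Commute ((y : G) ^ i * k) t := Commute.mul_left (hyit i) hkt
  apply S.cK
  · exact (h0.inv_left.mul_left (hPt x hx)).eq
  · intro z hz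
    have h2 : FrGen.actK hPN ⟨x, hx⟩ ⟨z, hz⟩ = ((FrGen.actK hPN y) ^ i * MulAut.conj k) ⟨z, hz⟩ := by rw [hk]
    rw [← map_zpow, MulAut.mul_apply] at h2
    have h3 : x * z * x⁻¹ = ((y ^ i : ↥P) : G) * ((k : G) * z * (k : G)⁻¹) * ((y ^ i : ↥P) : G)⁻¹ :=
      congrArg Subtype.val h2
    rw [Subgroup.coe_zpow] at h3
    symm
    calc ((y : G) ^ i * k)⁻¹ * x * z = ((y : G) ^ i * k)⁻¹ * (x * z * x⁻¹) * x := by group
      _ = ((y : G) ^ i * k)⁻¹ * ((y : G) ^ i * ((k : G) * z * (k : G)⁻¹) * ((y : G) ^ i)⁻¹) * x := by rw [h3]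
      _ = z * (((y : G) ^ i * k)⁻¹ * x) := by group

section out

variable {t v : G} {K Y U P T : Subgroup G}

/-- `P = ⟨y⟩ R` -/
theorem Out.cyc (O : Out t v K Y U P T) (h : CycT t v K) :
    ∃ y ∈ P, ∀ x ∈ P, ∃ i : ℤ, ∃ r ∈ zpowers v, x = y ^ i * r := by
  obtain ⟨y, hy, h1⟩ := h P O.pP fun x hx => O.tc x (O.PT hx)
  refine ⟨y, hy, fun x hx => ?_⟩
  obtain ⟨i, k, hk, r, hr, hxk⟩ := h1 x hx
  have hrP : r ∈ P := zpowers_le.2 O.vP hr
  have h2 : k ∈ P := by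
    have e : k = (y ^ i)⁻¹ * x * r⁻¹ := by rw [hxk]; group
    rw [e]
    exact mul_mem (mul_mem (inv_mem (zpow_mem hy i)) hx) (inv_mem hrP)
  have h3 := O.PK k h2 hk
  refine ⟨i, r, hr, ?_⟩
  rw [hxk, h3, mul_one]

/-- if `R` is central then `P` is abelian -/
theorem Out.comm (O : Out t v K Y U P T) (h : CycT t v K) (hv : ∀ x ∈ P, x * v = v * x) :
    ∀ x ∈ P, ∀ y ∈ P, x * y = y * x := by
  obtain ⟨g, hg, h1⟩ := O.cyc h
  have hr : ∀ r ∈ zpowers v, ∀ x ∈ P, x * r = r * x := by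
    intro r hr x hx
    obtain ⟨j, rfl⟩ := mem_zpowers_iff.1 hr
    exact ((Commute.zpow_right (hv x hx)) j).eq
  intro x hx y hy
  obtain ⟨i, r, hr1, rfl⟩ := h1 x hx
  obtain ⟨j, s, hs1, rfl⟩ := h1 y hy
  have c1 : Commute (g ^ i) (g ^ j) := (Commute.refl g).zpow_zpow i j
  have c2 : Commute (g ^ i) s := hr s hs1 _ (zpow_mem hg i)
  have c3 : Commute (g ^ j) r := hr r hr1 _ (zpow_mem hg j)
  have c4 : Commute r s := by
    obtain ⟨a, rfl⟩ := mem_zpowers_iff.1 hr1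
    obtain ⟨b, rfl⟩ := mem_zpowers_iff.1 hs1
    exact (Commute.refl v).zpow_zpow a b
  exact ((c1.mul_right c2).mul_left (c3.symm.mul_right c4)).eq

/-- two elements of `P - R` with squares in the central group `R` differ by an element of `R` -/
theorem Out.uniq (O : Out t v K Y U P T) (h : CycT t v K) (hv : ∀ x ∈ P, x * v = v * x) {a b : G} (ha : a ∈ P)
    (hb : b ∈ P) (haa : a * a ∈ zpowers v) (hbb : b * b ∈ zpowers v) (ha1 : a ∉ zpowers v) (hb1 : b ∉ zpowers v) :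
    a * b⁻¹ ∈ zpowers v := by
  obtain ⟨y, hy, h1⟩ := O.cyc h
  have hr : ∀ r ∈ zpowers v, ∀ x ∈ P, Commute x r := by
    intro r hr x hx
    obtain ⟨j, rfl⟩ := mem_zpowers_iff.1 hr
    exact (Commute.zpow_right (hv x hx)) j
  let N : AddSubgroup ℤ :=
    { carrier := {i | y ^ i ∈ zpowers v}
      zero_mem' := by show y ^ (0 : ℤ) ∈ zpowers v; rw [zpow_zero]; exact one_mem _
      add_mem' := by
        intro i j (hi : y ^ i ∈ zpowers v) (hj : y ^ j ∈ zpowers v)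
        show y ^ (i + j) ∈ zpowers v
        rw [zpow_add]; exact mul_mem hi hj
      neg_mem' := by
        intro i (hi : y ^ i ∈ zpowers v)
        show y ^ (-i) ∈ zpowers v
        rw [zpow_neg]; exact inv_mem hi }
  have hN : ∀ i : ℤ, i ∈ N ↔ y ^ i ∈ zpowers v := fun i => Iff.rfl
  obtain ⟨n, hn⟩ := Int.subgroup_cyclic N
  have hn' : ∀ i : ℤ, y ^ i ∈ zpowers v ↔ ∃ m : ℤ, m * n = i := by
    intro i
    rw [← hN, hn, AddSubgroup.mem_closure_singleton]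
    simp only [smul_eq_mul]
  obtain ⟨i, r, hri, rfl⟩ := h1 a ha
  obtain ⟨j, s, hsj, rfl⟩ := h1 b hb
  have key : ∀ (i : ℤ) (r : G), r ∈ zpowers v → y ^ i * r * (y ^ i * r) ∈ zpowers v → y ^ i * r ∉ zpowers v →
      ∃ m : ℤ, 2 * i = (2 * m + 1) * n := by
    intro i r hri h2 h3
    have e1 : y ^ i * r * (y ^ i * r) = y ^ (2 * i) * (r * r) := by
      rw [two_mul, zpow_add]
      calc y ^ i * r * (y ^ i * r) = y ^ i * (r * y ^ i) * r := by group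
        _ = y ^ i * (y ^ i * r) * r := by rw [(hr r hri _ (zpow_mem hy i)).eq]
        _ = y ^ i * y ^ i * (r * r) := by group
    have h4 : y ^ (2 * i) ∈ zpowers v := by
      rw [e1] at h2
      exact (Subgroup.mul_mem_cancel_right _ (mul_mem hri hri)).1 h2
    obtain ⟨m, hm⟩ := (hn' _).1 h4
    rcases Int.even_or_odd' m with ⟨c, rfl | rfl⟩
    · exfalso
      apply h3
      refine mul_mem ((hn' i).2 ⟨c, ?_⟩) hri
      have : 2 * (c * n) = 2 * i := by rw [← hm]; ring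
      omega
    · exact ⟨c, hm.symm⟩
  obtain ⟨m, hm⟩ := key i r hri haa ha1
  obtain ⟨m', hm'⟩ := key j s hsj hbb hb1
  have h5 : y ^ (i - j) ∈ zpowers v := by
    rw [hn']
    refine ⟨m - m', ?_⟩
    have h6 : 2 * ((m - m') * n) = 2 * i - 2 * j := by rw [hm, hm']; ring
    omega
  have e2 : y ^ i * r * (y ^ j * s)⁻¹ = y ^ (i - j) * (r * s⁻¹) := by
    have c1 : r * s⁻¹ ∈ zpowers v := mul_mem hri (inv_mem hsj)
    have c2 := (hr _ c1 _ (zpow_mem hy (-j))).eq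
    rw [zpow_neg] at c2
    rw [zpow_sub]
    calc y ^ i * r * (y ^ j * s)⁻¹ = y ^ i * (r * s⁻¹ * (y ^ j)⁻¹) := by group
      _ = y ^ i * ((y ^ j)⁻¹ * (r * s⁻¹)) := by rw [c2]
      _ = y ^ i * (y ^ j)⁻¹ * (r * s⁻¹) := by group
  rw [e2]
  exact mul_mem h5 (mul_mem hri (inv_mem hsj))

/-- the elements `x = u p` of `T` with `x ^ 2 ∈ R U` resp. `x ^ 2 ∈ U` have `p ^ 2 ∈ R` resp. `p ^ 2 = 1` -/
theorem Out.exists_mul (O : Out t v K Y U P T) {x : G} (hx : x ∈ T) :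
    ∃ u ∈ U, ∃ p ∈ P, x = u * p ∧ (∀ r ∈ P, ∀ w ∈ U, x * x = w * r → p * p = r) := by
  obtain ⟨u, hu, p, hp, rfl⟩ := (O.T_eq x).1 hx
  refine ⟨u, hu, p, hp, rfl, ?_⟩
  intro r hr w hw he
  have hPU := O.PU p hp u hu
  have h1 : p * p * r⁻¹ ∈ P := mul_mem (mul_mem hp hp) (inv_mem hr)
  have h2 : p * p * r⁻¹ = (u * (p * u * p⁻¹))⁻¹ * w := by
    calc p * p * r⁻¹ = (u * (p * u * p⁻¹))⁻¹ * (u * p * (u * p)) * r⁻¹ := by group
      _ = (u * (p * u * p⁻¹))⁻¹ * w := by rw [he]; group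
  have h3 : p * p * r⁻¹ ∈ U := by
    rw [h2]; exact mul_mem (inv_mem (mul_mem hu hPU)) hw
  have h4 := O.PK _ h1 (by rw [← O.TK] at h3; exact h3.2)
  rw [mul_inv_eq_one] at h4
  exact h4

/-- **The involutions of `P`**, for `R = ⟨t⟩` -/
theorem Out.inv (O : Out t t K Y U P T) (h : CycT t t K) (tt : t * t = 1) :
    (∀ p ∈ P, p * p = 1 → p = 1 ∨ p = t) ∨
      ∃ g ∈ P, g * g = 1 ∧ g ≠ 1 ∧ g ≠ t ∧ (∀ p ∈ P, p * p = 1 → p = 1 ∨ p = t ∨ p = g ∨ p = t * g) ∧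
        (∀ p ∈ P, p * p = 1 ∨ p * p = t → p = 1 ∨ p = t ∨ p = g ∨ p = t * g) := by
  have hz : ∀ x, x ∈ zpowers t ↔ x = 1 ∨ x = t := by
    intro x
    constructor
    · intro hx
      obtain ⟨i, rfl⟩ := mem_zpowers_iff.1 hx
      rcases Int.even_or_odd' i with ⟨c, rfl | rfl⟩
      · left
        rw [zpow_mul, zpow_ofNat, pow_two, tt, one_zpow]
      · right
        rw [zpow_add, zpow_mul, zpow_ofNat, pow_two, tt, one_zpow, zpow_one, one_mul]
    · rintro (rfl | rfl)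
      · exact one_mem _
      · exact mem_zpowers _
  have ht : ∀ x ∈ P, x * t = t * x := fun x hx => O.tc x (O.PT hx)
  by_cases h1 : ∀ p ∈ P, p * p = 1 → p = 1 ∨ p = t
  · exact Or.inl h1
  right
  push Not at h1
  obtain ⟨g, hg, hgg, hg1, hgt⟩ := h1
  have hgz : g ∉ zpowers t := fun h => by
    rcases (hz g).1 h with h2 | h2
    · exact hg1 h2
    · exact hgt h2
  have key : ∀ p ∈ P, p * p = 1 ∨ p * p = t → p = 1 ∨ p = t ∨ p = g ∨ p = t * g := by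
    intro p hp hpp
    by_cases hpz : p ∈ zpowers t
    · rcases (hz p).1 hpz with h2 | h2
      · exact Or.inl h2
      · exact Or.inr (Or.inl h2)
    have h2 := O.uniq h ht hp hg ((hz _).2 hpp) (by rw [hgg]; exact one_mem _) hpz hgz
    have hgi : g⁻¹ = g := inv_eq_of_mul_eq_one_right hgg
    rw [hgi] at h2
    rcases (hz _).1 h2 with h3 | h3
    · right; right; left
      calc p = p * g * g := by rw [mul_assoc, hgg, mul_one]
        _ = g := by rw [h3, one_mul]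
    · right; right; right
      calc p = p * g * g := by rw [mul_assoc, hgg, mul_one]
        _ = t * g := by rw [h3]
  exact ⟨g, hg, hgg, hg1, hgt, fun p hp hpp => key p hp (Or.inl hpp), key⟩

/-- `T = ⟨y⟩ R U` -/
theorem Out.cyc_T (O : Out t v K Y U P T) (h : CycT t v K) :
    ∃ y ∈ P, ∀ x ∈ T, ∃ i : ℤ, ∃ r ∈ zpowers v, ∃ u ∈ U, x = y ^ i * r * u := by
  obtain ⟨y, hy, h1⟩ := O.cyc h
  refine ⟨y, hy, fun x hx => ?_⟩
  obtain ⟨u, hu, p, hp, rfl⟩ := (O.T_eq x).1 hx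
  obtain ⟨i, r, hr, hpr⟩ := h1 p hp
  refine ⟨i, r, hr, p⁻¹ * u * p⁻¹⁻¹, O.PU _ (inv_mem hp) _ hu, ?_⟩
  rw [← hpr]; group

/-- (c01) for `T` from (c01) for `P` -/
theorem Out.c01 (O : Out t v K Y U P T) {W : Subgroup G} (hUW : ∀ u ∈ U, ∀ w ∈ W, u * w = w * u)
    (hW : ∀ g ∈ P, g * g = 1 → (∀ w ∈ W, g * w = w * g) ∨ (∀ w ∈ W, t * g * w = w * (t * g))) :
    ∀ x ∈ T, x * x ∈ U → (∀ w ∈ W, x * w = w * x) ∨ (∀ w ∈ W, t * x * w = w * (t * x)) := by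
  intro x hx hxx
  obtain ⟨u, hu, p, hp, rfl, h1⟩ := O.exists_mul hx
  have hpp := h1 1 (one_mem _) _ hxx (mul_one _).symm
  have hut := O.tc u (O.UT hu)
  rcases hW p hp hpp with h2 | h2
  · left
    intro w hw
    exact (Commute.mul_left (hUW u hu w hw) (h2 w hw)).eq
  · right
    intro w hw
    have e : t * (u * p) = u * (t * p) := by rw [← mul_assoc, ← hut, mul_assoc]
    rw [e]
    exact (Commute.mul_left (hUW u hu w hw) (h2 w hw)).eq

/-- `|C(t) : T|` is odd -/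
theorem Out.odd_relIndex [Finite G] (O : Out t v K Y U P T) : ¬ 2 ∣ T.relIndex (centralizer ({t} : Set G)) := by
  have : Fact (Nat.Prime 2) := ⟨Nat.prime_two⟩
  set C : Subgroup G := centralizer ({t} : Set G) with hC
  have hTC : T ≤ C := fun x hx => mem_centralizer_singleton_iff.2 (O.tc x hx)
  let T0 : Sylow 2 ↥C := ⟨T.subgroupOf C, O.pT.comap_of_injective C.subtype C.subtype_injective, by
    intro R hR hle
    apply le_antisymm _ hle
    intro y hy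
    have h1 : R.map C.subtype ≤ T := by
      apply O.max _ (hR.map C.subtype)
      · intro x hx
        exact ⟨⟨x, hTC hx⟩, hle (by exact hx), rfl⟩
      · rintro _ ⟨x, -, rfl⟩
        exact mem_centralizer_singleton_iff.1 x.2
    exact h1 ⟨y, hy, rfl⟩⟩
  exact T0.not_dvd_index

/-! ### The doubled group -/

/-- the doubled group `S = Us P` -/
structure Dbl (t : G) (U P T Us S : Subgroup G) : Prop where
  UsS : Us ≤ S
  PS : P ≤ S
  TS : T ≤ S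
  UUs : U ≤ Us
  S_eq : ∀ x, x ∈ S ↔ ∃ u ∈ Us, ∃ p ∈ P, x = u * p
  pS : IsPGroup 2 ↥S
  /-- `C_S(t) = T` -/
  CS : ∀ x ∈ S, x * t = t * x → x ∈ T
  /-- `P ∩ Us = 1` -/
  PUs : ∀ p ∈ P, p ∈ Us → p = 1
  /-- `S` normalises `Us` -/
  SUs : ∀ x ∈ S, ∀ u ∈ Us, x * u * x⁻¹ ∈ Us
  /-- the projection `S → P` with kernel `Us` -/
  proj : ∃ ρ : ↥S →* ↥P, (∀ (x : G) (h : x ∈ S), x * ((ρ ⟨x, h⟩ : ↥P) : G)⁻¹ ∈ Us) ∧
    (∀ (x : G) (h : x ∈ S), x ∈ Us → ρ ⟨x, h⟩ = 1) ∧ (∀ (x : G) (h : x ∈ S) (hp : x ∈ P), ρ ⟨x, h⟩ = ⟨x, hp⟩)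

/-- the projection of a semidirect product -/
theorem exists_proj {Us P S : Subgroup G} (hS : ∀ x, x ∈ S ↔ ∃ u ∈ Us, ∃ p ∈ P, x = u * p)
    (hP : ∀ p ∈ P, ∀ u ∈ Us, p * u * p⁻¹ ∈ Us) (h1 : ∀ p ∈ P, p ∈ Us → p = 1) :
    ∃ ρ : ↥S →* ↥P, (∀ (x : G) (h : x ∈ S), x * ((ρ ⟨x, h⟩ : ↥P) : G)⁻¹ ∈ Us) ∧
    (∀ (x : G) (h : x ∈ S), x ∈ Us → ρ ⟨x, h⟩ = 1) ∧
    (∀ (x : G) (h : x ∈ S) (hp : x ∈ P), ρ ⟨x, h⟩ = ⟨x, hp⟩) := by
  have hex : ∀ x : ↥S, ∃ p : ↥P, (x : G) * (p : G)⁻¹ ∈ Us := by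
    rintro ⟨x, hx⟩
    obtain ⟨u, hu, p, hp, rfl⟩ := (hS x).1 hx
    exact ⟨⟨p, hp⟩, by simpa using hu⟩
  have huniq : ∀ (x : G) (p q : ↥P), x * (p : G)⁻¹ ∈ Us → x * (q : G)⁻¹ ∈ Us → p = q := by
    intro x p q hp hq
    have h2 : (p : G) * (q : G)⁻¹ ∈ Us := by
      have e : (p : G) * (q : G)⁻¹ = (x * (p : G)⁻¹)⁻¹ * (x * (q : G)⁻¹) := by group
      rw [e]; exact mul_mem (inv_mem hp) hq
    have h3 := h1 _ (mul_mem p.2 (inv_mem q.2)) h2
    rw [mul_inv_eq_one] at h3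
    exact Subtype.ext h3
  choose f hf using hex
  refine ⟨MonoidHom.mk' f ?_, ?_, ?_, ?_⟩
  · intro x y
    apply huniq ((x * y : ↥S) : G) _ _ (hf _)
    rw [Subgroup.coe_mul, Subgroup.coe_mul]
    have e : (x : G) * y * ((f x : G) * (f y : G))⁻¹ =
        ((x : G) * (f x : G)⁻¹) * ((f x : G) * ((y : G) * (f y : G)⁻¹) * (f x : G)⁻¹) := by group
    rw [e]
    exact mul_mem (hf x) (hP _ (f x).2 _ (hf y))
  · intro x h
    exact hf ⟨x, h⟩
  · intro x h hx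
    exact huniq x _ _ (hf ⟨x, h⟩) (by simpa using hx)
  · intro x h hp
    exact huniq x _ _ (hf ⟨x, h⟩) (by simp)

/-- **The doubled group.** -/
theorem Out.doubled [Finite G] (O : Out t v K Y U P T) {Us : Subgroup G} (hUUs : U ≤ Us) (pUs : IsPGroup 2 ↥Us)
    (hCt : ∀ x ∈ Us, x * t = t * x → x ∈ U) (hPUs : ∀ p ∈ P, ∀ u ∈ Us, p * u * p⁻¹ ∈ Us) :
    Dbl t U P T Us (Us ⊔ P) := by
  have hPN : P ≤ normalizer (Us : Set G) := fun p hp => mem_normalizer_of (hPUs p hp)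
  have hSeq : ∀ x, x ∈ Us ⊔ P ↔ ∃ u ∈ Us, ∃ p ∈ P, x = u * p := fun x => mem_sup_iff hPUs
  have h1 : ∀ p ∈ P, p ∈ Us → p = 1 := by
    intro p hp hpU
    have h2 := hCt p hpU (O.tc p (O.PT hp))
    exact O.PK p hp (by rw [← O.TK] at h2; exact h2.2)
  refine ⟨le_sup_left, le_sup_right, ?_, hUUs, hSeq, ?_, ?_, h1, ?_, exists_proj hSeq hPUs h1⟩
  · intro x hx
    obtain ⟨u, hu, p, hp, rfl⟩ := (O.T_eq x).1 hx
    exact (hSeq _).2 ⟨u, hUUs hu, p, hp, rfl⟩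
  · rw [sup_comm]
    exact O.pP.to_sup_of_normal_right' pUs hPN
  · intro x hx hxt
    obtain ⟨u, hu, p, hp, rfl⟩ := (hSeq x).1 hx
    have hpt := O.tc p (O.PT hp)
    have h2 : u * t = t * u := by
      have h3 : Commute (u * p * p⁻¹) t := Commute.mul_left hxt (comm_inv hpt)
      rwa [mul_inv_cancel_right] at h3
    exact (O.T_eq _).2 ⟨u, hCt u hu h2, p, hp, rfl⟩
  · have h2 : Us ⊔ P ≤ normalizer (Us : Set G) := sup_le le_normalizer hPN
    intro x hx u hu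
    exact (mem_normalizer_iff.1 (h2 hx) u).1 hu

end out

end Cfsg.Agent.OddHalf.D7Out.TwChoice
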