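import Cfsg.Agent.OddHalf.D7Out.Defs
import Cfsg.Agent.OddHalf.Front.FE
import Cfsg.Agent.Schreier.Basic

/-!
# D7, the front: the frame for a general `K` (helper875)

* `KF0 U Z` : the facts on `K` (a Sylow 2-subgroup `U` of `K` and an elementary abelian `Z ≤ Z(U)`), `KF` : and `K`
  transitive on `Z#`;
* `perf_le` : perfect subgroups of `C(t)` lie in `K` (from the Schreier property of `K`);
* `fr0`, `fr` : a Sylow 2-subgroup `T` of `C(t)` with `T ∩ K = U` and the frame `Defs.Fr`, `Defs.FrT`.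
-/

set_option autoImplicit false

namespace Cfsg.Agent.OddHalf.D7Out.FrGen

open Cfsg.Agent.OddHalf
open scoped commutatorElement

/-- the facts on the group `Y = K` used by the front, without the transitivity of `Y` on `Z#` -/
structure KF0 {Y : Type*} [Group Y] (U Z : Subgroup Y) : Prop where
  pU : IsPGroup 2 ↥U
  maxU : ∀ P : Subgroup Y, IsPGroup 2 ↥P → U ≤ P → P ≤ U
  ZU : Z ≤ U
  Zc : ∀ z ∈ Z, ∀ u ∈ U, u * z = z * u
  Zsq : ∀ z ∈ Z, z * z = 1
  Z1 : Z ≠ ⊥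
  /-- (T1s) in automorphism form -/
  aut : ∀ α : MulAut Y, (∃ n : ℕ, α ^ 2 ^ n = 1) → (∀ u ∈ U, α u = u) → ∃ z ∈ Z, ∀ x, α x = z * x * z⁻¹
  /-- every element of `Z` lies in a perfect subgroup of its centralizer -/
  P2' : ∀ z ∈ Z, ∃ L : Subgroup Y, ⁅L, L⁆ = L ∧ z ∈ L ∧ ∀ y ∈ L, y * z = z * y

/-- the facts on the group `Y = K` used by the front, `Z` a root group -/
structure KF {Y : Type*} [Group Y] (U Z : Subgroup Y) : Prop extends KF0 U Z where
  trans : ∀ z ∈ Z, ∀ z' ∈ Z, z ≠ 1 → z' ≠ 1 → ∃ k : Y, k * z * k⁻¹ = z'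

/-- for a group transitive on `Z#`, one perfect subgroup is sufficient -/
theorem P2_of_trans {Y : Type*} [Group Y] {Z : Subgroup Y}
    (trans : ∀ z ∈ Z, ∀ z' ∈ Z, z ≠ 1 → z' ≠ 1 → ∃ k : Y, k * z * k⁻¹ = z')
    (P2 : ∃ z ∈ Z, z ≠ 1 ∧ ∃ L : Subgroup Y, ⁅L, L⁆ = L ∧ z ∈ L ∧ ∀ y ∈ L, y * z = z * y) :
    ∀ z ∈ Z, ∃ L : Subgroup Y, ⁅L, L⁆ = L ∧ z ∈ L ∧ ∀ y ∈ L, y * z = z * y := by
  intro z hz
  obtain ⟨z₁, hz₁, hz₁1, L, hL, hzL, hLz⟩ := P2
  by_cases hz1 : z = 1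
  · refine ⟨⊥, ?_, ?_, ?_⟩
    · exact Subgroup.commutator_bot_left _
    · rw [hz1]; exact one_mem _
    · intro y _; rw [hz1, mul_one, one_mul]
  obtain ⟨k, hk⟩ := trans z₁ hz₁ z hz hz₁1 hz1
  refine ⟨L.map (MulAut.conj k).toMonoidHom, ?_, ⟨z₁, hzL, hk⟩, ?_⟩
  · rw [← Subgroup.map_commutator, hL]
  · rintro _ ⟨y, hy, rfl⟩
    show k * y * k⁻¹ * z = z * (k * y * k⁻¹)
    rw [← hk]
    calc k * y * k⁻¹ * (k * z₁ * k⁻¹) = k * (y * z₁) * k⁻¹ := by group
      _ = k * (z₁ * y) * k⁻¹ := by rw [hLz y hy]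
      _ = k * z₁ * k⁻¹ * (k * y * k⁻¹) := by group

/-- `KF0` is carried by isomorphisms -/
theorem KF0.map {Y Y' : Type*} [Group Y] [Group Y'] (e : Y ≃* Y') {U Z : Subgroup Y} (F : KF0 U Z) :
    KF0 (U.map e.toMonoidHom) (Z.map e.toMonoidHom) where
  pU := F.pU.map _
  maxU := by
    intro P hP hle
    have h1 : IsPGroup 2 ↥(P.map e.symm.toMonoidHom) := hP.map _
    have h2 := F.maxU _ h1 (fun u hu => ⟨e u, hle ⟨u, hu, rfl⟩, by simp⟩)
    intro x hx
    exact ⟨e.symm x, h2 ⟨x, hx, rfl⟩, by simp⟩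
  ZU := Subgroup.map_mono F.ZU
  Zc := by
    rintro _ ⟨z, hz, rfl⟩ _ ⟨u, hu, rfl⟩
    show e u * e z = e z * e u
    rw [← map_mul, ← map_mul, F.Zc z hz u hu]
  Zsq := by
    rintro _ ⟨z, hz, rfl⟩
    show e z * e z = 1
    rw [← map_mul, F.Zsq z hz, map_one]
  Z1 := by
    intro h0
    rw [Subgroup.map_eq_bot_iff_of_injective _ e.injective] at h0
    exact F.Z1 h0
  aut := by
    rintro α ⟨n, hn⟩ hα
    have hpow : ∀ k : ℕ, ((MulAut.congr e.symm) α) ^ k = (MulAut.congr e.symm) (α ^ k) := fun k => by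
      rw [map_pow]
    obtain ⟨z, hz, h1⟩ := F.aut ((MulAut.congr e.symm) α) ⟨n, by rw [hpow, hn, map_one]⟩ (fun u hu => by
      have h2 := hα (e u) ⟨u, hu, rfl⟩
      show e.symm (α (e u)) = u
      rw [h2, MulEquiv.symm_apply_apply])
    refine ⟨e z, ⟨z, hz, rfl⟩, fun x => ?_⟩
    have h2 : e.symm (α (e (e.symm x))) = z * e.symm x * z⁻¹ := h1 (e.symm x)
    have h3 := congrArg e h2
    simpa using h3
  P2' := by
    rintro _ ⟨z, hz, rfl⟩
    obtain ⟨L, hL, hzL, hLz⟩ := F.P2' z hz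
    refine ⟨L.map e.toMonoidHom, ?_, ⟨z, hzL, rfl⟩, ?_⟩
    · rw [← Subgroup.map_commutator, hL]
    · rintro _ ⟨y, hy, rfl⟩
      show e y * e z = e z * e y
      rw [← map_mul, ← map_mul, hLz y hy]

/-- `KF` is carried by isomorphisms -/
theorem KF.map {Y Y' : Type*} [Group Y] [Group Y'] (e : Y ≃* Y') {U Z : Subgroup Y} (F : KF U Z) :
    KF (U.map e.toMonoidHom) (Z.map e.toMonoidHom) where
  toKF0 := F.toKF0.map e
  trans := by
    rintro _ ⟨z, hz, rfl⟩ _ ⟨z', hz', rfl⟩ h1 h1'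
    obtain ⟨k, hk⟩ := F.trans z hz z' hz' (fun h => h1 (by rw [h, map_one])) (fun h => h1' (by rw [h, map_one]))
    refine ⟨e k, ?_⟩
    show e k * e z * (e k)⁻¹ = e z'
    rw [← hk, map_mul, map_mul, map_inv]

variable {G : Type*} [Group G] {K : Subgroup G}

/-- the image in `G` of a subgroup of `↥K` -/
theorem mem_map {P : Subgroup ↥K} {g : G} : g ∈ P.map K.subtype ↔ ∃ hg : g ∈ K, (⟨g, hg⟩ : ↥K) ∈ P := by
  constructor
  · rintro ⟨x, hx, rfl⟩
    exact ⟨x.2, hx⟩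
  · rintro ⟨hg, h1⟩
    exact ⟨⟨g, hg⟩, h1, rfl⟩

/-- a Sylow 2-subgroup of `C(t)` containing `U` -/
theorem exists_T [Finite G] {t v : G} (S : Front.FE.Start0 K t v) {U₀ : Subgroup G} (hU : IsPGroup 2 ↥U₀)
    (hUK : U₀ ≤ K) (hUm : ∀ P : Subgroup G, IsPGroup 2 ↥P → U₀ ≤ P → P ≤ K → P ≤ U₀) :
    ∃ T : Subgroup G, IsPGroup 2 ↥T ∧ v ∈ T ∧ (∀ x ∈ T, x * t = t * x) ∧
      (∀ P : Subgroup G, IsPGroup 2 ↥P → T ≤ P → (∀ x ∈ P, x * t = t * x) → P ≤ T) ∧ T ⊓ K = U₀ := by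
  set C : Subgroup G := Subgroup.centralizer ({t} : Set G) with hC
  have hUC : U₀ ≤ C := fun x hx => Subgroup.mem_centralizer_singleton_iff.2 (S.Kt x (hUK hx))
  obtain ⟨P, hP⟩ := (hU.comap_of_injective C.subtype C.subtype_injective).exists_le_sylow
  set T : Subgroup G := (P : Subgroup ↥C).map C.subtype with hT
  have pT : IsPGroup 2 ↥T := P.isPGroup'.map _
  have tc : ∀ x ∈ T, x * t = t * x := by
    rintro _ ⟨y, -, rfl⟩
    exact Subgroup.mem_centralizer_singleton_iff.1 y.2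
  have max : ∀ Q : Subgroup G, IsPGroup 2 ↥Q → T ≤ Q → (∀ x ∈ Q, x * t = t * x) → Q ≤ T := by
    intro Q hQ hle hQt
    have hQC : Q ≤ C := fun x hx => Subgroup.mem_centralizer_singleton_iff.2 (hQt x hx)
    have h1 := P.is_maximal' (hQ.comap_of_injective C.subtype C.subtype_injective) (by
      intro y hy
      exact hle ⟨y, hy, rfl⟩)
    intro x hx
    have h2 : (⟨x, hQC hx⟩ : ↥C) ∈ Q.comap C.subtype := hx
    rw [h1] at h2
    exact ⟨⟨x, hQC hx⟩, h2, rfl⟩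
  have hUT : U₀ ≤ T := fun x hx => ⟨⟨x, hUC hx⟩, hP (by exact hx), rfl⟩
  refine ⟨T, pT, ?_, tc, max, ?_⟩
  · -- `R` is normalised by `T`
    have hRC : ∀ x ∈ Subgroup.zpowers v, x * t = t * x := S.Qt
    have hle : T ≤ Subgroup.normalizer ((Subgroup.zpowers v : Subgroup G) : Set G) := by
      intro x hx
      have hxt := tc x hx
      have key : ∀ y : G, y * t = t * y → y * v * y⁻¹ ∈ Subgroup.zpowers v := by
        intro y hy
        apply S.cK
        · have hvt := hRC v (Subgroup.mem_zpowers v)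
          have hyt : y⁻¹ * t = t * y⁻¹ := by
            rw [inv_mul_eq_iff_eq_mul, ← mul_assoc, hy, mul_inv_cancel_right]
          calc y * v * y⁻¹ * t = y * v * (y⁻¹ * t) := by group
            _ = y * (v * t) * y⁻¹ := by rw [hyt]; group
            _ = y * t * v * y⁻¹ := by rw [hvt]; group
            _ = t * (y * v * y⁻¹) := by rw [hy]; group
        · intro k hk
          have hyN := S.nK y hy
          have h1 : y⁻¹ * k * y ∈ K := by
            apply (Subgroup.mem_normalizer_iff.1 hyN (y⁻¹ * k * y)).2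
            have e : y * (y⁻¹ * k * y) * y⁻¹ = k := by group
            rw [e]; exact hk
          have h2 := S.qK _ h1
          calc k * (y * v * y⁻¹) = y * (y⁻¹ * k * y * v) * y⁻¹ := by group
            _ = y * (v * (y⁻¹ * k * y)) * y⁻¹ := by rw [h2]
            _ = y * v * y⁻¹ * k := by group
      have key2 : ∀ y : G, y * t = t * y → ∀ r ∈ Subgroup.zpowers v, y * r * y⁻¹ ∈ Subgroup.zpowers v := by
        intro y hy r hr
        obtain ⟨j, rfl⟩ := Subgroup.mem_zpowers_iff.1 hr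
        have e : y * v ^ j * y⁻¹ = (y * v * y⁻¹) ^ j := by rw [conj_zpow]
        rw [e]
        exact zpow_mem (key y hy) j
      rw [Subgroup.mem_normalizer_iff]
      intro r
      constructor
      · exact key2 x hxt r
      · intro hr
        have hxt' : x⁻¹ * t = t * x⁻¹ := by
          rw [inv_mul_eq_iff_eq_mul, ← mul_assoc, hxt, mul_inv_cancel_right]
        have h3 := key2 x⁻¹ hxt' _ hr
        have e : x⁻¹ * (x * r * x⁻¹) * x⁻¹⁻¹ = r := by group
        rwa [e] at h3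
    have h1 : IsPGroup 2 ((T ⊔ Subgroup.zpowers v : Subgroup G)) := pT.to_sup_of_normal_right' S.pQ hle
    have h2 : ∀ x ∈ T ⊔ Subgroup.zpowers v, x * t = t * x := by
      have : T ⊔ Subgroup.zpowers v ≤ C := by
        rw [sup_le_iff]
        exact ⟨fun x hx => Subgroup.mem_centralizer_singleton_iff.2 (tc x hx), fun x hx =>
          Subgroup.mem_centralizer_singleton_iff.2 (hRC x hx)⟩
      intro x hx
      exact Subgroup.mem_centralizer_singleton_iff.1 (this hx)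
    exact max _ h1 le_sup_left h2 ((le_sup_right : Subgroup.zpowers v ≤ _) (Subgroup.mem_zpowers v))
  · apply le_antisymm
    · exact hUm _ (pT.to_le inf_le_left) (le_inf hUT hUK) inf_le_right
    · exact le_inf hUT hUK

/-- conjugation by `g ∈ N(K)` -/
def cjK {K : Subgroup G} {g : G} (hg : g ∈ Subgroup.normalizer (K : Set G)) : MulAut ↥K where
  toFun k := ⟨g * k * g⁻¹, (Subgroup.mem_normalizer_iff.1 hg k).1 k.2⟩
  invFun k := ⟨g⁻¹ * k * g, (Subgroup.mem_normalizer_iff.1 hg _).2 (by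
    have e : g * (g⁻¹ * (k : G) * g) * g⁻¹ = k := by group
    rw [e]; exact k.2)⟩
  left_inv k := Subtype.ext (by
    change g⁻¹ * (g * k * g⁻¹) * g = k
    group)
  right_inv k := Subtype.ext (by
    change g * (g⁻¹ * k * g) * g⁻¹ = k
    group)
  map_mul' k k' := Subtype.ext (by
    change g * (k * k') * g⁻¹ = g * k * g⁻¹ * (g * k' * g⁻¹)
    group)

theorem cjK_pow {K : Subgroup G} {g : G} (hg : g ∈ Subgroup.normalizer (K : Set G)) (m : ℕ) (k : ↥K) :
    (((cjK hg) ^ m) k : G) = g ^ m * k * (g ^ m)⁻¹ := by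
  induction m generalizing k with
  | zero => simp
  | succ m ih =>
    rw [pow_succ, MulAut.mul_apply, ih]
    change g ^ m * (g * k * g⁻¹) * (g ^ m)⁻¹ = _
    rw [pow_succ]; group

/-- the action of `P ≤ N(K)` on `K` -/
def actK {K P : Subgroup G} (hP : ∀ x ∈ P, x ∈ Subgroup.normalizer (K : Set G)) : ↥P →* MulAut ↥K where
  toFun h := cjK (hP h h.2)
  map_one' := by
    ext k
    change ((1 : ↥P) : G) * k * ((1 : ↥P) : G)⁻¹ = k
    simp
  map_mul' h h' := by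
    ext k
    change ((h * h' : ↥P) : G) * k * ((h * h' : ↥P) : G)⁻¹ = (h : G) * ((h' : G) * k * (h' : G)⁻¹) * (h : G)⁻¹
    rw [Subgroup.coe_mul]
    group

/-- perfect subgroups of `C(t)` lie in `K` -/
theorem perf_le {t v : G} (S : Front.FE.Start0 K t v) (hs : Schreier.Basic.Sch ↥K) {P : Subgroup G}
    (hPt : ∀ x ∈ P, x * t = t * x) (hP : ⁅P, P⁆ = P) : P ≤ K := by
  have hpt : ⁅(⊤ : Subgroup ↥P), (⊤ : Subgroup ↥P)⁆ = ⊤ := by
    apply Subgroup.map_injective P.subtype_injective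
    rw [Subgroup.map_commutator, ← MonoidHom.range_eq_map, Subgroup.range_subtype, hP]
  have hPN : ∀ x ∈ P, x ∈ Subgroup.normalizer (K : Set G) := fun x hx => S.nK x (hPt x hx)
  have h1 : (actK hPN).range ≤ (MulAut.conj : ↥K →* MulAut ↥K).range := by
    apply hs
    rw [MonoidHom.range_eq_map, ← Subgroup.map_commutator, hpt]
  have h2 : ∀ p ∈ P, ∃ k ∈ K, k⁻¹ * p ∈ Subgroup.zpowers v := by
    intro p hp
    obtain ⟨k, hk⟩ := h1 ⟨⟨p, hp⟩, rfl⟩
    refine ⟨k, k.2, ?_⟩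
    apply S.cK
    · have h3 := hPt p hp
      have h4 := S.Kt k k.2
      have h5 : (k : G)⁻¹ * t = t * (k : G)⁻¹ := by
        rw [inv_mul_eq_iff_eq_mul, ← mul_assoc, h4, mul_inv_cancel_right]
      calc (k : G)⁻¹ * p * t = (k : G)⁻¹ * t * p := by rw [mul_assoc, h3, ← mul_assoc]
        _ = t * ((k : G)⁻¹ * p) := by rw [h5, mul_assoc]
    · intro x hx
      have h3 : MulAut.conj k ⟨x, hx⟩ = actK hPN ⟨p, hp⟩ ⟨x, hx⟩ := by rw [hk]
      have h4 : (k : G) * x * (k : G)⁻¹ = p * x * p⁻¹ := congrArg Subtype.val h3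
      symm
      calc (k : G)⁻¹ * p * x = (k : G)⁻¹ * (p * x * p⁻¹) * p := by group
        _ = (k : G)⁻¹ * (k * x * (k : G)⁻¹) * p := by rw [h4]
        _ = x * ((k : G)⁻¹ * p) := by group
  rw [← hP, Subgroup.commutator_le]
  intro p hp q hq
  obtain ⟨k, hk, hkc⟩ := h2 p hp
  obtain ⟨l, hl, hld⟩ := h2 q hq
  obtain ⟨c, hc⟩ : ∃ c, c = k⁻¹ * p := ⟨_, rfl⟩
  obtain ⟨d, hd⟩ : ∃ d, d = l⁻¹ * q := ⟨_, rfl⟩
  rw [← hc] at hkc
  rw [← hd] at hld
  have hpc : p = k * c := by rw [hc]; group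
  have hqd : q = l * d := by rw [hd]; group
  have hcd : c * d = d * c := by
    obtain ⟨i, rfl⟩ := Subgroup.mem_zpowers_iff.1 hkc
    obtain ⟨j, rfl⟩ := Subgroup.mem_zpowers_iff.1 hld
    rw [← zpow_add, ← zpow_add, add_comm]
  have hcl : l * c = c * l := S.QK c hkc l hl
  have hdk : k * d = d * k := S.QK d hld k hk
  have h3 : p * q = k * l * (c * d) := by
    rw [hpc, hqd]
    calc k * c * (l * d) = k * (c * l) * d := by group
      _ = k * (l * c) * d := by rw [hcl]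
      _ = _ := by group
  have h4 : q * p = l * k * (c * d) := by
    rw [hpc, hqd]
    calc l * d * (k * c) = l * (d * k) * c := by group
      _ = l * (k * d) * c := by rw [hdk]
      _ = l * k * (d * c) := by group
      _ = _ := by rw [hcd]
  have h5 : ⁅p, q⁆ = k * l * (l * k)⁻¹ := by
    calc ⁅p, q⁆ = p * q * (q * p)⁻¹ := by rw [commutatorElement_def]; group
      _ = _ := by rw [h3, h4]; group
  rw [h5]
  exact K.mul_mem (K.mul_mem hk hl) (K.inv_mem (K.mul_mem hl hk))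

/-- **The frame.** -/
theorem fr0 [Finite G] {t v : G} (S : Front.FE.Start K t v) {U Z : Subgroup ↥K} (F : KF0 U Z)
    (hs : Schreier.Basic.Sch ↥K) :
    ∃ T : Subgroup G, Defs.Fr t v K (U.map K.subtype) (Z.map K.subtype) T := by
  have : Fact (Nat.Prime 2) := ⟨Nat.prime_two⟩
  have hUp : IsPGroup 2 ↥(U.map K.subtype) := F.pU.map _
  have hUK : U.map K.subtype ≤ K := Subgroup.map_subtype_le _
  have hUm : ∀ P : Subgroup G, IsPGroup 2 ↥P → U.map K.subtype ≤ P → P ≤ K → P ≤ U.map K.subtype := by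
    intro P hP hle hPK
    have h1 : IsPGroup 2 ↥(P.subgroupOf K) := hP.comap_of_injective K.subtype K.subtype_injective
    have h2 := F.maxU _ h1 (fun x hx => hle ⟨x, hx, rfl⟩)
    intro x hx
    have h3 : (⟨x, hPK hx⟩ : ↥K) ∈ P.subgroupOf K := hx
    exact ⟨_, h2 h3, rfl⟩
  obtain ⟨T, pT, vT, tc, max, hTK⟩ := exists_T S.toStart0 hUp hUK hUm
  have hKR : ∀ x ∈ K, x ∈ Subgroup.zpowers v → x = 1 := by
    intro x hx hxv
    exact S.cen x hx fun y hy => S.QK x hxv y hy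
  refine ⟨T, ?_⟩
  constructor
  · exact S.tt
  · exact S.t1
  · exact S.pQ
  · exact S.tQ
  · exact S.nK
  · exact S.qK
  · exact S.cK
  · exact hKR
  · exact pT
  · exact vT
  · exact tc
  · exact max
  · exact hTK.symm
  · exact Subgroup.map_mono F.ZU
  · rintro _ ⟨z, hz, rfl⟩ _ ⟨u, hu, rfl⟩
    exact congrArg Subtype.val (F.Zc z hz u hu)
  · rintro _ ⟨z, hz, rfl⟩
    exact congrArg Subtype.val (F.Zsq z hz)
  · intro h0
    rw [Subgroup.map_eq_bot_iff_of_injective _ K.subtype_injective] at h0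
    exact F.Z1 h0
  · intro x hx hxU
    have hxN := S.nK x (tc x hx)
    obtain ⟨m, hm⟩ := pT ⟨x, hx⟩
    have hm' : x ^ 2 ^ m = 1 := congrArg Subtype.val hm
    obtain ⟨z, hz, hzK⟩ := F.aut (cjK hxN) ⟨m, by
      ext k
      rw [cjK_pow, hm']
      simp⟩ (fun u hu => by
      apply Subtype.ext
      change x * u * x⁻¹ = u
      rw [hxU u ⟨u, hu, rfl⟩, mul_inv_cancel_right])
    have hr : (z : G)⁻¹ * x ∈ Subgroup.zpowers v := by
      apply S.cK
      · have h1 := tc x hx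
        have h2 := S.Kt z z.2
        have h3 : (z : G)⁻¹ * t = t * (z : G)⁻¹ := by
          rw [inv_mul_eq_iff_eq_mul, ← mul_assoc, h2, mul_inv_cancel_right]
        calc (z : G)⁻¹ * x * t = (z : G)⁻¹ * t * x := by rw [mul_assoc, h1, ← mul_assoc]
          _ = t * ((z : G)⁻¹ * x) := by rw [h3, mul_assoc]
      · intro k hk
        have h4 : x * k * x⁻¹ = z * k * (z : G)⁻¹ := congrArg Subtype.val (hzK ⟨k, hk⟩)
        symm
        calc (z : G)⁻¹ * x * k = (z : G)⁻¹ * (x * k * x⁻¹) * x := by group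
          _ = (z : G)⁻¹ * (z * k * (z : G)⁻¹) * x := by rw [h4]
          _ = k * ((z : G)⁻¹ * x) := by group
    refine ⟨(z : G)⁻¹ * x, hr, z, ⟨z, hz, rfl⟩, ?_⟩
    rw [← S.QK _ hr z z.2]; group
  · rintro _ ⟨z, hz, rfl⟩ g hg
    obtain ⟨L₀, hL₀, hzL₀, hLz₀⟩ := F.P2' z hz
    have hg' : g * t * g⁻¹ = z := hg
    set L : Subgroup G := L₀.map K.subtype with hL
    have hLp : ⁅L, L⁆ = L := by rw [hL, ← Subgroup.map_commutator, hL₀]
    set L' : Subgroup G := L.map (MulAut.conj g⁻¹).toMonoidHom with hL'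
    have hp : ⁅L', L'⁆ = L' := by rw [hL', ← Subgroup.map_commutator, hLp]
    have h1 : ∀ x ∈ L', x * t = t * x := by
      rintro _ ⟨_, ⟨w, hw, rfl⟩, rfl⟩
      have h2 : (w : G) * z = z * w := congrArg Subtype.val (hLz₀ w hw)
      show g⁻¹ * w * g⁻¹⁻¹ * t = t * (g⁻¹ * w * g⁻¹⁻¹)
      calc g⁻¹ * w * g⁻¹⁻¹ * t = g⁻¹ * (w * (g * t * g⁻¹)) * g := by group
        _ = g⁻¹ * (w * z) * g := by rw [hg']
        _ = g⁻¹ * (z * w) * g := by rw [h2]
        _ = g⁻¹ * (g * t * g⁻¹ * w) * g := by rw [hg']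
        _ = t * (g⁻¹ * w * g⁻¹⁻¹) := by group
    have h2 := perf_le S.toStart0 hs h1 hp
    have h3 : t ∈ L' := ⟨z, ⟨z, hzL₀, rfl⟩, by
      show g⁻¹ * z * g⁻¹⁻¹ = t
      rw [← hg']; group⟩
    exact S.t1 (hKR t (h2 h3) S.tQ)

/-- **The frame**, `Z` a root group. -/
theorem fr [Finite G] {t v : G} (S : Front.FE.Start K t v) {U Z : Subgroup ↥K} (F : KF U Z)
    (hs : Schreier.Basic.Sch ↥K) :
    ∃ T : Subgroup G, Defs.FrT t v K (U.map K.subtype) (Z.map K.subtype) T := by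
  obtain ⟨T, hT⟩ := fr0 S F.toKF0 hs
  refine ⟨T, hT, ?_⟩
  rintro _ ⟨z, hz, rfl⟩ _ ⟨z', hz', rfl⟩ hz1 hz1'
  obtain ⟨k, hk⟩ := F.trans z hz z' hz' (fun e => hz1 (by rw [e]; rfl)) (fun e => hz1' (by rw [e]; rfl))
  exact ⟨k, k.2, congrArg Subtype.val hk⟩

end Cfsg.Agent.OddHalf.D7Out.FrGen
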