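import Mathlib

/-!
# D7, the front: the facts inside `C(t)` (helper875; text: bb ODD 8710)

`t` an involution, `K` normal in `C(t)`, `C_{C(t)}(K) = R = ⟨v⟩` a cyclic `2`-group containing `t`, `T` a Sylow
`2`-subgroup of `C(t)`, `U = T ∩ K`, `Z = Z(U)` a root group; `T / R U` is the outer part.
-/

set_option autoImplicit false

namespace Cfsg.Agent.OddHalf.D7Out.Defs

open Subgroup

variable {G : Type*} [Group G]

/-- the frame of the front (for the transitivity of `K` on `Z#` see `FrT`) -/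
structure Fr (t v : G) (K U Z T : Subgroup G) : Prop where
  tt : t * t = 1
  t1 : t ≠ 1
  /-- `R = ⟨v⟩` is a `2`-group -/
  pR : IsPGroup 2 (zpowers v)
  tR : t ∈ zpowers v
  /-- `K` is normal in `C(t)` -/
  nK : ∀ g : G, g * t = t * g → g ∈ normalizer (K : Set G)
  /-- `R` centralizes `K` -/
  vK : ∀ x ∈ K, x * v = v * x
  /-- `C(K) ∩ C(t) = R` -/
  cK : ∀ c : G, c * t = t * c → (∀ x ∈ K, x * c = c * x) → c ∈ zpowers v
  /-- `K ∩ R = 1` -/
  KR : ∀ x ∈ K, x ∈ zpowers v → x = 1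
  pT : IsPGroup 2 T
  vT : v ∈ T
  tc : ∀ x ∈ T, x * t = t * x
  /-- `T` is a Sylow subgroup of `C(t)` -/
  max : ∀ P : Subgroup G, IsPGroup 2 P → T ≤ P → (∀ x ∈ P, x * t = t * x) → P ≤ T
  U_eq : U = T ⊓ K
  ZU : Z ≤ U
  Zc : ∀ z ∈ Z, ∀ u ∈ U, u * z = z * u
  Zsq : ∀ z ∈ Z, z * z = 1
  Z1 : Z ≠ ⊥
  /-- (T1s): `C_T(U) = R × Z` -/
  cU : ∀ x ∈ T, (∀ u ∈ U, x * u = u * x) → ∃ r ∈ zpowers v, ∃ z ∈ Z, x = r * z
  /-- `t` is not conjugate into `Z` -/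
  nconj : ∀ z ∈ Z, ∀ g : G, g * t * g⁻¹ ≠ z

/-- the frame of the front, `Z` a root group -/
structure FrT (t v : G) (K U Z T : Subgroup G) : Prop extends Fr t v K U Z T where
  /-- `K` is transitive on `Z#` -/
  trans : ∀ z ∈ Z, ∀ z' ∈ Z, z ≠ 1 → z' ≠ 1 → ∃ k ∈ K, k * z * k⁻¹ = z'

/-- `t` is isolated in `Z(T)`. -/
def Iso (t : G) (T : Subgroup G) : Prop :=
  ∀ g : G, g * t * g⁻¹ ∈ T → (∀ x ∈ T, x * (g * t * g⁻¹) = g * t * g⁻¹ * x) → g * t * g⁻¹ = t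

/-- elements of `T` inducing a field automorphism of order two (`lf y = τ` is the involution of the image of `lf`)
with square in `R` -/
def GoodY {t v : G} {T : Subgroup G} {A : Type*} [CommGroup A] (lf : centralizer ({t} : Set G) →* A)
    (hT : T ≤ centralizer ({t} : Set G)) (y : G) : Prop :=
  ∃ h : y ∈ T, lf ⟨y, hT h⟩ ≠ 1 ∧ lf ⟨y, hT h⟩ * lf ⟨y, hT h⟩ = 1 ∧ y * y ∈ zpowers v

/-- The field part of `C(t)`: a homomorphism `lf` from `C(t)` to a (cyclic `2`-)group, and the facts on the elements of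
`T` inducing an involutory field (or field × graph) automorphism. All are facts inside `T`. -/
structure Fld {t v : G} {K U Z T : Subgroup G} (F : Fr t v K U Z T) {A : Type*} [CommGroup A]
    (lf : centralizer ({t} : Set G) →* A) (hT : T ≤ centralizer ({t} : Set G)) : Prop where
  /-- `lf` is trivial on `K` and on `R` -/
  lK : ∀ x : centralizer ({t} : Set G), (x : G) ∈ K → lf x = 1
  lv : ∀ x : centralizer ({t} : Set G), (x : G) ∈ zpowers v → lf x = 1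
  /-- the image of `lf` is a cyclic `2`-group -/
  l2 : ∀ x, ∃ n : ℕ, lf x ^ 2 ^ n = 1
  lu : ∀ x y, lf x ≠ 1 → lf x * lf x = 1 → lf y ≠ 1 → lf y * lf y = 1 → lf x = lf y
  /-- (A) a good element of the coset `y U`, of order not greater than that of `y` -/
  good : ∀ (y : G) (h : y ∈ T), lf ⟨y, hT h⟩ ≠ 1 → lf ⟨y, hT h⟩ * lf ⟨y, hT h⟩ = 1 →
    ∃ y' : G, GoodY (v := v) lf hT y' ∧ orderOf y' ≤ orderOf y
  /-- (B) `C_T(C_U(y)) ∩ C(y) ≤ R ⟨y⟩ Z` -/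
  cent : ∀ y : G, GoodY (v := v) lf hT y → ∀ u ∈ T, u * y = y * u → (∀ x ∈ U, x * y = y * x → x * u = u * x) →
    ∃ r ∈ zpowers v, ∃ z ∈ Z, z * y = y * z ∧ (u = r * z ∨ u = y * r * z)
  /-- (C) `y z` is `U`-conjugate to `y` for `z ∈ C_Z(y)` -/
  conj : ∀ y : G, GoodY (v := v) lf hT y → ∀ z ∈ Z, z * y = y * z → ∃ k ∈ U, k * y * k⁻¹ = y * z
  /-- (D) `C_Z(y) ≤ C_U(y)'` -/
  der : ∀ y : G, GoodY (v := v) lf hT y → ∀ z ∈ Z, z * y = y * z →
    z ∈ ⁅U ⊓ centralizer ({y} : Set G), U ⊓ centralizer ({y} : Set G)⁆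

end Cfsg.Agent.OddHalf.D7Out.Defs
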