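import Cfsg.Agent.OddHalf.D7Out.TwChoice

/-!
# D7, outer 2-part: the frame group `Y` from facts on `K` (helper903)

`FrameFact Fr U` : facts on the group `K` alone about a family `Fr` of subgroups (the root subgroups of a frame);
`frY t K Fr` : the elements of `C(t)` which normalise every `Fr i`; `hyp_of` : `TwChoice.Hyp t v K (frY t K Fr) U`.
-/

set_option autoImplicit false

namespace Cfsg.Agent.OddHalf.D7Out.TwFrame

open Subgroup Cfsg.Agent.OddHalf TwChoice

/-- the facts on `K` about the frame `Fr` and the Sylow 2-subgroup `U` -/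
structure FrameFact {Y : Type*} [Group Y] {ι : Type*} (Fr : ι → Subgroup Y) (U : Subgroup Y) : Prop where
  pU : IsPGroup 2 ↥U
  maxU : ∀ P : Subgroup Y, IsPGroup 2 ↥P → U ≤ P → P ≤ U
  /-- `K` is transitive on the images of the frame under `Aut(K)` -/
  trans : ∀ α : MulAut Y, ∃ k : Y, ∀ i, ∀ x ∈ Fr i, k⁻¹ * α x * k ∈ Fr i
  /-- the stabiliser of the frame in `K` has odd order -/
  odd : ∀ x : Y, (∀ i, ∀ y ∈ Fr i, x * y * x⁻¹ ∈ Fr i) → x * x = 1 → x = 1
  /-- the stabiliser of the frame in `Aut(K)` normalises `U` -/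
  fix : ∀ α : MulAut Y, (∀ i, ∀ x ∈ Fr i, α x ∈ Fr i) → ∀ u ∈ U, α u ∈ U

/-- `FrameFact` is carried by isomorphisms -/
theorem FrameFact.map {Y Y' : Type*} [Group Y] [Group Y'] (e : Y ≃* Y') {ι : Type*} {Fr : ι → Subgroup Y}
    {U : Subgroup Y} (F : FrameFact Fr U) :
    FrameFact (fun i => (Fr i).map e.toMonoidHom) (U.map e.toMonoidHom) where
  pU := F.pU.map _
  maxU := by
    intro P hP hle
    have h1 : IsPGroup 2 ↥(P.map e.symm.toMonoidHom) := hP.map _
    have h2 := F.maxU _ h1 (fun u hu => ⟨e u, hle ⟨u, hu, rfl⟩, by simp⟩)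
    intro x hx
    exact ⟨e.symm x, h2 ⟨x, hx, rfl⟩, by simp⟩
  trans := by
    intro α
    obtain ⟨k, hk⟩ := F.trans (MulAut.congr e.symm α)
    refine ⟨e k, ?_⟩
    rintro i _ ⟨x, hx, rfl⟩
    have h1 : k⁻¹ * e.symm (α (e x)) * k ∈ Fr i := hk i x hx
    refine ⟨_, h1, ?_⟩
    show e (k⁻¹ * e.symm (α (e x)) * k) = (e k)⁻¹ * α (e x) * e k
    simp
  odd := by
    intro x hx hxx
    have h1 := F.odd (e.symm x) (by
      intro i y hy
      obtain ⟨z, hz, hze⟩ := hx i (e y) ⟨y, hy, rfl⟩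
      have h2 : e z = x * e y * x⁻¹ := hze
      have h3 : z = e.symm x * y * (e.symm x)⁻¹ := by
        apply e.injective
        rw [h2]
        simp
      rw [← h3]; exact hz) (by rw [← map_mul, hxx, map_one])
    rw [← e.apply_symm_apply x, h1, map_one]
  fix := by
    intro α hα
    rintro _ ⟨u, hu, rfl⟩
    have h1 := F.fix (MulAut.congr e.symm α) (by
      intro i x hx
      obtain ⟨z, hz, hze⟩ := hα i (e x) ⟨x, hx, rfl⟩
      have h2 : e z = α (e x) := hze
      show e.symm (α (e x)) ∈ Fr i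
      rw [← h2, e.symm_apply_apply]; exact hz) u hu
    have h2 : e.symm (α (e u)) ∈ U := h1
    exact ⟨_, h2, by show e (e.symm (α (e u))) = α (e u); simp⟩

variable {G : Type*} [Group G]

/-- the stabiliser in `C(t)` of the frame -/
def frY [Finite G] (t : G) (K : Subgroup G) {ι : Type*} (Fr : ι → Subgroup ↥K) : Subgroup G :=
  centralizer ({t} : Set G) ⊓ ⨅ i, normalizer (((Fr i).map K.subtype : Subgroup G) : Set G)

variable [Finite G] {t v : G} {K : Subgroup G} {ι : Type*} {Fr : ι → Subgroup ↥K} {U : Subgroup ↥K}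

theorem mem_frY {g : G} : g ∈ frY t K Fr ↔ g * t = t * g ∧
    ∀ i, ∀ x ∈ (Fr i).map K.subtype, g * x * g⁻¹ ∈ (Fr i).map K.subtype := by
  rw [frY, mem_inf, mem_centralizer_singleton_iff, mem_iInf]
  refine and_congr_right fun _ => forall_congr' fun i => ?_
  constructor
  · intro h x hx
    exact (mem_normalizer_iff.1 h x).1 hx
  · intro h
    exact mem_normalizer_of h

omit [Finite G] in
theorem conj_mem_iff {g : G} (hg : g ∈ normalizer (K : Set G)) {A B : Subgroup ↥K} :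
    (∀ x ∈ A.map K.subtype, g * x * g⁻¹ ∈ B.map K.subtype) ↔ ∀ x ∈ A, FrGen.cjK hg x ∈ B := by
  constructor
  · intro h x hx
    obtain ⟨y, hy, he⟩ := h x ⟨x, hx, rfl⟩
    have h1 : y = FrGen.cjK hg x := Subtype.ext he
    rw [← h1]; exact hy
  · rintro h _ ⟨x, hx, rfl⟩
    exact ⟨_, h x hx, rfl⟩

/-- **The input of `TwChoice` from the facts on `K`** -/
theorem hyp_of (S : Front.FE.Start0 K t v) (F : FrameFact Fr U) :
    TwChoice.Hyp t v K (frY t K Fr) (U.map K.subtype) where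
  Yt y hy := (mem_frY.1 hy).1
  vY := by
    rw [mem_frY]
    refine ⟨S.Qt v (mem_zpowers v), ?_⟩
    rintro i _ ⟨x, hx, rfl⟩
    refine ⟨x, hx, ?_⟩
    show (x : G) = v * x * v⁻¹
    rw [← S.qK x x.2, mul_inv_cancel_right]
  KY := by
    intro g hg
    have hgN := S.nK g hg
    obtain ⟨k, hk⟩ := F.trans (FrGen.cjK hgN)
    have hkt := S.Kt k k.2
    refine ⟨k, k.2, (k : G)⁻¹ * g, ?_, by group⟩
    rw [mem_frY]
    refine ⟨(Commute.mul_left (Commute.inv_left hkt) hg).eq, ?_⟩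
    rintro i _ ⟨x, hx, rfl⟩
    refine ⟨_, hk i x hx, ?_⟩
    show (k : G)⁻¹ * (g * x * g⁻¹) * k = (k : G)⁻¹ * g * x * ((k : G)⁻¹ * g)⁻¹
    group
  odd := by
    intro x hxK hxY hxx
    have h1 := F.odd ⟨x, hxK⟩ (by
      intro i y hy
      obtain ⟨z, hz, he⟩ := (mem_frY.1 hxY).2 i y ⟨y, hy, rfl⟩
      have h2 : z = ⟨x, hxK⟩ * y * ⟨x, hxK⟩⁻¹ := Subtype.ext he
      rw [← h2]; exact hz) (Subtype.ext hxx)
    exact congrArg Subtype.val h1
  UK := map_subtype_le _
  pU := F.pU.map _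
  maxU := by
    intro P hP hle hPK
    have h1 : IsPGroup 2 ↥(P.subgroupOf K) := hP.comap_of_injective K.subtype K.subtype_injective
    have h2 := F.maxU _ h1 (fun x hx => hle ⟨x, hx, rfl⟩)
    intro x hx
    have h3 : (⟨x, hPK hx⟩ : ↥K) ∈ P.subgroupOf K := hx
    exact ⟨_, h2 h3, rfl⟩
  YU := by
    intro y hy
    obtain ⟨hyt, hyi⟩ := mem_frY.1 hy
    have hyN := S.nK y hyt
    exact (conj_mem_iff hyN).2 (F.fix (FrGen.cjK hyN) fun i => (conj_mem_iff hyN).1 (hyi i))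

/-- **The choice of `T = U P`** from the facts on `K` -/
theorem exists_out (S : Front.FE.Start0 K t v) (F : FrameFact Fr U) :
    ∃ P : Subgroup G, TwChoice.Out t v K (frY t K Fr) (U.map K.subtype) P (U.map K.subtype ⊔ P) :=
  TwChoice.exists_out S (hyp_of S F)

/-- a subgroup of `K` which is invariant under the stabiliser of the frame in `Aut(K)` is normalised by `P` -/
theorem normalises {Y P T W : Subgroup G} (S : Front.FE.Start0 K t v)
    (O : TwChoice.Out t v K Y W P T) (hY : Y = frY t K Fr) {A : Subgroup ↥K}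
    (hA : ∀ α : MulAut ↥K, (∀ i, ∀ x ∈ Fr i, α x ∈ Fr i) → ∀ a ∈ A, α a ∈ A) :
    ∀ p ∈ P, ∀ x ∈ A.map K.subtype, p * x * p⁻¹ ∈ A.map K.subtype := by
  intro p hp
  have h1 := O.PY hp
  rw [hY] at h1
  obtain ⟨hpt, hpi⟩ := mem_frY.1 h1
  have hpN := S.nK p hpt
  exact (conj_mem_iff hpN).2 (hA (FrGen.cjK hpN) fun i => (conj_mem_iff hpN).1 (hpi i))

end Cfsg.Agent.OddHalf.D7Out.TwFrame
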