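import Mathlib

/-!
# Subgroups generated by elements of odd order (helper552; ODD D7, outer 2-part, piece O9)

`OddGen P`: `P` is generated by elements of odd order. `mem_of_oddGen`: if `K` is normal in `C(t)`, `t ∉ K`, and
a Sylow 2-subgroup `T` of `C(t)` is `⟨y⟩⟨t⟩(T ∩ K)`, every 2-element of a subgroup `P ≤ C(t)` with `OddGen P` lies in `K`.
-/

set_option autoImplicit false

namespace Cfsg.Agent.OddHalf.D7Out.OddGen

open Subgroup

variable {G : Type*} [Group G]

/-- The elements of odd order. -/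
def oddElts (G : Type*) [Group G] : Set G := {x | Odd (orderOf x)}

/-- `P` is generated by elements of odd order. -/
def OddGen (P : Subgroup G) : Prop := P ≤ closure {x | x ∈ P ∧ Odd (orderOf x)}

theorem OddGen.eq {P : Subgroup G} (h : OddGen P) : closure {x | x ∈ P ∧ Odd (orderOf x)} = P :=
  le_antisymm ((closure_le _).2 fun _ hx => hx.1) h

theorem OddGen.le_oddElts {P : Subgroup G} (h : OddGen P) : P ≤ closure (oddElts G) :=
  h.trans (closure_mono fun _ hx => hx.2)

/-- A subgroup generated by a set of elements of odd order. -/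
theorem oddGen_closure {S : Set G} (h : ∀ x ∈ S, Odd (orderOf x)) : OddGen (closure S) :=
  closure_mono fun x hx => ⟨subset_closure hx, h x hx⟩

/-- Images. -/
theorem OddGen.map {H : Type*} [Group H] {P : Subgroup G} (h : OddGen P) (f : G →* H) : OddGen (P.map f) := by
  intro y hy
  obtain ⟨x, hx, rfl⟩ := hy
  have h1 : closure {x | x ∈ P ∧ Odd (orderOf x)} ≤ (closure {y | y ∈ P.map f ∧ Odd (orderOf y)}).comap f := by
    rw [closure_le]
    rintro z ⟨hz, hzo⟩
    exact subset_closure ⟨⟨z, hz, rfl⟩, Odd.of_dvd_nat hzo (orderOf_map_dvd f z)⟩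
  exact h1 (h hx)

/-- Conjugates. -/
theorem OddGen.conj {P : Subgroup G} (h : OddGen P) (g : G) : OddGen (P.map (MulAut.conj g).toMonoidHom) := h.map _

/-- Preimages under an injective map. -/
theorem OddGen.comap {H : Type*} [Group H] {P : Subgroup H} (h : OddGen P) (f : G →* H)
    (hf : Function.Injective f) (hP : P ≤ f.range) : OddGen (P.comap f) := by
  intro x hx
  have h1 : P ≤ (closure {x | x ∈ P.comap f ∧ Odd (orderOf x)}).map f := by
    refine h.trans ?_
    rw [closure_le]
    rintro y ⟨hy, hyo⟩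
    obtain ⟨z, rfl⟩ := hP hy
    exact ⟨z, subset_closure ⟨hy, by rwa [orderOf_injective f hf] at hyo⟩, rfl⟩
  obtain ⟨z, hz, hzx⟩ := h1 (show f x ∈ P from hx)
  rwa [hf hzx] at hz

/-- A group homomorphism to a 2-group kills the elements of odd order. -/
theorem eq_one_of_odd {H : Type*} [Group H] (hH : IsPGroup 2 H) {x : H} (hx : Odd (orderOf x)) : x = 1 := by
  obtain ⟨k, hk⟩ := hH x
  have h1 : orderOf x ∣ 2 ^ k := orderOf_dvd_of_pow_eq_one hk
  have h2 : Nat.Coprime (orderOf x) (2 ^ k) := (Nat.coprime_two_right.2 hx).pow_right k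
  have h3 : orderOf x = 1 := Nat.eq_one_of_dvd_coprimes h2 dvd_rfl h1
  exact orderOf_eq_one_iff.1 h3

theorem eq_one_of_odd_card [Finite G] (hG : ¬ 2 ∣ Nat.card G) {x : G} {k : ℕ} (hx : x ^ 2 ^ k = 1) : x = 1 := by
  have h1 : orderOf x ∣ 2 ^ k := orderOf_dvd_of_pow_eq_one hx
  have h2 : orderOf x ∣ Nat.card G := orderOf_dvd_natCard x
  have h3 : Nat.Coprime (Nat.card G) (2 ^ k) :=
    ((Nat.Prime.coprime_iff_not_dvd Nat.prime_two).2 hG).symm.pow_right k
  have h4 : orderOf x = 1 := Nat.eq_one_of_dvd_coprimes h3 h2 h1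
  exact orderOf_eq_one_iff.1 h4

/-- In a group with a cyclic Sylow 2-subgroup, a 2-element which is a product of elements of odd order is trivial. -/
theorem eq_one_of_cyclic [Finite G] (Q : Sylow 2 G) (hQ : IsCyclic Q) {x : G}
    (hx : x ∈ closure (oddElts G)) {k : ℕ} (hk : x ^ 2 ^ k = 1) : x = 1 := by
  have : Fact (Nat.Prime 2) := ⟨Nat.prime_two⟩
  by_cases h2 : 2 ∣ Nat.card G
  · have hm : (Nat.card G).minFac = 2 := (Nat.minFac_eq_two_iff _).2 h2
    have hN : normalizer (Q : Set G) ≤ centralizer (Q : Set G) := hQ.normalizer_le_centralizer hm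
    have h1 : closure (oddElts G) ≤ (MonoidHom.transferSylow Q hN).ker := by
      rw [closure_le]
      intro y hy
      show MonoidHom.transferSylow Q hN y = 1
      exact eq_one_of_odd Q.isPGroup' (Odd.of_dvd_nat hy (orderOf_map_dvd _ y))
    have h3 := MonoidHom.not_dvd_card_ker_transferSylow Q hN
    have h4 : (⟨x, h1 hx⟩ : (MonoidHom.transferSylow Q hN).ker) = 1 :=
      eq_one_of_odd_card h3 (k := k) (Subtype.ext hk)
    exact congrArg Subtype.val h4
  · exact eq_one_of_odd_card h2 hk

/-- The same modulo a normal subgroup. -/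
theorem mem_of_cyclic_mod [Finite G] {N T : Subgroup G} [N.Normal] (hT : IsPGroup 2 T) (hT2 : ¬ 2 ∣ T.index)
    {y : G} (hcyc : T ≤ zpowers y ⊔ N) {x : G} (hx : x ∈ closure (oddElts G)) {k : ℕ} (hk : x ^ 2 ^ k = 1) :
    x ∈ N := by
  have : Fact (Nat.Prime 2) := ⟨Nat.prime_two⟩
  let f := QuotientGroup.mk' N
  have hf : Function.Surjective f := QuotientGroup.mk'_surjective N
  have hidx : ¬ 2 ∣ (T.map f).index := by
    intro h
    exact hT2 (h.trans (index_map_dvd T hf))
  have hp : IsPGroup 2 (T.map f) := hT.map f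
  let Q : Sylow 2 (G ⧸ N) := hp.toSylow hidx
  have hQ : (Q : Subgroup (G ⧸ N)) ≤ zpowers (f y) := by
    show T.map f ≤ _
    rintro _ ⟨z, hz, rfl⟩
    have h1 := hcyc hz
    rw [mem_sup_of_normal_right] at h1
    obtain ⟨a, ha, b, hb, rfl⟩ := h1
    obtain ⟨m, rfl⟩ := mem_zpowers_iff.1 ha
    have h2 : f b = 1 := (QuotientGroup.eq_one_iff b).2 hb
    rw [map_mul, h2, mul_one, map_zpow]
    exact zpow_mem (mem_zpowers _) m
  have hc : IsCyclic Q := by
    have h1 : IsCyclic (zpowers (f y)) := inferInstance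
    exact isCyclic_of_injective (Subgroup.inclusion hQ) (Subgroup.inclusion_injective hQ)
  have h3 : f x ∈ closure (oddElts (G ⧸ N)) := by
    have h4 : closure (oddElts G) ≤ (closure (oddElts (G ⧸ N))).comap f := by
      rw [closure_le]
      intro z hz
      exact subset_closure (Odd.of_dvd_nat hz (orderOf_map_dvd f z))
    exact h4 hx
  have h5 := eq_one_of_cyclic Q hc h3 (k := k) (by rw [← map_pow, hk, map_one])
  exact (QuotientGroup.eq_one_iff x).1 h5

/-- A central involution `t` of odd index modulo ... : products of elements of odd order are not `t`. -/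
theorem ne_of_central [Finite G] {t : G} (tt : t * t = 1) (t1 : t ≠ 1) (hc : ∀ x, x * t = t * x)
    (hidx : ¬ 2 ∣ (zpowers t).index) : t ∉ closure (oddElts G) := by
  intro ht
  have htc : t ∈ center G := mem_center_iff.2 hc
  have hle : zpowers t ≤ center G := by rw [zpowers_le]; exact htc
  have hodd : ¬ 2 ∣ (center G).index := fun h => hidx (h.trans (index_dvd_of_le hle))
  have h1 : closure (oddElts G) ≤ (closure (oddElts (center G))).comap (MonoidHom.transferCenterPow G) := by
    rw [closure_le]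
    intro z hz
    exact subset_closure (Odd.of_dvd_nat hz (orderOf_map_dvd _ z))
  have h2 := h1 ht
  rw [mem_comap] at h2
  -- products of odd order elements of an abelian group have odd order
  have h3 : ∀ z ∈ closure (oddElts (center G)), Odd (orderOf z) := by
    intro z hz
    induction hz using closure_induction with
    | mem x hx => exact hx
    | one => rw [orderOf_one]; exact odd_one
    | mul a b _ _ ha hb =>
      have hab : Commute a b := Subtype.ext (mem_center_iff.1 b.2 (a : G))
      exact Odd.of_dvd_nat (ha.mul hb) hab.orderOf_mul_dvd_mul_orderOf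
    | inv a _ ha => rwa [orderOf_inv]
  have h4 := h3 _ h2
  have h5 : (MonoidHom.transferCenterPow G t : G) = t := by
    rw [MonoidHom.transferCenterPow_apply]
    obtain ⟨m, hm⟩ : Odd (center G).index := by
      rw [← Nat.not_even_iff_odd]
      intro h
      exact hodd h.two_dvd
    rw [hm, pow_succ, pow_mul, pow_two, tt, one_pow, one_mul]
  have h6 : orderOf (MonoidHom.transferCenterPow G t) = 2 := by
    rw [← Subgroup.orderOf_coe, h5]
    exact orderOf_eq_prime (by rw [pow_two, tt]) t1
  rw [h6] at h4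
  exact absurd h4 (by decide)

/-- **The class of subgroups generated by elements of odd order.** `K` normal, `t` central, `t ∉ K`, `T` a Sylow
2-subgroup with `T ≤ ⟨y⟩⟨t⟩K`: a 2-element which is a product of elements of odd order lies in `K`. -/
theorem mem_of_closure [Finite G] {t : G} {K T : Subgroup G} [K.Normal] (tt : t * t = 1) (tK : t ∉ K)
    (hc : ∀ x, x * t = t * x) (hT : IsPGroup 2 T) (hT2 : ¬ 2 ∣ T.index) {y : G}
    (hcyc : T ≤ zpowers y ⊔ (zpowers t ⊔ K)) {x : G} (hx : x ∈ closure (oddElts G)) {k : ℕ}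
    (hk : x ^ 2 ^ k = 1) : x ∈ K := by
  have : Fact (Nat.Prime 2) := ⟨Nat.prime_two⟩
  have hZn : (zpowers t).Normal := by
    refine ⟨fun z hz g => ?_⟩
    obtain ⟨m, rfl⟩ := mem_zpowers_iff.1 hz
    have h1 : Commute g (t ^ m) := ((show Commute g t from hc g)).zpow_right m
    have h2 : g * t ^ m * g⁻¹ = t ^ m := by rw [h1.eq]; group
    rw [h2]
    exact zpow_mem (mem_zpowers _) m
  set N := zpowers t ⊔ K with hN
  have hNn : N.Normal := Subgroup.sup_normal _ _
  -- the subgroup `O = closure (oddElts G)` and its intersection with `N`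
  set O := closure (oddElts G) with hO
  have hOx : ∀ z ∈ O, ∀ j : ℕ, z ^ 2 ^ j = 1 → z ∈ N := fun z hz j hj =>
    mem_of_cyclic_mod hT hT2 hcyc hz hj
  have hOn : O.Normal := by
    refine ⟨fun z hz g => ?_⟩
    have h1 : O ≤ O.comap (MulAut.conj g).toMonoidHom := by
      rw [hO, closure_le]
      intro a ha
      exact subset_closure (Odd.of_dvd_nat ha (orderOf_map_dvd _ a))
    exact h1 hz
  -- `M = O N`, `M / K` has the central involution `t K` of odd index
  set M := O ⊔ N with hM
  have hKM : K ≤ M := le_sup_right.trans le_sup_right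
  have htM : t ∈ M := (le_sup_right : N ≤ O ⊔ N) (le_sup_left (a := zpowers t) (b := K) (mem_zpowers t))
  let KM := K.subgroupOf M
  have hKMn : KM.Normal := inferInstance
  let f : M →* M ⧸ KM := QuotientGroup.mk' KM
  have hf : Function.Surjective f := QuotientGroup.mk'_surjective KM
  let t' : M := ⟨t, htM⟩
  have hft1 : f t' ≠ 1 := by
    intro h
    have h1 : t' ∈ KM := (QuotientGroup.eq_one_iff t').1 h
    exact tK (mem_subgroupOf.1 h1)
  have hftt : f t' * f t' = 1 := by
    rw [← map_mul]
    have : t' * t' = 1 := Subtype.ext tt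
    rw [this, map_one]
  have hftc : ∀ z, z * f t' = f t' * z := by
    intro z
    obtain ⟨z, rfl⟩ := hf z
    rw [← map_mul, ← map_mul]
    congr 1
    exact Subtype.ext (hc z)
  have hxO : x ∈ O := hx
  -- the index of `⟨t K⟩` is odd
  have hidx : ¬ 2 ∣ (zpowers (f t')).index := by
    intro h
    -- an involution outside ... : take a 2-element of `M` outside `N`
    obtain ⟨P⟩ : Nonempty (Sylow 2 M) := inferInstance
    have hPN : (P : Subgroup M) ≤ N.subgroupOf M := by
      intro z hz
      obtain ⟨j, hj⟩ := P.isPGroup' ⟨z, hz⟩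
      have hj' : (z : G) ^ 2 ^ j = 1 := by
        have := congrArg Subtype.val (congrArg Subtype.val hj)
        simpa using this
      rw [mem_subgroupOf]
      -- `z = o n`, `o ∈ O`, `n ∈ N`; modulo `N` it is in the closure of the odd elements of `G ⧸ N`
      obtain ⟨o, ho, n, hn, hon⟩ := mem_sup_of_normal_right.1 (show (z : G) ∈ O ⊔ N from z.2)
      let g := QuotientGroup.mk' N
      have hg : Function.Surjective g := QuotientGroup.mk'_surjective N
      have hgz : g (z : G) = g o := by
        have h2 : g n = 1 := (QuotientGroup.eq_one_iff n).2 hn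
        rw [← hon, map_mul, h2, mul_one]
      have hgO : g o ∈ closure (oddElts (G ⧸ N)) := by
        have h4 : closure (oddElts G) ≤ (closure (oddElts (G ⧸ N))).comap g := by
          rw [closure_le]
          intro z hz
          exact subset_closure (Odd.of_dvd_nat hz (orderOf_map_dvd g z))
        exact h4 ho
      have hidx' : ¬ 2 ∣ (T.map g).index := fun h' => hT2 (h'.trans (index_map_dvd T hg))
      have h5 : g (z : G) ∈ (⊥ : Subgroup (G ⧸ N)) := by
        refine mem_of_cyclic_mod (N := ⊥) (T := T.map g) (hT.map g) hidx' (y := g y) ?_ (hgz ▸ hgO)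
          (k := j) ?_
        · rintro _ ⟨a, ha, rfl⟩
          have h1 := hcyc ha
          rw [mem_sup_of_normal_right] at h1
          obtain ⟨b, hb, c, hc', rfl⟩ := h1
          obtain ⟨m, rfl⟩ := mem_zpowers_iff.1 hb
          have h2 : g c = 1 := (QuotientGroup.eq_one_iff c).2 hc'
          rw [map_mul, h2, mul_one, map_zpow]
          exact mem_sup_left (zpow_mem (mem_zpowers _) m)
        · rw [← map_pow, hj', map_one]
      rw [mem_bot] at h5
      exact (QuotientGroup.eq_one_iff (z : G)).1 h5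
    have h1 : ¬ 2 ∣ (N.subgroupOf M).index := fun h' => P.not_dvd_index (h'.trans (index_dvd_of_le hPN))
    apply h1
    -- `zpowers (f t')` pulled back is `N`
    have h2 : (zpowers (f t')).comap f = N.subgroupOf M := by
      ext z
      rw [mem_comap, mem_subgroupOf]
      constructor
      · intro hz
        obtain ⟨m, hm⟩ := mem_zpowers_iff.1 hz
        rw [← map_zpow] at hm
        have h3 : (t' ^ m)⁻¹ * z ∈ KM := (QuotientGroup.eq).1 hm
        rw [mem_subgroupOf] at h3
        have h4 : (z : G) = t ^ m * (((t' ^ m)⁻¹ * z : M) : G) := by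
          simp [t']
        rw [h4]
        exact mul_mem (mem_sup_left (zpow_mem (mem_zpowers _) m)) (mem_sup_right h3)
      · intro hz
        rw [hN, mem_sup_of_normal_right] at hz
        obtain ⟨a, ha, b, hb, hab⟩ := hz
        obtain ⟨m, rfl⟩ := mem_zpowers_iff.1 ha
        have hbM : b ∈ M := hKM hb
        have h3 : z = t' ^ m * ⟨b, hbM⟩ := Subtype.ext (by simp [t', hab])
        have h4 : f ⟨b, hbM⟩ = 1 := (QuotientGroup.eq_one_iff _).2 (mem_subgroupOf.2 hb)
        rw [h3, map_mul, h4, mul_one, map_zpow]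
        exact zpow_mem (mem_zpowers _) m
    rw [← h2, index_comap_of_surjective _ hf]
    exact h
  have hne := ne_of_central hftt hft1 hftc hidx
  -- `x ∈ N`, and `x = t k` is impossible
  have hxN := hOx x hxO k hk
  rw [hN, mem_sup_of_normal_right] at hxN
  obtain ⟨a, ha, b, hb, hab⟩ := hxN
  obtain ⟨m, rfl⟩ := mem_zpowers_iff.1 ha
  have htm : t ^ m = 1 ∨ t ^ m = t := by
    have ht2 : t ^ (2 : ℤ) = 1 := by rw [zpow_two, tt]
    rcases Int.even_or_odd' m with ⟨j, rfl | rfl⟩
    · left; rw [zpow_mul, ht2, one_zpow]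
    · right; rw [zpow_add, zpow_mul, ht2, one_zpow, one_mul, zpow_one]
  rcases htm with h1 | h1
  · rw [h1, one_mul] at hab; rwa [← hab]
  · exfalso
    apply hne
    rw [h1] at hab
    have hxM : x ∈ M := le_sup_left (a := O) (b := N) hxO
    have hbM : b ∈ M := hKM hb
    have h2 : (⟨x, hxM⟩ : M) = t' * ⟨b, hbM⟩ := Subtype.ext hab.symm
    have h3 : f ⟨b, hbM⟩ = 1 := (QuotientGroup.eq_one_iff _).2 (mem_subgroupOf.2 hb)
    have h4 : f ⟨x, hxM⟩ = f t' := by rw [h2, map_mul, h3, mul_one]
    rw [← h4]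
    -- `x` is a product of elements of odd order of `M`
    have h5 : O ≤ ((closure (oddElts (M ⧸ KM))).comap f).map M.subtype := by
      rw [hO, closure_le]
      intro z hz
      have hzM : z ∈ M := le_sup_left (a := O) (b := N) (subset_closure hz)
      refine ⟨⟨z, hzM⟩, ?_, rfl⟩
      refine subset_closure ?_
      show Odd (orderOf (f ⟨z, hzM⟩))
      refine Odd.of_dvd_nat ?_ (orderOf_map_dvd f _)
      rw [Subgroup.orderOf_mk]
      exact hz
    obtain ⟨z, hz, hzx⟩ := h5 hxO
    have h6 : z = ⟨x, hxM⟩ := Subtype.ext hzx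
    rw [← h6]
    exact hz

/-- **`mem_of_oddGen`.** In `G`: `K ≤ C(t)` normalised by `C(t)`, `t² = 1`, `t ∉ K`, `T` a Sylow 2-subgroup of `C(t)`
with `T ≤ ⟨y⟩⟨t⟩K`. If `P ≤ C(t)` is generated by elements of odd order, the 2-elements of `P` lie in `K`. -/
theorem mem_of_oddGen [Finite G] {t : G} {K T : Subgroup G} (tt : t * t = 1) (tK : t ∉ K)
    (K_t : ∀ x ∈ K, x * t = t * x) (hKn : ∀ c, c * t = t * c → ∀ x ∈ K, c * x * c⁻¹ ∈ K)
    (hT : IsPGroup 2 T) (hTt : ∀ x ∈ T, x * t = t * x) (hodd : ¬ 2 ∣ T.relIndex (centralizer ({t} : Set G)))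
    {y : G} (hy : y ∈ T) (hcyc : T ≤ zpowers y ⊔ (zpowers t ⊔ K))
    {P : Subgroup G} (hP : OddGen P) (hPt : ∀ x ∈ P, x * t = t * x) {x : G} (hx : x ∈ P) {k : ℕ}
    (hk : x ^ 2 ^ k = 1) : x ∈ K := by
  set C := centralizer ({t} : Set G) with hC
  have hmem : ∀ {z : G}, z ∈ C ↔ z * t = t * z := fun {z} => mem_centralizer_singleton_iff
  have hKC : K ≤ C := fun z hz => hmem.2 (K_t z hz)
  have hTC : T ≤ C := fun z hz => hmem.2 (hTt z hz)
  have hPC : P ≤ C := fun z hz => hmem.2 (hPt z hz)
  have htC : t ∈ C := hmem.2 rfl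
  have hKn' : (K.subgroupOf C).Normal := by
    refine ⟨fun z hz g => ?_⟩
    rw [mem_subgroupOf] at hz ⊢
    exact hKn g (hmem.1 g.2) z hz
  have h1 := mem_of_closure (G := C) (t := ⟨t, htC⟩) (K := K.subgroupOf C) (T := T.subgroupOf C)
    (Subtype.ext tt) (fun h => tK (mem_subgroupOf.1 h)) (fun z => Subtype.ext (hmem.1 z.2))
    (hT.comap_of_injective C.subtype C.subtype_injective) hodd (y := ⟨y, hTC hy⟩) ?_
    (x := ⟨x, hPC hx⟩) ?_ (k := k) (Subtype.ext hk)
  · exact mem_subgroupOf.1 h1
  · intro z hz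
    rw [mem_subgroupOf] at hz
    have h2 := hcyc hz
    have e : zpowers y ⊔ (zpowers t ⊔ K) =
        (zpowers (⟨y, hTC hy⟩ : C) ⊔ (zpowers (⟨t, htC⟩ : C) ⊔ K.subgroupOf C)).map C.subtype := by
      rw [Subgroup.map_sup, Subgroup.map_sup, MonoidHom.map_zpowers, MonoidHom.map_zpowers,
        subgroupOf_map_subtype, inf_eq_left.2 hKC]
      rfl
    rw [e] at h2
    obtain ⟨w, hw, hwz⟩ := h2
    have h3 : w = z := Subtype.ext hwz
    rwa [← h3]
  · have h2 : OddGen (P.subgroupOf C) := by
      apply OddGen.comap hP C.subtype C.subtype_injective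
      rw [C.range_subtype]; exact hPC
    exact h2.le_oddElts (mem_subgroupOf.2 hx)

end Cfsg.Agent.OddHalf.D7Out.OddGen
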