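import Mathlib
import Cfsg.Agent.SignalizersComponents.CompBasic
import Cfsg.Agent.SignalizersComponents.PConstrained
import Cfsg.Agent.Lib.GenFitting

/-!
# ODD half, D7, outer 2-part: THEOREM H of helper875 (bb 8710), steps (1)-(4)

`H` is the centraliser of the involution `z` (as a group, `z` central), `O(H) = 1`, `t` an involution of `H`,
`P` the largest perfect subgroup of `C_H(t)`, `Q ≤ P` a 2-group, `Z ≤ Q` with `z ∈ Z`, `V ≥ Z` elementary abelian
(the doubled root group `W_ρ`) with `C_V(t) = [V, t] = Z`, `[V, P] = 1`. Nothing on `P` is used except the facts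
in `Data`.

* `Data.comp_t`: `t` leaves every component of `H` invariant; `Data.P_normalises`: so does `P`.
* `Data.P_le`: a component which is not centralised by `P` contains `P`.
* `Data.le_V`: a `t`-invariant 2-subgroup centralising `P` and `V` is contained in `V`.
* `Data.component`: a component `E` of `H` is the only one, it contains `P` and `V`, `C_H(E) ≤ E`, `O₂(H) ≤ V`.
-/

set_option autoImplicit false
set_option linter.style.haveILetI false

namespace Cfsg.Agent.OddHalf.D7Out.Cz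

open Subgroup Cfsg
open Cfsg.Agent.SignalizersComponents.Components Cfsg.Agent.SignalizersComponents.CompBasic
open scoped commutatorElement

universe u

variable {H : Type u} [Group H]

/-! ### Tools -/

theorem eq_bot_of_perfect_solvable {D : Subgroup H} (hD : ⁅D, D⁆ = D) (hs : Group.IsSolvable D) : D = ⊥ := by
  have h1 : commutator D = ⊤ := by
    have h3 : (commutator D).map D.subtype = D := by
      rw [_root_.commutator_def, map_commutator, ← MonoidHom.range_eq_map, D.range_subtype, hD]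
    have h4 : (⊤ : Subgroup D).map D.subtype = D := by
      rw [← MonoidHom.range_eq_map, D.range_subtype]
    exact map_injective D.subtype_injective (h3.trans h4.symm)
  obtain ⟨n, hn⟩ := hs.solvable
  have h2' : ∀ k, derivedSeries D k = ⊤ := by
    intro k
    induction k with
    | zero => rfl
    | succ k ih => rw [derivedSeries_succ, ih, ← _root_.commutator_def, h1]
  rw [h2'] at hn
  have : (⊤ : Subgroup D).map D.subtype = ⊥ := by rw [hn, Subgroup.map_bot]
  rwa [← MonoidHom.range_eq_map, D.range_subtype] at this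

theorem eq_bot_of_perfect_comm {D : Subgroup H} (hD : ⁅D, D⁆ = D) (hs : ∀ a ∈ D, ∀ b ∈ D, a * b = b * a) :
    D = ⊥ := by
  rw [← hD, commutator_eq_bot_iff_le_centralizer]
  intro a ha
  exact mem_centralizer_iff.2 fun b hb => hs b hb a ha

/-- a perfect subgroup of `R K`, `R` solvable and normalising `K`, is contained in `K` -/
theorem le_of_perfect_of_le_sup {E R K : Subgroup H} (hE : ⁅E, E⁆ = E) (hR : Group.IsSolvable R)
    (hn : R ≤ normalizer (K : Set H)) (hle : E ≤ R ⊔ K) : E ≤ K := by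
  set N : Subgroup H := normalizer (K : Set H) with hN
  have hKN : K ≤ N := le_normalizer
  have hEN : E ≤ N := hle.trans (sup_le hn hKN)
  haveI : (K.subgroupOf N).Normal := normal_subgroupOf_of_le_normalizer le_rfl
  set π : N →* N ⧸ K.subgroupOf N := QuotientGroup.mk' (K.subgroupOf N) with hπ
  have h1 : (E.subgroupOf N).map π ≤ (R.subgroupOf N).map π := by
    have h2 : E.subgroupOf N ≤ R.subgroupOf N ⊔ K.subgroupOf N := by
      rw [← subgroupOf_sup hn hKN]
      exact comap_mono hle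
    refine (map_mono h2).trans ?_
    rw [Subgroup.map_sup]
    refine sup_le le_rfl ?_
    have h3 : (K.subgroupOf N).map π = ⊥ := by
      rw [Subgroup.map_eq_bot_iff, hπ, QuotientGroup.ker_mk']
    rw [h3]
    exact bot_le
  have h4 : ⁅(E.subgroupOf N).map π, (E.subgroupOf N).map π⁆ = (E.subgroupOf N).map π := by
    rw [← map_commutator]
    congr 1
    apply map_injective N.subtype_injective
    rw [map_commutator, subgroupOf_map_subtype, inf_eq_left.2 hEN, hE]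
  have h5 : Group.IsSolvable ((R.subgroupOf N).map π) := by
    have h6 : Group.IsSolvable (R.subgroupOf N) :=
      Group.isSolvable_of_isSolvable_injective (f := (subgroupOfEquivOfLe hn).toMonoidHom)
        (subgroupOfEquivOfLe hn).injective
    exact Group.isSolvable_of_surjective (f := (π.subgroupMap (R.subgroupOf N)))
      (π.subgroupMap_surjective (R.subgroupOf N))
  have h7 : Group.IsSolvable ((E.subgroupOf N).map π) :=
    Group.isSolvable_of_isSolvable_injective (f := inclusion h1) (inclusion_injective h1)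
  have h8 := eq_bot_of_perfect_solvable h4 h7
  rw [Subgroup.map_eq_bot_iff, hπ, QuotientGroup.ker_mk'] at h8
  intro x hx
  exact mem_subgroupOf.1 (h8 (mem_subgroupOf.2 (show ((⟨x, hEN hx⟩ : N) : H) ∈ E from hx)))

/-- a 2-group `S` with an involution `t` acting on it, `F < S` invariant: `t` fixes a coset `s F ≠ F`. -/
theorem exists_fixed_mod [Finite H] {S F : Subgroup H} (hS : IsPGroup 2 S) (hne : ¬ S ≤ F) {t : H}
    (tt : t * t = 1) (tS : ∀ s ∈ S, t * s * t⁻¹ ∈ S) (tF : ∀ f ∈ F, t * f * t⁻¹ ∈ F) :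
    ∃ s ∈ S, s ∉ F ∧ s⁻¹ * (t * s * t⁻¹) ∈ F := by
  classical
  set F' : Subgroup S := F.subgroupOf S with hF'
  have hti : t⁻¹ = t := inv_eq_of_mul_eq_one_left tt
  let g : S ⧸ F' → S ⧸ F' := Quotient.map' (fun s => ⟨t * s * t⁻¹, tS s s.2⟩) (by
    intro a b hab
    rw [QuotientGroup.leftRel_apply] at hab ⊢
    have h1 : ((a : H)⁻¹ * (b : H)) ∈ F := mem_subgroupOf.1 hab
    rw [mem_subgroupOf]
    have h2 := tF _ h1
    have e : t * ((a : H)⁻¹ * (b : H)) * t⁻¹ = (t * a * t⁻¹)⁻¹ * (t * b * t⁻¹) := by group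
    rw [e] at h2
    exact h2)
  have hg : Function.Involutive g := by
    intro x
    induction x using QuotientGroup.induction_on with
    | H x =>
      show ((⟨t * (t * x * t⁻¹) * t⁻¹, _⟩ : S) : S ⧸ F') = (x : S ⧸ F')
      congr 1
      apply Subtype.ext
      show t * (t * (x : H) * t⁻¹) * t⁻¹ = x
      rw [hti]
      calc t * (t * (x : H) * t) * t = (t * t) * x * (t * t) := by group
        _ = x := by rw [tt]; group
  set σ : Equiv.Perm (S ⧸ F') := hg.toPerm with hσ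
  have hσ2 : σ ^ 2 ^ 1 = 1 := by
    rw [pow_one, pow_two]
    ext x
    exact hg x
  have hσ1 : σ ((1 : S) : S ⧸ F') = ((1 : S) : S ⧸ F') := by
    show ((⟨t * ((1 : S) : H) * t⁻¹, _⟩ : S) : S ⧸ F') = _
    congr 1
    apply Subtype.ext
    show t * ((1 : S) : H) * t⁻¹ = ((1 : S) : H)
    simp
  haveI : Fintype (S ⧸ F') := Fintype.ofFinite _
  haveI : Fact (Nat.Prime 2) := ⟨Nat.prime_two⟩
  have hcard : 2 ∣ Fintype.card (S ⧸ F') := by
    rw [← Nat.card_eq_fintype_card]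
    have h1 : F'.index ∣ Nat.card S := F'.index_dvd_card
    obtain ⟨n, hn⟩ := IsPGroup.iff_card.1 hS
    rw [hn] at h1
    obtain ⟨k, hk, hk2⟩ := (Nat.dvd_prime_pow Nat.prime_two).1 h1
    change Nat.card (S ⧸ F') = 2 ^ k at hk2
    rw [hk2]
    refine dvd_pow_self 2 ?_
    rintro rfl
    apply hne
    have h2 : F' = ⊤ := by
      rw [← Subgroup.index_eq_one]
      exact hk2
    exact subgroupOf_eq_top.1 h2
  obtain ⟨b, hb, hb1⟩ := Equiv.Perm.exists_fixed_point_of_prime' hcard hσ2 hσ1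
  induction b using QuotientGroup.induction_on with
  | H b =>
    refine ⟨b, b.2, ?_, ?_⟩
    · intro h
      apply hb1
      rw [eq_comm, QuotientGroup.eq, inv_one, one_mul]
      exact mem_subgroupOf.2 h
    · have h1 : ((⟨t * (b : H) * t⁻¹, tS b b.2⟩ : S) : S ⧸ F') = (b : S ⧸ F') := hb
      have h2 := QuotientGroup.eq.1 h1.symm
      exact mem_subgroupOf.1 h2

theorem le_norm {K N : Subgroup H} (h : ∀ k ∈ K, ∀ n ∈ N, k * n * k⁻¹ ∈ N) :
    K ≤ normalizer (N : Set H) := by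
  intro k hk
  rw [mem_normalizer_iff]
  intro n
  refine ⟨h k hk n, fun h1 => ?_⟩
  have h2 := h k⁻¹ (inv_mem hk) _ h1
  have e : k⁻¹ * (k * n * k⁻¹) * k⁻¹⁻¹ = n := by group
  rwa [e] at h2

/-! ### The data -/

/-- The data of THEOREM H, steps (1)-(4). -/
structure Data (t z : H) (P Q Z V : Subgroup H) : Prop where
  tt : t * t = 1
  z1 : z ≠ 1
  zZ : z ∈ Z
  core : pPrimeCore 2 H = ⊥
  /-- `P` is the largest perfect subgroup of `C_H(t)` -/
  perf : ⁅P, P⁆ = P
  Pt : ∀ p ∈ P, p * t = t * p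
  top : ∀ D : Subgroup H, ⁅D, D⁆ = D → (∀ d ∈ D, d * t = t * d) → D ≤ P
  tP : t ∉ P
  /-- `Q` is a 2-subgroup of `P` normalised by `C_H(t)` and containing its centraliser -/
  QP : Q ≤ P
  Q2 : IsPGroup 2 Q
  norQ : ∀ c, c * t = t * c → ∀ y ∈ Q, c * y * c⁻¹ ∈ Q
  cenQ : ∀ c, c * t = t * c → (∀ y ∈ Q, c * y = y * c) → c ∈ Z ∨ t * c ∈ Z
  ZQ : Z ≤ Q
  /-- perfect normal subgroups of `P` contain `Q` -/
  nrm : ∀ N ≤ P, ⁅N, N⁆ = N → N ≠ ⊥ → (∀ p ∈ P, ∀ n ∈ N, p * n * p⁻¹ ∈ N) → Q ≤ N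
  /-- `P` is generated by commutators `[w, t]` -/
  gen : P ≤ closure {c | ∃ w : H, c = w * t * w⁻¹ * t⁻¹}
  /-- `V = W_ρ` -/
  V2 : ∀ w ∈ V, w * w = 1
  ZV : Z ≤ V
  VP : ∀ w ∈ V, ∀ p ∈ P, w * p = p * w
  Vt : ∀ w ∈ V, t * w * t⁻¹ ∈ V
  Vfix : ∀ w ∈ V, w * t = t * w → w ∈ Z
  Vsurj : ∀ x ∈ Z, ∃ w ∈ V, w * t * w⁻¹ * t⁻¹ = x
  /-- `W_ρ ≤ [W_s, X_a] X_ρ`, some noncentral element of `P` commutes with `W_s` -/
  Vgen : V ≤ closure ({c | ∃ w x p, x ∈ P ∧ w * x = x * w ∧ (∃ q ∈ P, x * q ≠ q * x) ∧ p ∈ P ∧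
    c = w * p * w⁻¹ * p⁻¹} ∪ (P : Set H))
  /-- Schreier: `P` induces inner automorphisms on the components it normalises -/
  sch : ∀ E : Subgroup H, IsComponent E → (∀ p ∈ P, ∀ e ∈ E, p * e * p⁻¹ ∈ E) →
    ∀ p ∈ P, ∃ e ∈ E, ∀ x ∈ E, p * x * p⁻¹ = e * x * e⁻¹

/-- the usual form of `Data.Vgen` -/
theorem vgen_of {P V A : Subgroup H} (h : V ≤ ⁅A, P⁆ ⊔ P)
    (hA : ∃ x ∈ P, (∀ a ∈ A, a * x = x * a) ∧ ∃ q ∈ P, x * q ≠ q * x) :
    V ≤ closure ({c | ∃ w x p, x ∈ P ∧ w * x = x * w ∧ (∃ q ∈ P, x * q ≠ q * x) ∧ p ∈ P ∧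
      c = w * p * w⁻¹ * p⁻¹} ∪ (P : Set H)) := by
  obtain ⟨x, hx, hAx, hq⟩ := hA
  refine h.trans (sup_le ?_ fun p hp => subset_closure (Or.inr hp))
  rw [commutator_le]
  intro a ha p hp
  exact subset_closure (Or.inl ⟨a, x, p, hx, hAx a ha, hq, hp, commutatorElement_def a p⟩)

namespace Data

variable {t z : H} {P Q Z V : Subgroup H}

theorem tinv (D : Data t z P Q Z V) : t⁻¹ = t := inv_eq_of_mul_eq_one_left D.tt

theorem V_comm (D : Data t z P Q Z V) {a b : H} (ha : a ∈ V) (hb : b ∈ V) : a * b = b * a := by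
  have h1 := D.V2 a ha
  have h2 := D.V2 b hb
  have h3 := D.V2 (a * b) (V.mul_mem ha hb)
  have ha' : a⁻¹ = a := inv_eq_of_mul_eq_one_left h1
  have hb' : b⁻¹ = b := inv_eq_of_mul_eq_one_left h2
  have h4 : (a * b)⁻¹ = a * b := inv_eq_of_mul_eq_one_left h3
  rw [mul_inv_rev, ha', hb'] at h4
  exact h4.symm

theorem P_ne_bot (D : Data t z P Q Z V) : P ≠ ⊥ := by
  intro h
  have h1 : z ∈ P := D.QP (D.ZQ D.zZ)
  rw [h, mem_bot] at h1
  exact D.z1 h1

theorem P_not_comm (D : Data t z P Q Z V) : ¬ ∀ a ∈ P, ∀ b ∈ P, a * b = b * a :=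
  fun h => D.P_ne_bot (eq_bot_of_perfect_comm D.perf h)

/-- `t` does not centralise `V` -/
theorem exists_moved (D : Data t z P Q Z V) : ∃ w ∈ V, w * t ≠ t * w := by
  obtain ⟨w, hw, hwz⟩ := D.Vsurj z D.zZ
  refine ⟨w, hw, fun h => D.z1 ?_⟩
  rw [← hwz, h]
  group

theorem cP (D : Data t z P Q Z V) {c : H} (hc : c ∈ P) (h : ∀ y ∈ Q, c * y = y * c) : c ∈ Z := by
  rcases D.cenQ c (D.Pt c hc) h with h1 | h1
  · exact h1
  · exfalso
    have h2 : t * c ∈ P := D.QP (D.ZQ h1)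
    have h3 := P.mul_mem h2 (P.inv_mem hc)
    rw [mul_inv_cancel_right] at h3
    exact D.tP h3

/-- a perfect subgroup of `C_H(t)` centralising `Q` is trivial -/
theorem perfect_triv (D : Data t z P Q Z V) {L : Subgroup H} (hL : ⁅L, L⁆ = L) (hLt : ∀ d ∈ L, d * t = t * d)
    (hLQ : ∀ d ∈ L, ∀ y ∈ Q, d * y = y * d) : L = ⊥ := by
  have h1 := D.top L hL hLt
  have h2 : ∀ d ∈ L, d ∈ V := fun d hd => D.ZV (D.cP (h1 hd) (hLQ d hd))
  exact eq_bot_of_perfect_comm hL fun a ha b hb => D.V_comm (h2 a ha) (h2 b hb)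

/-! ### (1) -/

/-- (1): `t` leaves every component of `H` invariant -/
theorem comp_t [Finite H] (D : Data t z P Q Z V) {E : Subgroup H} (hE : IsComponent E) {e : H} (he : e ∈ E) :
    t * e * t⁻¹ ∈ E := by
  by_contra hcon
  set E' : Subgroup H := E.map (MulAut.conj t).toMonoidHom with hE'
  have hc' : IsComponent E' := isComponent_conj t hE
  have hmem' : ∀ e ∈ E, t * e * t⁻¹ ∈ E' := fun e he => ⟨e, he, rfl⟩
  have hne : E ≠ E' := fun h => hcon (by rw [h]; exact hmem' e he)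
  have hcomm : ∀ a ∈ E, ∀ b ∈ E', a * b = b * a := fun a ha b hb =>
    (mem_centralizer_iff.1 (component_le_centralizer_of_ne hE hc' hne ha) b hb).symm
  -- the diagonal
  let φ : E →* H :=
    { toFun := fun e => (e : H) * (t * e * t⁻¹)
      map_one' := by simp
      map_mul' := fun a b => by
        have h1 := hcomm b b.2 _ (hmem' a a.2)
        calc ((a * b : E) : H) * (t * ((a * b : E) : H) * t⁻¹)
            = (a : H) * ((b : H) * (t * a * t⁻¹)) * (t * b * t⁻¹) := by push_cast; group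
          _ = (a : H) * ((t * a * t⁻¹) * (b : H)) * (t * b * t⁻¹) := by rw [h1]
          _ = (a : H) * (t * a * t⁻¹) * ((b : H) * (t * b * t⁻¹)) := by group }
  have hφ : ∀ e : E, φ e = (e : H) * (t * e * t⁻¹) := fun e => rfl
  set L : Subgroup H := φ.range with hL
  have hEperf : ⁅E, E⁆ = E := component_commutator_self hE
  have hLperf' : Group.IsPerfect L := by
    haveI := hE.2.1
    exact Group.IsPerfect.ofSurjective (f := φ.rangeRestrict) φ.rangeRestrict_surjective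
  have hLperf : ⁅L, L⁆ = L := Subgroup.commutator_eq_self (H := L)
  have hti := D.tinv
  have htt : ∀ x : H, t * (t * x * t⁻¹) * t⁻¹ = x := by
    intro x
    rw [hti]
    calc t * (t * x * t) * t = (t * t) * x * (t * t) := by group
      _ = x := by rw [D.tt]; group
  have hLt : ∀ d ∈ L, d * t = t * d := by
    rintro _ ⟨e, rfl⟩
    rw [hφ]
    have h1 := hcomm e e.2 _ (hmem' e e.2)
    have h2 : t * ((e : H) * (t * e * t⁻¹)) * t⁻¹ = (e : H) * (t * e * t⁻¹) := by
      calc t * ((e : H) * (t * e * t⁻¹)) * t⁻¹ = (t * e * t⁻¹) * (t * (t * e * t⁻¹) * t⁻¹) := by group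
        _ = (t * e * t⁻¹) * e := by rw [htt]
        _ = (e : H) * (t * e * t⁻¹) := h1.symm
    rw [mul_inv_eq_iff_eq_mul] at h2
    exact h2.symm
  have hEL : E ≤ layer H := component_le_layer hE
  have hEL' : E' ≤ layer H := component_le_layer hc'
  have hLL : L ≤ layer H := by
    rintro _ ⟨e, rfl⟩
    rw [hφ]
    exact mul_mem (hEL e.2) (hEL' (hmem' e e.2))
  haveI hlN : (layer H).Normal := layer_normal H
  -- `R = Q ∩ E(H)`
  set R : Subgroup H := Q ⊓ layer H with hR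
  have hR2 : IsPGroup 2 R := D.Q2.to_le inf_le_left
  haveI : Fact (Nat.Prime 2) := ⟨Nat.prime_two⟩
  have hRs : Group.IsSolvable R := by
    haveI : Group.IsNilpotent R := hR2.isNilpotent
    infer_instance
  have hRt : ∀ y ∈ R, y * t = t * y := fun y hy => D.Pt y (D.QP hy.1)
  have hLR : ∀ d ∈ L, ∀ y ∈ R, d * y * d⁻¹ ∈ R := fun d hd y hy =>
    ⟨D.norQ d (hLt d hd) y hy.1, hlN.conj_mem y hy.2 d⟩
  have hRE' : R ≤ normalizer (E' : Set H) := inf_le_right.trans (layer_le_normalizer_component hc')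
  -- `E` normalises `R E'`
  set J : Subgroup H := R ⊔ E' with hJ
  have hLJ : L ≤ normalizer (J : Set H) := by
    have h1 : L ≤ normalizer (R : Set H) := le_norm hLR
    have h2 : L ≤ normalizer (E' : Set H) := hLL.trans (layer_le_normalizer_component hc')
    intro d hd
    have h3 := h1 hd
    have h4 := h2 hd
    have e1 : R.map (MulAut.conj d).toMonoidHom = R := by
      ext y
      constructor
      · rintro ⟨x, hx, rfl⟩
        exact hLR d hd x hx
      · intro hy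
        refine ⟨d⁻¹ * y * d, ?_, by simp; group⟩
        have := hLR d⁻¹ (inv_mem hd) y hy
        rwa [inv_inv] at this
    have e2 : E'.map (MulAut.conj d).toMonoidHom = E' := by
      ext y
      constructor
      · rintro ⟨x, hx, rfl⟩
        exact (mem_normalizer_iff.1 h4 x).1 hx
      · intro hy
        refine ⟨d⁻¹ * y * d, ?_, by simp [MulAut.conj_apply]; group⟩
        have h5 := mem_normalizer_iff.1 (inv_mem h4) y
        rw [inv_inv] at h5
        exact h5.1 hy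
    have e3 : J.map (MulAut.conj d).toMonoidHom = J := by
      rw [hJ, Subgroup.map_sup, e1, e2]
    rw [mem_normalizer_iff]
    intro y
    constructor
    · intro hy
      have : (MulAut.conj d).toMonoidHom y ∈ J.map (MulAut.conj d).toMonoidHom := ⟨y, hy, rfl⟩
      rw [e3] at this
      exact this
    · intro hy
      rw [← e3] at hy
      obtain ⟨x, hx, hxy⟩ := hy
      have : x = y := (MulAut.conj d).injective hxy
      rwa [← this]
  have hEJ : E ≤ normalizer (J : Set H) := by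
    intro e he
    have h1 : φ ⟨e, he⟩ ∈ L := ⟨_, rfl⟩
    have h2 : (t * e * t⁻¹)⁻¹ ∈ J := J.inv_mem (le_sup_right (a := R) (hmem' e he))
    have h3 := mul_mem (hLJ h1) (le_normalizer h2)
    rw [hφ] at h3
    have e3 : ((⟨e, he⟩ : E) : H) * (t * ((⟨e, he⟩ : E) : H) * t⁻¹) * (t * e * t⁻¹)⁻¹ = e := by
      show e * (t * e * t⁻¹) * (t * e * t⁻¹)⁻¹ = e
      group
    rwa [e3] at h3
  -- `E` centralises `R`
  have hER : ∀ e ∈ E, ∀ y ∈ R, e * y = y * e := by
    rcases component_le_or_commutator_eq_bot_of_le_normalizer hE hEJ with h1 | h1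
    · exfalso
      have h2 : E ≤ E' := le_of_perfect_of_le_sup hEperf hRs hRE' h1
      apply component_ne_bot hE
      exact eq_bot_of_perfect_comm hEperf fun a ha b hb => hcomm a ha b (h2 hb)
    · intro e he y hy
      have h2 := commutator_eq_bot_iff_le_centralizer.1 h1 he
      exact (mem_centralizer_iff.1 h2 y (le_sup_left (b := E') hy)).symm
  have hLRc : ∀ d ∈ L, ∀ y ∈ R, d * y = y * d := by
    rintro _ ⟨e, rfl⟩ y hy
    rw [hφ]
    have c1 : Commute (e : H) y := hER e e.2 y hy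
    have c2 : Commute t y := (hRt y hy).symm
    exact (c1.mul_left ((c2.mul_left c1).mul_left c2.inv_left)).eq
  -- `[Q, L, L] = 1`
  have h1 : ⁅⁅Q, L⁆, L⁆ = ⊥ := by
    have h2 : ⁅Q, L⁆ ≤ R := by
      rw [commutator_le]
      intro y hy d hd
      refine Subgroup.mem_inf.2 ⟨?_, ?_⟩
      · have h3 := D.norQ d (hLt d hd) _ (inv_mem hy)
        have e3 : ⁅y, d⁆ = y * (d * y⁻¹ * d⁻¹) := by rw [commutatorElement_def]; group
        rw [e3]
        exact mul_mem hy h3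
      · have h3 := hlN.conj_mem d (hLL hd) y
        rw [commutatorElement_def]
        exact mul_mem h3 (inv_mem (hLL hd))
    rw [commutator_eq_bot_iff_le_centralizer]
    intro y hy
    exact mem_centralizer_iff.2 fun d hd => hLRc d hd y (h2 hy)
  have h2 := commutator_eq_bot_of_commutator_commutator_eq_bot hLperf' h1
  have h3 : L = ⊥ := by
    refine D.perfect_triv hLperf hLt fun d hd y hy => ?_
    have h4 := commutator_eq_bot_iff_le_centralizer.1 h2 hy
    exact mem_centralizer_iff.1 h4 d hd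
  have h4 : φ ⟨e, he⟩ ∈ L := ⟨_, rfl⟩
  rw [h3, mem_bot, hφ] at h4
  have h5 : t * e * t⁻¹ = e⁻¹ := by
    have : e * (t * e * t⁻¹) = 1 := h4
    exact eq_inv_of_mul_eq_one_right this
  apply hcon
  rw [h5]
  exact inv_mem he

/-- (1): `P` normalises every component of `H` -/
theorem P_normalises [Finite H] (D : Data t z P Q Z V) {E : Subgroup H} (hE : IsComponent E) {p : H} (hp : p ∈ P)
    {e : H} (he : e ∈ E) : p * e * p⁻¹ ∈ E := by
  have hconj : ∀ (w : H), ∀ e ∈ E, w * t * w⁻¹ * e * (w * t * w⁻¹)⁻¹ ∈ E := by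
    intro w e he
    have hc' : IsComponent (E.map (MulAut.conj w⁻¹).toMonoidHom) := isComponent_conj w⁻¹ hE
    have h1 : w⁻¹ * e * w ∈ E.map (MulAut.conj w⁻¹).toMonoidHom := ⟨e, he, by simp⟩
    obtain ⟨x, hx, hxe⟩ := D.comp_t hc' h1
    have h2 : w⁻¹ * x * w = t * (w⁻¹ * e * w) * t⁻¹ := by
      rw [← hxe]
      simp
    have h3 : w * t * w⁻¹ * e * (w * t * w⁻¹)⁻¹ = x := by
      calc w * t * w⁻¹ * e * (w * t * w⁻¹)⁻¹ = w * (t * (w⁻¹ * e * w) * t⁻¹) * w⁻¹ := by group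
        _ = w * (w⁻¹ * x * w) * w⁻¹ := by rw [h2]
        _ = x := by group
    rw [h3]
    exact hx
  have h1 : p ∈ normalizer (E : Set H) := by
    have h2 : closure {c | ∃ w : H, c = w * t * w⁻¹ * t⁻¹} ≤ normalizer (E : Set H) := by
      rw [closure_le]
      rintro _ ⟨w, rfl⟩
      have h3 : w * t * w⁻¹ ∈ normalizer (E : Set H) := by
        rw [mem_normalizer_iff]
        intro x
        refine ⟨hconj w x, fun h => ?_⟩
        have h4 := hconj w _ h
        have e4 : w * t * w⁻¹ * (w * t * w⁻¹ * x * (w * t * w⁻¹)⁻¹) * (w * t * w⁻¹)⁻¹ = x := by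
          calc w * t * w⁻¹ * (w * t * w⁻¹ * x * (w * t * w⁻¹)⁻¹) * (w * t * w⁻¹)⁻¹
              = w * (t * t) * w⁻¹ * x * (w * (t * t) * w⁻¹)⁻¹ := by group
            _ = x := by rw [D.tt]; group
        rwa [e4] at h4
      have h5 : t⁻¹ ∈ normalizer (E : Set H) := by
        have := le_norm (K := zpowers t) (N := E) ?_
        · exact this ((zpowers t).inv_mem (mem_zpowers t))
        · intro k hk n hn
          obtain ⟨i, rfl⟩ := mem_zpowers_iff.1 hk
          rcases Int.even_or_odd' i with ⟨j, hj | hj⟩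
          · have : t ^ i = 1 := by
              rw [hj, zpow_mul, zpow_ofNat, pow_two, D.tt, one_zpow]
            rw [this]
            simpa using hn
          · have : t ^ i = t := by
              rw [hj, zpow_add, zpow_mul, zpow_ofNat, pow_two, D.tt, one_zpow, one_mul, zpow_one]
            rw [this]
            exact D.comp_t hE hn
      exact mul_mem h3 h5
    exact h2 (D.gen hp)
  exact (mem_normalizer_iff.1 h1 e).1 he

/-! ### (2) -/

/-- (2): a component which is not centralised by `P` contains `P` -/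
theorem P_le [Finite H] (D : Data t z P Q Z V) {E : Subgroup H} (hE : IsComponent E)
    (hn : ∃ p ∈ P, ∃ e ∈ E, p * e ≠ e * p) : P ≤ E := by
  have hsch := D.sch E hE (fun p hp e he => D.P_normalises hE hp he)
  have hti := D.tinv
  -- `E₁`
  let E1 : Subgroup H :=
    { carrier := {e | e ∈ E ∧ ∃ p ∈ P, ∀ x ∈ E, p * x * p⁻¹ = e * x * e⁻¹}
      mul_mem' := by
        rintro a b ⟨ha, p, hp, hpa⟩ ⟨hb, q, hq, hqb⟩
        refine ⟨mul_mem ha hb, p * q, mul_mem hp hq, fun x hx => ?_⟩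
        have h1 : b * x * b⁻¹ ∈ E := mul_mem (mul_mem hb hx) (inv_mem hb)
        calc p * q * x * (p * q)⁻¹ = p * (q * x * q⁻¹) * p⁻¹ := by group
          _ = p * (b * x * b⁻¹) * p⁻¹ := by rw [hqb x hx]
          _ = a * (b * x * b⁻¹) * a⁻¹ := hpa _ h1
          _ = a * b * x * (a * b)⁻¹ := by group
      one_mem' := ⟨one_mem _, 1, one_mem _, fun x _ => rfl⟩
      inv_mem' := by
        rintro a ⟨ha, p, hp, hpa⟩
        refine ⟨inv_mem ha, p⁻¹, inv_mem hp, fun x hx => ?_⟩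
        have h1 : a⁻¹ * x * a⁻¹⁻¹ ∈ E := mul_mem (mul_mem (inv_mem ha) hx) (inv_mem (inv_mem ha))
        have h2 := hpa _ h1
        have h3 : a * (a⁻¹ * x * a⁻¹⁻¹) * a⁻¹ = x := by group
        rw [h3] at h2
        calc p⁻¹ * x * p⁻¹⁻¹ = p⁻¹ * (p * (a⁻¹ * x * a⁻¹⁻¹) * p⁻¹) * p⁻¹⁻¹ := by rw [h2]
          _ = a⁻¹ * x * a⁻¹⁻¹ := by group }
  have hE1 : ∀ {e : H}, e ∈ E1 ↔ e ∈ E ∧ ∃ p ∈ P, ∀ x ∈ E, p * x * p⁻¹ = e * x * e⁻¹ := Iff.rfl
  set PE : Subgroup H := ⁅E1, E1⁆ with hPE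
  have hPE1 : PE ≤ E1 := Subgroup.commutator_le_self _
  have hPEE : PE ≤ E := fun x hx => (hE1.1 (hPE1 hx)).1
  -- lemma R
  have hR : ∀ p ∈ P, ∃ e ∈ PE, ∀ x ∈ E, p * x * p⁻¹ = e * x * e⁻¹ := by
    have h1 : P ≤ closure {g | ∃ a ∈ P, ∃ b ∈ P, ⁅a, b⁆ = g} := by
      rw [← Subgroup.commutator_def, D.perf]
    intro p hp
    refine closure_induction (p := fun p _ => ∃ e ∈ PE, ∀ x ∈ E, p * x * p⁻¹ = e * x * e⁻¹) ?_ ?_ ?_ ?_
      (h1 hp)
    · rintro _ ⟨a, ha, b, hb, rfl⟩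
      obtain ⟨c, hc, hca⟩ := hsch a ha
      obtain ⟨d, hd, hdb⟩ := hsch b hb
      have hc1 : c ∈ E1 := hE1.2 ⟨hc, a, ha, hca⟩
      have hd1 : d ∈ E1 := hE1.2 ⟨hd, b, hb, hdb⟩
      have hci := (hE1.1 (inv_mem hc1))
      refine ⟨⁅c, d⁆, commutator_mem_commutator hc1 hd1, fun x hx => ?_⟩
      have k1 : ∀ x ∈ E, a⁻¹ * x * a⁻¹⁻¹ = c⁻¹ * x * c⁻¹⁻¹ := by
        intro x hx
        have h1 : c⁻¹ * x * c⁻¹⁻¹ ∈ E := mul_mem (mul_mem (inv_mem hc) hx) (inv_mem (inv_mem hc))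
        have h2 := hca _ h1
        have h3 : c * (c⁻¹ * x * c⁻¹⁻¹) * c⁻¹ = x := by group
        rw [h3] at h2
        calc a⁻¹ * x * a⁻¹⁻¹ = a⁻¹ * (a * (c⁻¹ * x * c⁻¹⁻¹) * a⁻¹) * a⁻¹⁻¹ := by rw [h2]
          _ = c⁻¹ * x * c⁻¹⁻¹ := by group
      have k2 : ∀ x ∈ E, b⁻¹ * x * b⁻¹⁻¹ = d⁻¹ * x * d⁻¹⁻¹ := by
        intro x hx
        have h1 : d⁻¹ * x * d⁻¹⁻¹ ∈ E := mul_mem (mul_mem (inv_mem hd) hx) (inv_mem (inv_mem hd))
        have h2 := hdb _ h1
        have h3 : d * (d⁻¹ * x * d⁻¹⁻¹) * d⁻¹ = x := by group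
        rw [h3] at h2
        calc b⁻¹ * x * b⁻¹⁻¹ = b⁻¹ * (b * (d⁻¹ * x * d⁻¹⁻¹) * b⁻¹) * b⁻¹⁻¹ := by rw [h2]
          _ = d⁻¹ * x * d⁻¹⁻¹ := by group
      have m1 : d⁻¹ * x * d⁻¹⁻¹ ∈ E := mul_mem (mul_mem (inv_mem hd) hx) (inv_mem (inv_mem hd))
      have m2 : c⁻¹ * (d⁻¹ * x * d⁻¹⁻¹) * c⁻¹⁻¹ ∈ E :=
        mul_mem (mul_mem (inv_mem hc) m1) (inv_mem (inv_mem hc))
      have m3 : d * (c⁻¹ * (d⁻¹ * x * d⁻¹⁻¹) * c⁻¹⁻¹) * d⁻¹ ∈ E := mul_mem (mul_mem hd m2) (inv_mem hd)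
      rw [commutatorElement_def, commutatorElement_def]
      calc a * b * a⁻¹ * b⁻¹ * x * (a * b * a⁻¹ * b⁻¹)⁻¹
          = a * (b * (a⁻¹ * (b⁻¹ * x * b⁻¹⁻¹) * a⁻¹⁻¹) * b⁻¹) * a⁻¹ := by group
        _ = a * (b * (a⁻¹ * (d⁻¹ * x * d⁻¹⁻¹) * a⁻¹⁻¹) * b⁻¹) * a⁻¹ := by rw [k2 x hx]
        _ = a * (b * (c⁻¹ * (d⁻¹ * x * d⁻¹⁻¹) * c⁻¹⁻¹) * b⁻¹) * a⁻¹ := by rw [k1 _ m1]
        _ = a * (d * (c⁻¹ * (d⁻¹ * x * d⁻¹⁻¹) * c⁻¹⁻¹) * d⁻¹) * a⁻¹ := by rw [hdb _ m2]
        _ = c * (d * (c⁻¹ * (d⁻¹ * x * d⁻¹⁻¹) * c⁻¹⁻¹) * d⁻¹) * c⁻¹ := hca _ m3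
        _ = c * d * c⁻¹ * d⁻¹ * x * (c * d * c⁻¹ * d⁻¹)⁻¹ := by group
    · exact ⟨1, one_mem _, fun x _ => rfl⟩
    · rintro p q _ _ ⟨a, ha, hpa⟩ ⟨b, hb, hqb⟩
      refine ⟨a * b, mul_mem ha hb, fun x hx => ?_⟩
      have hb' := hPEE hb
      have h1 : b * x * b⁻¹ ∈ E := mul_mem (mul_mem hb' hx) (inv_mem hb')
      calc p * q * x * (p * q)⁻¹ = p * (q * x * q⁻¹) * p⁻¹ := by group
        _ = p * (b * x * b⁻¹) * p⁻¹ := by rw [hqb x hx]
        _ = a * (b * x * b⁻¹) * a⁻¹ := hpa _ h1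
        _ = a * b * x * (a * b)⁻¹ := by group
    · rintro p _ ⟨a, ha, hpa⟩
      refine ⟨a⁻¹, inv_mem ha, fun x hx => ?_⟩
      have ha' := hPEE ha
      have h1 : a⁻¹ * x * a⁻¹⁻¹ ∈ E := mul_mem (mul_mem (inv_mem ha') hx) (inv_mem (inv_mem ha'))
      have h2 := hpa _ h1
      have h3 : a * (a⁻¹ * x * a⁻¹⁻¹) * a⁻¹ = x := by group
      rw [h3] at h2
      calc p⁻¹ * x * p⁻¹⁻¹ = p⁻¹ * (p * (a⁻¹ * x * a⁻¹⁻¹) * p⁻¹) * p⁻¹⁻¹ := by rw [h2]
        _ = a⁻¹ * x * a⁻¹⁻¹ := by group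
  -- commutators only depend on the classes modulo the centre
  have hcm : ∀ a b c d : H, a ∈ E → b ∈ E → (∀ x ∈ E, c * x = x * c) → (∀ x ∈ E, d * x = x * d) →
      c * d = d * c → ⁅a * c, b * d⁆ = ⁅a, b⁆ := by
    intro a b c d ha hb hc hd hcd
    rw [commutatorElement_def, commutatorElement_def]
    have k1 : c * (b * d) = b * d * c := by
      rw [← mul_assoc, hc b hb, mul_assoc, hcd, ← mul_assoc]
    have k2 : d * a⁻¹ = a⁻¹ * d := hd _ (inv_mem ha)
    calc a * c * (b * d) * (a * c)⁻¹ * (b * d)⁻¹ = a * (c * (b * d)) * c⁻¹ * a⁻¹ * d⁻¹ * b⁻¹ := by group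
      _ = a * (b * d * c) * c⁻¹ * a⁻¹ * d⁻¹ * b⁻¹ := by rw [k1]
      _ = a * b * (d * a⁻¹) * d⁻¹ * b⁻¹ := by group
      _ = a * b * (a⁻¹ * d) * d⁻¹ * b⁻¹ := by rw [k2]
      _ = a * b * a⁻¹ * b⁻¹ := by group
  -- same action ⇒ quotient centralises `E`
  have hq : ∀ a b : H, (∀ x ∈ E, a * x * a⁻¹ = b * x * b⁻¹) → ∀ x ∈ E, (a⁻¹ * b) * x = x * (a⁻¹ * b) := by
    intro a b h x hx
    have h1 := h x hx
    rw [← mul_inv_eq_iff_eq_mul]
    calc a⁻¹ * b * x * (a⁻¹ * b)⁻¹ = a⁻¹ * (b * x * b⁻¹) * a := by group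
      _ = a⁻¹ * (a * x * a⁻¹) * a := by rw [h1]
      _ = x := by group
  -- `P_E` is perfect
  have hPperf : ⁅PE, PE⁆ = PE := by
    refine le_antisymm (Subgroup.commutator_le_self _) ?_
    conv_lhs => rw [hPE]
    rw [commutator_le]
    intro a ha b hb
    obtain ⟨haE, p, hp, hpa⟩ := hE1.1 ha
    obtain ⟨hbE, q, hq', hqb⟩ := hE1.1 hb
    obtain ⟨a', ha', hpa'⟩ := hR p hp
    obtain ⟨b', hb', hqb'⟩ := hR q hq'
    have ka := hq a' a fun x hx => (hpa' x hx).symm.trans (hpa x hx)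
    have kb := hq b' b fun x hx => (hqb' x hx).symm.trans (hqb x hx)
    have hmb : b'⁻¹ * b ∈ E := mul_mem (inv_mem (hPEE hb')) hbE
    have h1 : ⁅a, b⁆ = ⁅a', b'⁆ := by
      have := hcm a' b' (a'⁻¹ * a) (b'⁻¹ * b) (hPEE ha') (hPEE hb') ka kb (ka _ hmb)
      rwa [mul_inv_cancel_left, mul_inv_cancel_left] at this
    rw [h1]
    exact commutator_mem_commutator ha' hb'
  -- `P_E` commutes with `t`
  have hE1t : ∀ e ∈ E1, ∀ x ∈ E, e⁻¹ * (t * e * t⁻¹) * x = x * (e⁻¹ * (t * e * t⁻¹)) := by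
    intro e he
    obtain ⟨heE, p, hp, hpe⟩ := hE1.1 he
    apply hq
    intro x hx
    have hpt : t * p = p * t := (D.Pt p hp).symm
    have hx' : t⁻¹ * x * t ∈ E := by
      have := D.comp_t hE hx
      rwa [hti] at this ⊢
    calc e * x * e⁻¹ = p * x * p⁻¹ := (hpe x hx).symm
      _ = (p * t) * (t⁻¹ * x * t) * (p * t)⁻¹ := by group
      _ = (t * p) * (t⁻¹ * x * t) * (t * p)⁻¹ := by rw [hpt]
      _ = t * (p * (t⁻¹ * x * t) * p⁻¹) * t⁻¹ := by group
      _ = t * (e * (t⁻¹ * x * t) * e⁻¹) * t⁻¹ := by rw [hpe _ hx']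
      _ = t * e * t⁻¹ * x * (t * e * t⁻¹)⁻¹ := by group
  have hPEt : ∀ d ∈ PE, d * t = t * d := by
    have h1 : PE ≤ centralizer ({t} : Set H) := by
      rw [hPE, commutator_le]
      intro a ha b hb
      rw [mem_centralizer_singleton_iff]
      have haE := (hE1.1 ha).1
      have hbE := (hE1.1 hb).1
      have hma : a⁻¹ * (t * a * t⁻¹) ∈ E := mul_mem (inv_mem haE) (D.comp_t hE haE)
      have hmb : b⁻¹ * (t * b * t⁻¹) ∈ E := mul_mem (inv_mem hbE) (D.comp_t hE hbE)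
      have h2 := hcm a b _ _ haE hbE (hE1t a ha) (hE1t b hb) (hE1t a ha _ hmb)
      rw [mul_inv_cancel_left, mul_inv_cancel_left] at h2
      have h3 : t * ⁅a, b⁆ * t⁻¹ = ⁅a, b⁆ := by
        conv_rhs => rw [← h2]
        rw [commutatorElement_def, commutatorElement_def]
        group
      rw [mul_inv_eq_iff_eq_mul] at h3
      exact h3.symm
    intro d hd
    exact mem_centralizer_singleton_iff.1 (h1 hd)
  have hPEP : PE ≤ P := D.top PE hPperf hPEt
  have hne : PE ≠ ⊥ := by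
    intro h
    obtain ⟨p, hp, e, he, hpe⟩ := hn
    obtain ⟨a, ha, hpa⟩ := hR p hp
    rw [h, mem_bot] at ha
    have h1 := hpa e he
    rw [ha, one_mul, inv_one, mul_one, mul_inv_eq_iff_eq_mul] at h1
    exact hpe h1
  have hQ : Q ≤ PE := by
    refine D.nrm PE hPEP hPperf hne fun p hp n hnn => ?_
    obtain ⟨a, ha, hpa⟩ := hR p hp
    rw [hpa n (hPEE hnn)]
    exact mul_mem (mul_mem ha hnn) (inv_mem ha)
  intro p hp
  obtain ⟨a, ha, hpa⟩ := hR p hp
  have h1 := hq a p fun x hx => (hpa x hx).symm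
  have h2 : a⁻¹ * p ∈ Z := D.cP (mul_mem (inv_mem (hPEP ha)) hp) fun y hy => h1 y (hPEE (hQ hy))
  have h3 := mul_mem ha (hQ (D.ZQ h2))
  rw [mul_inv_cancel_left] at h3
  exact hPEE h3

/-- a component containing `P` is normalised by every `w` which commutes with a noncentral element of `P` -/
theorem conj_eq_of_comm [Finite H] (_D : Data t z P Q Z V) {E : Subgroup H} (hE : IsComponent E) (hPE : P ≤ E)
    {w x : H} (hx : x ∈ P) (hwx : w * x = x * w) (hnc : ∃ q ∈ P, x * q ≠ q * x) :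
    E.map (MulAut.conj w).toMonoidHom = E := by
  by_contra hne
  have hc' : IsComponent (E.map (MulAut.conj w).toMonoidHom) := isComponent_conj w hE
  have h1 : x ∈ E.map (MulAut.conj w).toMonoidHom := by
    refine ⟨x, hPE hx, ?_⟩
    show w * x * w⁻¹ = x
    rw [hwx]
    group
  obtain ⟨q, hq, hxq⟩ := hnc
  apply hxq
  exact (mem_centralizer_iff.1 (component_le_centralizer_of_ne hc' hE hne h1) q (hPE hq)).symm

/-- `V` is contained in every component containing `P` -/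
theorem V_le [Finite H] (D : Data t z P Q Z V) {E : Subgroup H} (hE : IsComponent E) (hPE : P ≤ E) : V ≤ E := by
  refine D.Vgen.trans ?_
  rw [closure_le]
  rintro c (⟨w, x, p, hx, hwx, hnc, hp, rfl⟩ | hc)
  · have h1 := D.conj_eq_of_comm hE hPE hx hwx hnc
    have h2 : w * p * w⁻¹ ∈ E := by
      have : w * p * w⁻¹ ∈ E.map (MulAut.conj w).toMonoidHom := ⟨p, hPE hp, rfl⟩
      rwa [h1] at this
    exact mul_mem h2 (inv_mem (hPE hp))
  · exact hPE hc

theorem eq_of_P_le [Finite H] (D : Data t z P Q Z V) {E E' : Subgroup H} (hE : IsComponent E)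
    (hE' : IsComponent E') (hPE : P ≤ E) (hPE' : P ≤ E') : E = E' := by
  by_contra hne
  apply D.P_not_comm
  intro a ha b hb
  exact (mem_centralizer_iff.1 (component_le_centralizer_of_ne hE hE' hne (hPE ha)) b (hPE' hb)).symm

/-! ### (3) -/

/-- a component centralised by `P` is centralised by `V` -/
theorem V_comm_comp [Finite H] (D : Data t z P Q Z V) {E : Subgroup H} (hE : IsComponent E)
    (hPE : ∀ p ∈ P, ∀ e ∈ E, p * e = e * p) {w : H} (hw : w ∈ V) {e : H} (he : e ∈ E) : w * e = e * w := by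
  by_cases hall : ∃ E2 : Subgroup H, IsComponent E2 ∧ ∃ p ∈ P, ∃ e ∈ E2, p * e ≠ e * p
  · obtain ⟨E2, hE2, hn⟩ := hall
    have h1 := D.P_le hE2 hn
    have h2 := D.V_le hE2 h1
    have hne : E2 ≠ E := by
      rintro rfl
      obtain ⟨p, hp, e, he, hpe⟩ := hn
      exact hpe (hPE p hp e he)
    exact (mem_centralizer_iff.1 (component_le_centralizer_of_ne hE2 hE hne (h2 hw)) e he).symm
  · push Not at hall
    have h1 : V ≤ centralizer (E : Set H) := by
      refine D.Vgen.trans ?_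
      rw [closure_le]
      rintro c (⟨w, x, p, hx, hwx, hnc, hp, rfl⟩ | hc)
      · rw [SetLike.mem_coe, mem_centralizer_iff]
        intro y hy
        have hc' : IsComponent (E.map (MulAut.conj w⁻¹).toMonoidHom) := isComponent_conj w⁻¹ hE
        have h2 := hall _ hc' p hp (w⁻¹ * y * w) ⟨y, hy, by simp⟩
        have h3 : w * p * w⁻¹ * y = y * (w * p * w⁻¹) := by
          calc w * p * w⁻¹ * y = w * (p * (w⁻¹ * y * w)) * w⁻¹ := by group
            _ = w * ((w⁻¹ * y * w) * p) * w⁻¹ := by rw [h2]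
            _ = y * (w * p * w⁻¹) := by group
        have c1 : Commute (w * p * w⁻¹) y := h3
        have c2 : Commute p y := hPE p hp y hy
        exact ((c1.mul_left c2.inv_left).eq).symm
      · rw [SetLike.mem_coe, mem_centralizer_iff]
        intro y hy
        exact (hPE c hc y hy).symm
    exact (mem_centralizer_iff.1 (h1 hw) e he).symm

/-- **the trick**: a `t`-invariant 2-subgroup centralising `P` and `V` is contained in `V` -/
theorem le_V [Finite H] (D : Data t z P Q Z V) {S : Subgroup H} (hS : IsPGroup 2 S)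
    (hSt : ∀ s ∈ S, t * s * t⁻¹ ∈ S) (hSP : ∀ s ∈ S, ∀ p ∈ P, s * p = p * s)
    (hSV : ∀ s ∈ S, ∀ w ∈ V, s * w = w * s) : S ≤ V := by
  by_contra hne
  have htV : ¬ ∀ w ∈ V, w * t = t * w := by
    intro h
    obtain ⟨w, hw, hwt⟩ := D.exists_moved
    exact hwt (h w hw)
  obtain ⟨s, hs, hsV, hf⟩ := exists_fixed_mod (F := S ⊓ V) hS (fun h => hne (h.trans inf_le_right)) D.tt hSt
    (fun f hf => ⟨hSt f hf.1, D.Vt f hf.2⟩)
  have hsV' : s ∉ V := fun h => hsV ⟨hs, h⟩
  set f := s⁻¹ * (t * s * t⁻¹) with hfd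
  have hti := D.tinv
  have hfinv : f⁻¹ = f := inv_eq_of_mul_eq_one_left (D.V2 f hf.2)
  have hft : f * t = t * f := by
    have h1 : t * f * t⁻¹ = f⁻¹ := by
      rw [hfd, hti]
      calc t * (s⁻¹ * (t * s * t)) * t = t * s⁻¹ * t * s * (t * t) := by group
        _ = t * s⁻¹ * t * s := by rw [D.tt, mul_one]
        _ = (t⁻¹) * s⁻¹ * t⁻¹ * s := by rw [hti]
        _ = (s⁻¹ * (t * s * t))⁻¹ := by group
    rw [hfinv, mul_inv_eq_iff_eq_mul] at h1
    exact h1.symm
  obtain ⟨w, hw, hwf⟩ := D.Vsurj f (D.Vfix f hf.2 hft)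
  have hc : (s * w) * t = t * (s * w) := by
    have h1 : s⁻¹ * (t * s) * t⁻¹ = w * t * w⁻¹ * t⁻¹ := by
      rw [hwf, hfd]; group
    have h2 : s⁻¹ * (t * s) = w * t * w⁻¹ := mul_right_cancel h1
    calc s * w * t = s * (w * t * w⁻¹) * w := by group
      _ = s * (s⁻¹ * (t * s)) * w := by rw [h2]
      _ = t * (s * w) := by group
  have hcQ : ∀ y ∈ Q, s * w * y = y * (s * w) := by
    intro y hy
    have c1 : Commute s y := hSP s hs y (D.QP hy)
    have c2 : Commute w y := D.VP w hw y (D.QP hy)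
    exact (c1.mul_left c2).eq
  rcases D.cenQ (s * w) hc hcQ with h1 | h1
  · apply hsV'
    have h2 := mul_mem (D.ZV h1) (inv_mem hw)
    rwa [mul_inv_cancel_right] at h2
  · apply htV
    intro v hv
    have c1 : Commute v (t * (s * w)) := D.V_comm hv (D.ZV h1)
    have c2 : Commute v s := (hSV s hs v hv).symm
    have c3 : Commute v w := D.V_comm hv hw
    have c4 : Commute v (t * (s * w) * (s * w)⁻¹) := c1.mul_right (c2.mul_right c3).inv_right
    rw [mul_inv_cancel_right] at c4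
    exact c4.eq

theorem even_comp [Finite H] (D : Data t z P Q Z V) {E : Subgroup H} (hE : IsComponent E) : 2 ∣ Nat.card E := by
  by_contra h1
  have h2 : (Nat.card E).Coprime 2 := Nat.coprime_comm.1 ((Nat.Prime.coprime_iff_not_dvd Nat.prime_two).2 h1)
  have h3 := subnormal_coprime_le_pPrimeCore hE.1 h2
  rw [D.core, le_bot_iff] at h3
  exact component_ne_bot hE h3

/-- (3): no component is centralised by `P` -/
theorem not_comm [Finite H] (D : Data t z P Q Z V) {E : Subgroup H} (hE : IsComponent E) :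
    ∃ p ∈ P, ∃ e ∈ E, p * e ≠ e * p := by
  by_contra hcon
  push Not at hcon
  haveI : Fact (Nat.Prime 2) := ⟨Nat.prime_two⟩
  have hV : ∀ w ∈ V, ∀ e ∈ E, w * e = e * w := fun w hw e he => D.V_comm_comp hE hcon hw he
  have hti := D.tinv
  have htt : ∀ x : H, t * (t * x * t⁻¹) * t⁻¹ = x := by
    intro x
    rw [hti]
    calc t * (t * x * t) * t = (t * t) * x * (t * t) := by group
      _ = x := by rw [D.tt]; group
  let τ : MulAut E :=
    { toFun := fun e => ⟨t * e * t⁻¹, D.comp_t hE e.2⟩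
      invFun := fun e => ⟨t * e * t⁻¹, D.comp_t hE e.2⟩
      left_inv := fun e => Subtype.ext (htt e)
      right_inv := fun e => Subtype.ext (htt e)
      map_mul' := fun a b => Subtype.ext (by
        show t * ((a : H) * b) * t⁻¹ = (t * a * t⁻¹) * (t * b * t⁻¹)
        group) }
  have hτ : τ ^ 2 ^ 1 = 1 := by
    rw [pow_one, pow_two]
    ext e
    exact htt e
  obtain ⟨T, hT⟩ := exists_invariant_sylow 2 τ hτ
  have h1 : (T : Subgroup E).map E.subtype ≤ V := by
    refine D.le_V (T.isPGroup'.map _) ?_ ?_ ?_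
    · rintro _ ⟨s, hs, rfl⟩
      exact ⟨τ s, (hT s).2 hs, rfl⟩
    · rintro _ ⟨s, hs, rfl⟩ p hp
      exact (hcon p hp s s.2).symm
    · rintro _ ⟨s, hs, rfl⟩ w hw
      exact (hV w hw s s.2).symm
  refine sylow_not_le_center_of_perfect hE.2.1 2 (D.even_comp hE) T ?_
  intro s hs
  rw [mem_center_iff]
  intro y
  apply Subtype.ext
  exact (hV s (h1 ⟨s, hs, rfl⟩) y y.2).symm

/-! ### (4) -/

/-- **(4)**: a component of `H` is the only one, contains `P` and `V`, and is `F*(H)` -/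
theorem component [Finite H] (D : Data t z P Q Z V) {E : Subgroup H} (hE : IsComponent E) :
    P ≤ E ∧ V ≤ E ∧ (∀ E' : Subgroup H, IsComponent E' → E' = E) ∧ E.Normal ∧
      centralizer (E : Set H) ≤ E ∧ pCore 2 H ≤ V ∧ IsPGroup 2 (centralizer (E : Set H)) := by
  have hPE := D.P_le hE (D.not_comm hE)
  have hVE := D.V_le hE hPE
  have huniq : ∀ E' : Subgroup H, IsComponent E' → E' = E := fun E' hE' =>
    D.eq_of_P_le hE' hE (D.P_le hE' (D.not_comm hE')) hPE
  have hnor : E.Normal := by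
    refine ⟨fun e he g => ?_⟩
    have h1 := huniq _ (isComponent_conj g hE)
    rw [← h1]
    exact ⟨e, he, rfl⟩
  have hlay : layer H = E := le_antisymm (layer_le_iff.2 fun K hK => (huniq K hK).le) (component_le_layer hE)
  haveI : Fact (Nat.Prime 2) := ⟨Nat.prime_two⟩
  haveI hF0n : (pCore 2 H).Normal := inferInstance
  have hF2 : IsPGroup 2 (pCore 2 H) := Lib.Cores.pCore_isPGroup 2
  have hEF : ∀ e ∈ E, ∀ y ∈ pCore 2 H, e * y = y * e := by
    have h1 : ⁅E, pCore 2 H⁆ = ⊥ := by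
      refine component_commutator_solvable hE ?_ ?_
      · exact le_norm fun k _ n hn => hF0n.conj_mem n hn k
      · haveI : Group.IsNilpotent (pCore 2 H) := hF2.isNilpotent
        infer_instance
    intro e he y hy
    exact (mem_centralizer_iff.1 (commutator_eq_bot_iff_le_centralizer.1 h1 he) y hy).symm
  have hFV : pCore 2 H ≤ V := D.le_V hF2 (fun s hs => hF0n.conj_mem s hs t)
    (fun s hs p hp => (hEF p (hPE hp) s hs).symm) (fun s hs w hw => (hEF w (hVE hw) s hs).symm)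
  have hfit : fittingSubgroup H = pCore 2 H :=
    SignalizersComponents.PConstrained.fittingSubgroup_eq_pCore_of_pPrimeCore_eq_bot 2 D.core
  have hgen : generalizedFittingSubgroup H = E := by
    rw [Lib.GenFitting.genFitting_def, hlay, hfit]
    exact sup_eq_left.2 (hFV.trans hVE)
  have hcen : centralizer (E : Set H) ≤ E := by
    have h1 := Lib.GenFitting.centralizer_genFitting_le (G := H)
    rwa [hgen] at h1
  refine ⟨hPE, hVE, huniq, hnor, hcen, hFV, ?_⟩
  haveI := hnor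
  haveI hcn : (centralizer (E : Set H)).Normal := inferInstance
  have hmul : IsMulCommutative (centralizer (E : Set H)) :=
    ⟨⟨fun a b => Subtype.ext (mem_centralizer_iff.1 b.2 a (hcen a.2))⟩⟩
  have hnil : Group.IsNilpotent (centralizer (E : Set H)) :=
    ⟨1, upperCentralSeries_one_eq_top_iff.2 hmul⟩
  have h1 : centralizer (E : Set H) ≤ fittingSubgroup H := le_sSup ⟨hcn, hnil⟩
  rw [hfit] at h1
  exact hF2.to_le h1

end Data

end Cfsg.Agent.OddHalf.D7Out.Cz
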