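import Cfsg.Agent.OddHalf.D7Out.Front
import Cfsg.Agent.Transfer.FrobeniusFusion

/-!
# D7, the front: a normaliser element of order two modulo `T` (helper841)

* `not_sylow` : if `t ~ t z` for all `z ∈ Z ∩ Z(T) ≠ 1`, then `T` is not a Sylow subgroup of `G`;
* `exists_n` : some `n ∈ N(T)` with `n² ∈ T` maps `t` to `t z` and commutes with `z`, `1 ≠ z ∈ Z ∩ Z(T)`;
* `eq_t` : `v = t`; `front` : all this from `¬ Iso t T`;
* `conj_P`, `conj_Z` : such an element normalises `P` (the perfect residual of `C(t, z)`) and `Z = Z(P)`.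
-/

set_option autoImplicit false

namespace Cfsg.Agent.OddHalf.D7Out.FrontN

open Subgroup Cfsg.Agent.OddHalf.D7Out.Defs Cfsg.Agent.OddHalf.D7Out.Front

variable {G : Type*} [Group G] {t v : G} {K U Z T : Subgroup G}

/-- `T` is not a Sylow subgroup of `G`. -/
theorem not_sylow [Finite G] (F : Fr t v K U Z T) (hne : ∃ z ∈ Z, z ≠ 1 ∧ ∀ x ∈ T, x * z = z * x)
    (hall : ∀ z ∈ Z, (∀ x ∈ T, x * z = z * x) → ∃ g : G, g * t * g⁻¹ = t * z) (S : Sylow 2 G)
    (hS : (S : Subgroup G) = T) : False := by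
  classical
  have : Fact (Nat.Prime 2) := ⟨Nat.prime_two⟩
  set C : Subgroup G := centralizer ({t} : Set G) with hC
  set Z0 : Subgroup G := Z ⊓ centralizer (T : Set G) with hZ0
  have hTC : T ≤ C := fun x hx => mem_centralizer_singleton_iff.2 (F.tc x hx)
  -- fixed cosets
  have hfix : ∀ g : G, ((g : G ⧸ C) ∈ MulAction.fixedPoints ↥T (G ⧸ C)) ↔
      ∀ x ∈ T, x * (g * t * g⁻¹) = g * t * g⁻¹ * x := by
    intro g
    rw [MulAction.mem_fixedPoints]
    have key : ∀ x : G, x • (g : G ⧸ C) = g ↔ x * (g * t * g⁻¹) = g * t * g⁻¹ * x := by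
      intro x
      rw [MulAction.Quotient.smul_mk, smul_eq_mul, QuotientGroup.eq, mem_centralizer_singleton_iff]
      constructor
      · intro h
        have h1 : g⁻¹ * x⁻¹ * g * t = t * (g⁻¹ * x⁻¹ * g) := by
          have e : (x * g)⁻¹ * g = g⁻¹ * x⁻¹ * g := by group
          rwa [e] at h
        calc x * (g * t * g⁻¹) = x * g * (t * (g⁻¹ * x⁻¹ * g)) * g⁻¹ * x := by group
          _ = x * g * (g⁻¹ * x⁻¹ * g * t) * g⁻¹ * x := by rw [h1]
          _ = g * t * g⁻¹ * x := by group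
      · intro h
        calc (x * g)⁻¹ * g * t = g⁻¹ * x⁻¹ * (g * t * g⁻¹ * x) * x⁻¹ * g := by group
          _ = g⁻¹ * x⁻¹ * (x * (g * t * g⁻¹)) * x⁻¹ * g := by rw [h]
          _ = t * ((x * g)⁻¹ * g) := by group
    constructor
    · intro h x hx
      exact (key x).1 (h ⟨x, hx⟩)
    · rintro h ⟨x, hx⟩
      exact (key x).2 (h x hx)
  have hinv : ∀ g : G, g * t * g⁻¹ * (g * t * g⁻¹) = 1 := by
    intro g
    calc g * t * g⁻¹ * (g * t * g⁻¹) = g * (t * t) * g⁻¹ := by group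
      _ = 1 := by rw [F.tt]; group
  have hmem : ∀ g : G, (∀ x ∈ T, x * (g * t * g⁻¹) = g * t * g⁻¹ * x) → t * (g * t * g⁻¹) ∈ Z0 := by
    intro g hg
    obtain ⟨z, hz, hzc, h | h⟩ := center_cases F hg (hinv g)
    · exact absurd h (F.nconj z hz g)
    · rw [h, ← mul_assoc, F.tt, one_mul]
      exact ⟨hz, mem_centralizer_iff.2 hzc⟩
  -- the bijection
  have hout : ∀ q : G ⧸ C, ((q.out : G) : G ⧸ C) = q := fun q => QuotientGroup.out_eq' q
  let f : MulAction.fixedPoints ↥T (G ⧸ C) → Z0 := fun q =>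
    ⟨t * (q.1.out * t * q.1.out⁻¹), hmem _ ((hfix _).1 (by rw [hout]; exact q.2))⟩
  have hf : Function.Bijective f := by
    constructor
    · intro q1 q2 h
      have h1 : t * (q1.1.out * t * q1.1.out⁻¹) = t * (q2.1.out * t * q2.1.out⁻¹) := congrArg Subtype.val h
      have h2 := mul_left_cancel h1
      apply Subtype.ext
      rw [← hout q1.1, ← hout q2.1, QuotientGroup.eq, mem_centralizer_singleton_iff]
      calc q1.1.out⁻¹ * q2.1.out * t = q1.1.out⁻¹ * (q2.1.out * t * q2.1.out⁻¹) * q2.1.out := by group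
        _ = q1.1.out⁻¹ * (q1.1.out * t * q1.1.out⁻¹) * q2.1.out := by rw [h2]
        _ = t * (q1.1.out⁻¹ * q2.1.out) := by group
    · rintro ⟨z, hz, hzT⟩
      have hzT' := mem_centralizer_iff.1 hzT
      obtain ⟨g, hg⟩ := hall z hz hzT'
      have h1 : (g : G ⧸ C) ∈ MulAction.fixedPoints ↥T (G ⧸ C) := by
        rw [hfix, hg]
        intro x hx
        have h2 := hzT' x hx
        calc x * (t * z) = (x * t) * z := by group
          _ = t * (x * z) := by rw [F.tc x hx]; group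
          _ = t * z * x := by rw [h2]; group
      refine ⟨⟨g, h1⟩, Subtype.ext ?_⟩
      show t * ((g : G ⧸ C).out * t * (g : G ⧸ C).out⁻¹) = z
      set o : G := (g : G ⧸ C).out with ho
      have h2 : (g : G ⧸ C) = (o : G ⧸ C) := (hout _).symm
      rw [QuotientGroup.eq, mem_centralizer_singleton_iff] at h2
      have h3 : o * t * o⁻¹ = g * t * g⁻¹ := by
        calc o * t * o⁻¹ = g * (g⁻¹ * o * t) * o⁻¹ := by group
          _ = g * (t * (g⁻¹ * o)) * o⁻¹ := by rw [h2]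
          _ = g * t * g⁻¹ := by group
      rw [h3, hg, ← mul_assoc, F.tt, one_mul]
  have hcard : Nat.card (MulAction.fixedPoints ↥T (G ⧸ C)) = Nat.card Z0 := Nat.card_eq_of_bijective f hf
  have h1 := F.pT.card_modEq_card_fixedPoints (G ⧸ C)
  rw [hcard] at h1
  have h2 : 2 ∣ Nat.card Z0 := by
    obtain ⟨z, hz, hz1, hzc⟩ := hne
    have h3 : orderOf (⟨z, hz, mem_centralizer_iff.2 hzc⟩ : Z0) = 2 := by
      apply orderOf_eq_prime
      · apply Subtype.ext
        show z ^ 2 = 1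
        rw [pow_two]; exact F.Zsq z hz
      · intro h
        exact hz1 (congrArg Subtype.val h)
    rw [← h3]
    exact orderOf_dvd_natCard _
  have h3 : 2 ∣ C.index := (Nat.modEq_zero_iff_dvd.1 (h1.trans (Nat.modEq_zero_iff_dvd.2 h2)))
  have h4 : ¬ 2 ∣ T.index := by
    rw [← hS]; exact S.not_dvd_index
  exact h4 (h3.trans (index_dvd_of_le hTC))

/-- a 2-element normalising `T` and commuting with `t` lies in `T` -/
theorem mem_T_of_norm (F : Fr t v K U Z T) {x : G} (hx : x ∈ normalizer (T : Set G))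
    (hp : IsPGroup 2 ↥(zpowers x)) (hxt : x * t = t * x) : x ∈ T := by
  have hle : zpowers x ≤ normalizer (T : Set G) := by
    rw [zpowers_le]; exact hx
  have h1 : IsPGroup 2 ↥(zpowers x ⊔ T : Subgroup G) := hp.to_sup_of_normal_right' F.pT hle
  have h2 : ∀ y ∈ zpowers x ⊔ T, y * t = t * y := by
    have : zpowers x ⊔ T ≤ centralizer ({t} : Set G) := by
      rw [sup_le_iff, zpowers_le]
      exact ⟨mem_centralizer_singleton_iff.2 hxt, fun y hy => mem_centralizer_singleton_iff.2 (F.tc y hy)⟩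
    intro y hy
    exact mem_centralizer_singleton_iff.1 (this hy)
  exact F.max _ h1 le_sup_right h2 ((le_sup_left : zpowers x ≤ _) (mem_zpowers x))

/-- **A normaliser element of order two modulo `T`.** -/
theorem exists_n [Finite G] (F : Fr t v K U Z T) (hne : ∃ z ∈ Z, z ≠ 1 ∧ ∀ x ∈ T, x * z = z * x)
    (hall : ∀ z ∈ Z, (∀ x ∈ T, x * z = z * x) → ∃ g : G, g * t * g⁻¹ = t * z) :
    ∃ n ∈ normalizer (T : Set G), n * n ∈ T ∧ ∃ z ∈ Z, z ≠ 1 ∧ (∀ x ∈ T, x * z = z * x) ∧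
      n * t * n⁻¹ = t * z ∧ n * z = z * n := by
  classical
  have : Fact (Nat.Prime 2) := ⟨Nat.prime_two⟩
  obtain ⟨S, hTS⟩ := F.pT.exists_le_sylow
  have hlt : T < (S : Subgroup G) := lt_of_le_of_ne hTS fun h => not_sylow F hne hall S h.symm
  have : Group.IsNilpotent (S : Subgroup G) := S.isPGroup'.isNilpotent
  obtain ⟨x, hxS, hxT, hxN⟩ := Cfsg.Agent.Transfer.FrobeniusFusion.exists_mem_normalizer_notMem hlt
  have hex : ∃ k : ℕ, x ^ 2 ^ k ∈ T := by
    obtain ⟨k, hk⟩ := S.isPGroup' ⟨x, hxS⟩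
    refine ⟨k, ?_⟩
    have h1 : x ^ 2 ^ k = 1 := congrArg Subtype.val hk
    rw [h1]; exact one_mem _
  obtain ⟨j, hj⟩ : ∃ j, Nat.find hex = j + 1 := by
    refine Nat.exists_eq_succ_of_ne_zero fun h => ?_
    have h1 := Nat.find_spec hex
    rw [h, pow_zero, pow_one] at h1
    exact hxT h1
  have hnT : x ^ 2 ^ j ∉ T := Nat.find_min hex (by omega)
  have hnn : x ^ 2 ^ j * x ^ 2 ^ j ∈ T := by
    have h1 := Nat.find_spec hex
    rw [hj] at h1
    rw [← pow_add, ← two_mul, ← pow_succ']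
    exact h1
  have hnS : x ^ 2 ^ j ∈ (S : Subgroup G) := pow_mem hxS _
  have hnN : x ^ 2 ^ j ∈ normalizer (T : Set G) := pow_mem hxN _
  generalize x ^ 2 ^ j = n at hnT hnn hnS hnN
  have hp : IsPGroup 2 ↥(zpowers n) := S.isPGroup'.to_le (by rw [zpowers_le]; exact hnS)
  have hnt : n * t * n⁻¹ ≠ t := fun h => hnT (mem_T_of_norm F hnN hp (mul_inv_eq_iff_eq_mul.1 h))
  have hc : ∀ y ∈ T, y * (n * t * n⁻¹) = n * t * n⁻¹ * y := by
    intro y hy
    have h1 : n⁻¹ * y * n ∈ T := by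
      have := (mem_normalizer_iff.1 (inv_mem hnN) y).1 hy
      rwa [inv_inv] at this
    have h2 := F.tc _ h1
    calc y * (n * t * n⁻¹) = n * (n⁻¹ * y * n * t) * n⁻¹ := by group
      _ = n * (t * (n⁻¹ * y * n)) * n⁻¹ := by rw [h2]
      _ = n * t * n⁻¹ * y := by group
  obtain ⟨z, hz, hzc, h | h⟩ := center_cases F hc (by
    calc n * t * n⁻¹ * (n * t * n⁻¹) = n * (t * t) * n⁻¹ := by group
      _ = 1 := by rw [F.tt]; group)
  · exact absurd h (F.nconj z hz n)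
  have hz1 : z ≠ 1 := by
    rintro rfl
    rw [mul_one] at h
    exact hnt h
  refine ⟨n, hnN, hnn, z, hz, hz1, hzc, h, ?_⟩
  have h2 := F.tc _ hnn
  have hzt : z * t = t * z := (hzc t (tT F)).symm
  have hti : t⁻¹ = t := inv_eq_of_mul_eq_one_left F.tt
  have hzi : z⁻¹ = z := inv_eq_of_mul_eq_one_left (F.Zsq z hz)
  have hzz : z = t * (n * t * n⁻¹) := by rw [h, ← mul_assoc, F.tt, one_mul]
  have h3 : n * z * n⁻¹ = z := by
    calc n * z * n⁻¹ = n * (t * (n * t * n⁻¹)) * n⁻¹ := by rw [← hzz]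
      _ = (n * t * n⁻¹) * (n * n * t) * (n * n)⁻¹ := by group
      _ = (n * t * n⁻¹) * (t * (n * n)) * (n * n)⁻¹ := by rw [h2]
      _ = (n * t * n⁻¹) * t := by group
      _ = t * z * t := by rw [h]
      _ = z := by rw [mul_assoc, hzt, ← mul_assoc, F.tt, one_mul]
  rw [mul_inv_eq_iff_eq_mul] at h3
  exact h3

/-- `⟨v⟩ = {1, t}` : `v = t`. -/
theorem v_eq (F : Fr t v K U Z T) (h : ∀ r ∈ zpowers v, r = 1 ∨ r = t) : v = t := by
  rcases h v (mem_zpowers v) with h1 | h1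
  · exfalso
    have h2 := F.tR
    rw [h1, zpowers_one_eq_bot, mem_bot] at h2
    exact F.t1 h2
  · exact h1

/-- the output of the front: `n ∈ N(T)` of order two modulo `T` maps `t` to `t z` and commutes with `z ∈ Z` -/
structure Swap (t : G) (Z T : Subgroup G) (n z : G) : Prop where
  nN : n ∈ normalizer (T : Set G)
  nn : n * n ∈ T
  zZ : z ∈ Z
  z1 : z ≠ 1
  zz : z * z = 1
  zT : ∀ x ∈ T, x * z = z * x
  tz : t * z = z * t
  nt : n * t * n⁻¹ = t * z
  nz : n * z = z * n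

/-- **The front** (`t` not isolated in `Z(T)`). -/
theorem front [Finite G] (F : FrT t v K U Z T) (hni : ¬ Iso t T) :
    v = t ∧ (∀ z ∈ Z, ∃ g : G, g * t * g⁻¹ = t * z) ∧ ∃ n z : G, Swap t Z T n z := by
  obtain ⟨⟨n, hnN, z, hz, hz1, hzc, hnt⟩, hR⟩ := exists_swap F.toFr hni
  have hall := conj_all F hz hz1 hnt
  obtain ⟨m, hm1, hm2, w, hw1, hw2, hw3, hw4, hw5⟩ :=
    exists_n F.toFr ⟨z, hz, hz1, hzc⟩ (fun z hz _ => hall z hz)
  exact ⟨v_eq F.toFr hR, hall, m, w, hm1, hm2, hw1, hw2, F.Zsq w hw1, hw3, hw3 t (tT F.toFr), hw4, hw5⟩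

namespace Swap

variable {n z : G} (S : Swap t Z T n z)

include S

/-- `n` maps `t z` to `t` -/
theorem ntz : n * (t * z) * n⁻¹ = t := by
  calc n * (t * z) * n⁻¹ = (n * t * n⁻¹) * (n * z * n⁻¹) := by group
    _ = t * z * (z * n * n⁻¹) := by rw [S.nt, S.nz]
    _ = t * (z * z) := by group
    _ = t := by rw [S.zz, mul_one]

/-- `n` normalises `C(t, z)` -/
theorem conj_C {x : G} (ht : x * t = t * x) (hz : x * z = z * x) :
    n * x * n⁻¹ * t = t * (n * x * n⁻¹) ∧ n * x * n⁻¹ * z = z * (n * x * n⁻¹) := by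
  constructor
  · calc n * x * n⁻¹ * t = n * x * n⁻¹ * (n * (t * z) * n⁻¹) := by rw [S.ntz]
      _ = n * (x * t * z) * n⁻¹ := by group
      _ = n * (t * z * x) * n⁻¹ := by rw [ht, mul_assoc t x z, hz, mul_assoc t z x]
      _ = (n * (t * z) * n⁻¹) * (n * x * n⁻¹) := by group
      _ = t * (n * x * n⁻¹) := by rw [S.ntz]
  · have h1 : n⁻¹ * z = z * n⁻¹ := by
      rw [inv_mul_eq_iff_eq_mul, ← mul_assoc, S.nz, mul_inv_cancel_right]
    calc n * x * n⁻¹ * z = n * x * (n⁻¹ * z) := by group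
      _ = n * (x * z) * n⁻¹ := by rw [h1]; group
      _ = n * z * x * n⁻¹ := by rw [hz]; group
      _ = z * (n * x * n⁻¹) := by rw [S.nz]; group

/-- `n` normalises `P` if `P` is the perfect residual of `C(t, z)` -/
theorem conj_P [Finite G] {P : Subgroup G} (hP : ⁅P, P⁆ = P)
    (hPt : ∀ p ∈ P, p * t = t * p) (hPz : ∀ p ∈ P, p * z = z * p)
    (hmax : ∀ L : Subgroup G, ⁅L, L⁆ = L → (∀ x ∈ L, x * t = t * x) → (∀ x ∈ L, x * z = z * x) → L ≤ P) :
    ∀ p, n * p * n⁻¹ ∈ P ↔ p ∈ P := by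
  have hle : P.map (MulAut.conj n).toMonoidHom ≤ P := by
    apply hmax
    · rw [← map_commutator, hP]
    · rintro _ ⟨p, hp, rfl⟩
      exact (S.conj_C (hPt p hp) (hPz p hp)).1
    · rintro _ ⟨p, hp, rfl⟩
      exact (S.conj_C (hPt p hp) (hPz p hp)).2
  have hcard : Nat.card (P.map (MulAut.conj n).toMonoidHom) = Nat.card P :=
    (Nat.card_congr (P.equivMapOfInjective _ (MulAut.conj n).injective).toEquiv).symm
  have heq : P.map (MulAut.conj n).toMonoidHom = P := eq_of_le_of_card_ge hle hcard.ge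
  intro p
  constructor
  · intro h
    rw [← heq] at h
    obtain ⟨y, hy, e⟩ := h
    have e' : n * y * n⁻¹ = n * p * n⁻¹ := e
    rw [← mul_left_cancel (mul_right_cancel e')]
    exact hy
  · intro h
    exact hle ⟨p, h, rfl⟩

omit S in
/-- `n` normalises `Z` if `Z = Z(P)` -/
theorem conj_Z {P : Subgroup G} (hnP : ∀ p, n * p * n⁻¹ ∈ P ↔ p ∈ P) (hZP : Z ≤ P)
    (hZc : ∀ z ∈ Z, ∀ p ∈ P, p * z = z * p) (hcZ : ∀ g ∈ P, (∀ p ∈ P, p * g = g * p) → g ∈ Z) :
    ∀ x ∈ Z, n * x * n⁻¹ ∈ Z := by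
  intro x hx
  apply hcZ _ ((hnP x).2 (hZP hx))
  intro p hp
  have h1 : n⁻¹ * p * n ∈ P := by
    rw [← hnP]
    have e : n * (n⁻¹ * p * n) * n⁻¹ = p := by group
    rw [e]; exact hp
  have h2 := hZc x hx _ h1
  calc p * (n * x * n⁻¹) = n * (n⁻¹ * p * n * x) * n⁻¹ := by group
    _ = n * (x * (n⁻¹ * p * n)) * n⁻¹ := by rw [h2]
    _ = n * x * n⁻¹ * p := by group

end Swap

end Cfsg.Agent.OddHalf.D7Out.FrontN
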