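import Cfsg.Agent.OddHalf.D7Out.Defs
import Cfsg.Agent.OddHalf.Front.OrbitTransfer

/-!
# D7, the front, STEP 2: `t` isolated in `Z(T)` and `T / R U` cyclic is impossible (helper841)

Text: bb ODD 8710 (STEP 2), 7489 (1). The transfer of `v` to `T` is computed over the `⟨v⟩`-orbits of `G ⧸ T`; the
group `T` normalizes `⟨v⟩`, so it acts on these orbits, and only the `T`-fixed cosets contribute.
-/

set_option autoImplicit false

namespace Cfsg.Agent.OddHalf.D7Out.TransGen

open Subgroup MulAction Cfsg.Agent.OddHalf.D7Out.Defs Cfsg.Agent.OddHalf.Front.OrbitTransfer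

universe u

variable {G : Type u} [Group G]

/-! ### the action of a group normalizing `⟨x⟩` on the `⟨x⟩`-orbits -/

/-- the action of a group normalizing `⟨x⟩` on the orbits of `x` -/
@[reducible] def orbActionN (H : Subgroup G) (x : G) (D : Subgroup G)
    (hDx : ∀ d ∈ D, d * x * d⁻¹ ∈ zpowers x) : MulAction D (Orb H x) where
  smul d o := Quotient.map' (fun a : G ⧸ H => (d : G) • a) (by
    rintro a b ⟨⟨y, hy⟩, hab⟩
    have hab' : y • b = a := hab
    have hy' : (d : G) * y * (d : G)⁻¹ ∈ zpowers x := by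
      obtain ⟨m, rfl⟩ := mem_zpowers_iff.1 hy
      rw [← conj_zpow]
      exact zpow_mem (hDx d d.2) m
    refine ⟨⟨(d : G) * y * (d : G)⁻¹, hy'⟩, ?_⟩
    show ((d : G) * y * (d : G)⁻¹) • ((d : G) • b) = (d : G) • a
    rw [← hab', ← mul_smul, ← mul_smul, inv_mul_cancel_right]) o
  one_smul o := by
    induction o using Quotient.inductionOn' with
    | h a =>
      show (Quotient.mk'' ((1 : G) • a) : Orb H x) = _
      rw [one_smul]
  mul_smul d e o := by
    induction o using Quotient.inductionOn' with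
    | h a =>
      show (Quotient.mk'' (((d : G) * (e : G)) • a) : Orb H x) = Quotient.mk'' ((d : G) • (e : G) • a)
      rw [mul_smul]

/-- the period is invariant under a group normalizing `⟨x⟩` -/
theorem period_smul_N {X : Type*} [MulAction G X] {x : G} {D : Subgroup G}
    (hDx : ∀ d ∈ D, d * x * d⁻¹ ∈ zpowers x) {d : G} (hd : d ∈ D) (a : X) :
    Function.minimalPeriod (x • ·) (d • a) = Function.minimalPeriod (x • ·) a := by
  have key : ∀ (z : G) (_ : z ∈ D) (b : X),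
      Function.minimalPeriod (x • ·) (z • b) ∣ Function.minimalPeriod (x • ·) b := by
    intro z hz b
    rw [← pow_smul_eq_iff_minimalPeriod_dvd, ← mul_smul]
    set k := Function.minimalPeriod (x • ·) b with hk
    have h1 : z⁻¹ * x * z ∈ zpowers x := by
      have := hDx z⁻¹ (inv_mem hz)
      rwa [inv_inv] at this
    obtain ⟨m, hm⟩ := mem_zpowers_iff.1 h1
    have h2 : x ^ k * z = z * (x ^ k) ^ m := by
      have h3 : (z⁻¹ * x * z) ^ k = (x ^ k) ^ m := by
        rw [← hm, ← zpow_natCast, ← zpow_natCast, ← zpow_mul, ← zpow_mul, mul_comm]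
      have h4 : (z⁻¹ * x * z) ^ k = z⁻¹ * x ^ k * z := by
        have h5 : z⁻¹ * x * z = z⁻¹ * x * z⁻¹⁻¹ := by rw [inv_inv]
        rw [h5, conj_pow, inv_inv]
      rw [← h3, h4]
      group
    rw [h2, mul_smul]
    congr 1
    have h6 : x ^ k • b = b := pow_smul_eq_iff_minimalPeriod_dvd.2 dvd_rfl
    have h7 : x ^ k ∈ stabilizer G b := h6
    exact zpow_mem h7 m
  apply Nat.dvd_antisymm (key d hd a)
  have h2 := key d⁻¹ (inv_mem hd) (d • a)
  rwa [inv_smul_smul] at h2

open Classical in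
/-- **The formula**: `H` a Sylow `2`-subgroup normalizing `⟨x⟩`, `x ∈ H`: only the `H`-fixed cosets count. -/
theorem transfer_eq_of_fixed [Finite G] {A : Type*} [CommGroup A] (H : Subgroup G) (hodd : Odd H.index)
    (hH : IsPGroup 2 H) (φ : H →* A) (x : G) (hx : x ∈ H) (hn : ∀ d ∈ H, d * x * d⁻¹ ∈ zpowers x)
    (c : A) (hc : c ^ 2 = 1)
    (hsq : ∀ (g : G) (k : ℕ) (h : g⁻¹ * x ^ k * g ∈ H), φ ⟨g⁻¹ * x ^ k * g, h⟩ ^ 2 = 1)
    (hinv : ∀ (g : G) (k : ℕ) (d : G), d ∈ H → ∀ (h : g⁻¹ * x ^ k * g ∈ H)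
      (h' : (d * g)⁻¹ * x ^ k * (d * g) ∈ H), φ ⟨(d * g)⁻¹ * x ^ k * (d * g), h'⟩ = φ ⟨g⁻¹ * x ^ k * g, h⟩)
    (hfix : ∀ g : G, g ∈ normalizer (H : Set G) → ∀ h : g⁻¹ * x * g ∈ H, φ ⟨g⁻¹ * x * g, h⟩ = c)
    (hval : ∀ g : G, g ∉ normalizer (H : Set G) → (∀ d ∈ H, ∃ m : ℤ, g⁻¹ * (x ^ m * d) * g ∈ H) →
      ∀ k : ℕ, (∀ j : ℕ, g⁻¹ * x ^ j * g ∈ H ↔ k ∣ j) →
        ∀ h : g⁻¹ * x ^ k * g ∈ H, φ ⟨g⁻¹ * x ^ k * g, h⟩ = 1) :
    MonoidHom.transfer φ x = c := by
  have : Fintype (Orb H x) := Fintype.ofFinite _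
  have : Fintype (G ⧸ H) := Fintype.ofFinite _
  have hF : MonoidHom.transfer φ x = ∏ o : Orb H x, F H φ x o := by
    rw [MonoidHom.transfer_eq_prod_quotient_orbitRel_zpowers_quot]
    rfl
  let act := orbActionN H x H hn
  have hfix0 : ∀ g : G, g⁻¹ * x ^ (Function.minimalPeriod (x • ·) (g : G ⧸ H)) * g ∈ H := by
    intro g
    rw [← smul_mk_eq]
    exact pow_smul_eq_iff_minimalPeriod_dvd.2 dvd_rfl
  -- a coset fixed by `H`
  have hcos : ∀ g : G, (∀ d : H, (d : G) • (g : G ⧸ H) = (g : G ⧸ H)) → g ∈ normalizer (H : Set G) := by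
    intro g hg
    have h1 : H ≤ H.map (MulAut.conj g).toMonoidHom := by
      intro d hd
      refine ⟨g⁻¹ * d * g, (smul_mk_eq H d g).1 (hg ⟨d, hd⟩), ?_⟩
      show g * (g⁻¹ * d * g) * g⁻¹ = d
      group
    have h2 : H.map (MulAut.conj g).toMonoidHom = H := by
      refine (Subgroup.eq_of_le_of_card_ge h1 ?_).symm
      rw [Subgroup.card_map_of_injective (MulAut.conj g).injective]
    rw [Subgroup.mem_normalizer_iff]
    intro d
    constructor
    · intro hd
      rw [← h2]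
      exact ⟨d, hd, rfl⟩
    · intro hd
      have hd' : g * d * g⁻¹ ∈ H.map (MulAut.conj g).toMonoidHom := by
        rw [h2]; exact hd
      obtain ⟨e, he, hed⟩ := hd'
      have h3 : g * e * g⁻¹ = g * d * g⁻¹ := hed
      have h4 : e = d := by
        rw [mul_left_inj] at h3
        exact mul_left_cancel h3
      rw [← h4]
      exact he
  have hcos' : ∀ g : G, g ∈ normalizer (H : Set G) → ∀ d ∈ H, d • (g : G ⧸ H) = (g : G ⧸ H) := by
    intro g hg d hd
    rw [smul_mk_eq]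
    have h1 := inv_mem hg
    have h2 := (Subgroup.mem_normalizer_iff.1 h1 d).1 hd
    rwa [inv_inv] at h2
  set S1 : Finset (G ⧸ H) := Finset.univ.filter (fun a => ∀ d : H, (d : G) • a = a) with hS1
  have hper1 : ∀ a ∈ S1, x • a = a := by
    intro a ha
    exact (Finset.mem_filter.1 ha).2 ⟨x, hx⟩
  set mk : G ⧸ H → Orb H x := fun a => Quotient.mk'' a with hmk
  have hinj : Set.InjOn mk (S1 : Set (G ⧸ H)) := by
    intro a ha b hb hab
    obtain ⟨⟨y, hy⟩, hyb⟩ := Quotient.exact hab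
    have hyb' : y • b = a := hyb
    obtain ⟨m, rfl⟩ := mem_zpowers_iff.1 hy
    have h1 : x ∈ stabilizer G b := hper1 b hb
    have h2 : x ^ m ∈ stabilizer G b := zpow_mem h1 m
    rw [← hyb']
    exact h2
  have hS2 : S1.image mk ⊆ Finset.univ.filter (fun o : Orb H x => ∀ d : H, d • o = o) := by
    intro o ho
    obtain ⟨a, ha, rfl⟩ := Finset.mem_image.1 ho
    rw [Finset.mem_filter]
    refine ⟨Finset.mem_univ _, fun d => ?_⟩
    show (Quotient.mk'' ((d : G) • a) : Orb H x) = Quotient.mk'' a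
    rw [(Finset.mem_filter.1 ha).2 d]
  rw [hF, prod_fixed hH Finset.univ (fun _ _ _ => Finset.mem_univ _) (F H φ x) ?_ ?_]
  · rw [← Finset.prod_subset hS2, Finset.prod_image hinj]
    · have h1 : ∀ a ∈ S1, F H φ x (mk a) = c := by
        intro a ha
        obtain ⟨g, rfl⟩ := QuotientGroup.mk_surjective a
        have h2 : Function.minimalPeriod (x • ·) (g : G ⧸ H) = 1 := by
          rw [Function.minimalPeriod_eq_one_iff_isFixedPt]
          exact hper1 _ ha
        have hgN := hcos g (Finset.mem_filter.1 ha).2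
        have h3 : g⁻¹ * x ^ 1 * g ∈ H := by
          have := hfix0 g
          rwa [h2] at this
        show F H φ x (Quotient.mk'' (g : G ⧸ H)) = c
        rw [F_mk H φ x g h2 h3]
        have h4 : g⁻¹ * x * g ∈ H := by simpa using h3
        rw [← hfix g hgN h4]
        congr 1
        apply Subtype.ext
        simp
      rw [Finset.prod_congr rfl h1, Finset.prod_const]
      -- the number of fixed cosets is odd
      have h5 : Odd S1.card := by
        have h6 := hH.card_modEq_card_fixedPoints (G ⧸ H)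
        have h7 : Nat.card (fixedPoints H (G ⧸ H)) = S1.card := by
          have h8 : fixedPoints H (G ⧸ H) = (S1 : Set (G ⧸ H)) := by
            ext a
            rw [mem_fixedPoints, hS1, Finset.mem_coe, Finset.mem_filter]
            constructor
            · intro h
              exact ⟨Finset.mem_univ _, fun d => h d⟩
            · intro h d
              exact h.2 d
          rw [h8]
          simp
        have h9 : Nat.card (G ⧸ H) = H.index := rfl
        rw [h7, h9] at h6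
        rw [Nat.odd_iff] at hodd ⊢
        rw [← hodd]
        exact h6.symm
      obtain ⟨j, hj⟩ := h5
      rw [hj, pow_succ, pow_mul, hc, one_pow, one_mul]
    · intro o ho hne
      rw [Finset.mem_filter] at ho
      obtain ⟨q, rfl⟩ := Quotient.exists_rep o
      obtain ⟨g, rfl⟩ := QuotientGroup.mk_surjective q
      change F H φ x (Quotient.mk'' (g : G ⧸ H)) = 1
      rw [F_mk H φ x g rfl (hfix0 g)]
      apply hval g
      · intro hgN
        apply hne
        refine Finset.mem_image.2 ⟨(g : G ⧸ H), ?_, rfl⟩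
        rw [hS1, Finset.mem_filter]
        exact ⟨Finset.mem_univ _, fun d => hcos' g hgN d d.2⟩
      · intro d hd
        have h1 := ho.2 ⟨d, hd⟩
        have h2 : (Quotient.mk'' (d • (g : G ⧸ H)) : Orb H x) = Quotient.mk'' (g : G ⧸ H) := h1
        obtain ⟨⟨y, hy⟩, hyg⟩ := Quotient.exact h2
        obtain ⟨m, rfl⟩ := mem_zpowers_iff.1 hy
        have hyg' : x ^ m • (g : G ⧸ H) = d • (g : G ⧸ H) := hyg
        refine ⟨-m, ?_⟩
        rw [← smul_mk_eq, mul_smul, ← hyg', ← mul_smul, ← zpow_add,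
          neg_add_cancel, zpow_zero, one_smul]
      · intro j
        rw [← pow_smul_eq_iff_minimalPeriod_dvd, smul_mk_eq]
  · intro d o _
    obtain ⟨q, rfl⟩ := Quotient.exists_rep o
    obtain ⟨g, rfl⟩ := QuotientGroup.mk_surjective q
    have h0 : (d • (Quotient.mk'' (g : G ⧸ H) : Orb H x)) = Quotient.mk'' (((d : G) * g : G) : G ⧸ H) := rfl
    change F H φ x (d • (Quotient.mk'' (g : G ⧸ H) : Orb H x)) = F H φ x (Quotient.mk'' (g : G ⧸ H))
    rw [h0]
    have h1 : Function.minimalPeriod (x • ·) (((d : G) * g : G) : G ⧸ H) =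
        Function.minimalPeriod (x • ·) (g : G ⧸ H) := period_smul_N hn d.2 (g : G ⧸ H)
    have h5 : ((d : G) * g)⁻¹ * x ^ Function.minimalPeriod (x • ·) (g : G ⧸ H) * ((d : G) * g) ∈ H := by
      have := hfix0 ((d : G) * g)
      rwa [h1] at this
    rw [F_mk H φ x _ h1 h5, F_mk H φ x g rfl (hfix0 g)]
    exact hinv g _ d d.2 _ _
  · intro o _
    exact hsq _ _ _

/-! ### characters of a `2`-group `⟨σ⟩⟨ν⟩` -/

/-- in a finite `2`-group, an element is a power of its odd powers -/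
theorem mem_zpowers_odd {Q : Type*} [Group Q] [Finite Q] (hQ : IsPGroup 2 Q) (ν : Q) (j : ℤ) (hj : Odd j) :
    ν ∈ zpowers (ν ^ j) := by
  obtain ⟨n, hn⟩ := hQ ν
  have h1 : IsCoprime j ((2 : ℤ) ^ n) := by
    obtain ⟨k, hk⟩ := hj
    exact IsCoprime.pow_right ⟨1, -k, by rw [hk]; ring⟩
  obtain ⟨a, b, hab⟩ := h1
  refine mem_zpowers_iff.2 ⟨a, ?_⟩
  have h2 : (ν ^ j) ^ a = ν ^ (a * j + b * 2 ^ n) := by
    rw [zpow_add, ← zpow_mul, mul_comm j a]
    have h3 : ν ^ (b * 2 ^ n : ℤ) = 1 := by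
      rw [mul_comm, zpow_mul]
      have h4 : ν ^ ((2 : ℤ) ^ n) = 1 := by
        rw [← hn, ← zpow_natCast]
        congr 1
      rw [h4, one_zpow]
    rw [h3, mul_one]
  rw [h2, hab, zpow_one]

/-- the character with kernel a subgroup of index two -/
theorem exists_sign {Q : Type*} [Group Q] (M : Subgroup Q) (hM : M.index = 2) {ν : Q} (hν : ν ∉ M) :
    ∃ χ : Q →* ℤˣ, χ ν = -1 := by
  classical
  refine ⟨MonoidHom.mk' (fun x => if x ∈ M then 1 else -1) ?_, ?_⟩
  · intro a b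
    by_cases ha : a ∈ M <;> by_cases hb : b ∈ M <;>
      simp [mul_mem_iff_of_index_two hM, ha, hb]
  · show (if ν ∈ M then (1 : ℤˣ) else -1) = -1
    rw [if_neg hν]

/-- A finite `2`-group `⟨σ⟩⟨ν⟩` with `⟨ν⟩` normal is abelian, or `ν` is not in the Frattini subgroup. -/
theorem comm_or_sign {Q : Type*} [Group Q] [Finite Q] (hQ : IsPGroup 2 Q) (σ ν : Q)
    (hn : ∀ x : Q, x * ν * x⁻¹ ∈ zpowers ν) (hgen : ∀ x : Q, ∃ k j : ℤ, x = σ ^ k * ν ^ j) :
    (∀ x y : Q, x * y = y * x) ∨ ∃ χ : Q →* ℤˣ, χ ν = -1 := by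
  have hconj : ∀ (x : Q) (j : ℤ), ∃ m : ℤ, x⁻¹ * ν ^ (2 * j) * x = ν ^ (2 * m) := by
    intro x j
    obtain ⟨m, hm⟩ := mem_zpowers_iff.1 (hn x⁻¹)
    refine ⟨m * j, ?_⟩
    have h1 : x⁻¹ * ν ^ (2 * j) * x = (x⁻¹ * ν * x⁻¹⁻¹) ^ (2 * j) := by
      rw [conj_zpow, inv_inv]
    rw [h1, ← hm, ← zpow_mul]
    congr 1
    ring
  let M : Subgroup Q :=
    { carrier := {x | ∃ k j : ℤ, x = σ ^ k * ν ^ (2 * j)}
      one_mem' := ⟨0, 0, by simp⟩
      mul_mem' := by
        rintro _ _ ⟨k, j, rfl⟩ ⟨l, i, rfl⟩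
        obtain ⟨m, hm⟩ := hconj (σ ^ l) j
        refine ⟨k + l, m + i, ?_⟩
        rw [mul_add, zpow_add, zpow_add, ← hm]
        group
      inv_mem' := by
        rintro _ ⟨k, j, rfl⟩
        obtain ⟨m, hm⟩ := hconj (σ ^ (-k)) (-j)
        refine ⟨-k, m, ?_⟩
        rw [← hm]
        group }
  by_cases hν : ν ∈ M
  · left
    obtain ⟨k, j, hkj⟩ := hν
    have h1 : ν ^ (1 - 2 * j) = σ ^ k := by
      rw [zpow_sub, zpow_one]
      nth_rewrite 1 [hkj]
      rw [mul_inv_cancel_right]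
    have h2 : ν ∈ zpowers σ := by
      have h3 := mem_zpowers_odd hQ ν (1 - 2 * j) ⟨-j, by ring⟩
      rw [h1] at h3
      exact zpowers_le.2 (zpow_mem (mem_zpowers σ) k) h3
    have h4 : ∀ x : Q, x ∈ zpowers σ := by
      intro x
      obtain ⟨a, b, rfl⟩ := hgen x
      exact mul_mem (zpow_mem (mem_zpowers σ) a) (zpow_mem h2 b)
    intro x y
    obtain ⟨a, rfl⟩ := mem_zpowers_iff.1 (h4 x)
    obtain ⟨b, rfl⟩ := mem_zpowers_iff.1 (h4 y)
    rw [← zpow_add, ← zpow_add, add_comm]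
  · right
    apply exists_sign M _ hν
    rw [index_eq_two_iff]
    refine ⟨ν, fun b => ?_⟩
    have hnot : b ∈ M → b * ν ∉ M := by
      intro hb h
      apply hν
      have := mul_mem (inv_mem hb) h
      rwa [inv_mul_cancel_left] at this
    obtain ⟨k, j, hb⟩ := hgen b
    rcases Int.even_or_odd' j with ⟨i, rfl | rfl⟩
    · have h1 : b ∈ M := ⟨k, i, hb⟩
      exact Or.inr ⟨h1, hnot h1⟩
    · have h1 : b * ν ∈ M := by
        refine ⟨k, i + 1, ?_⟩
        rw [hb, mul_assoc, ← zpow_add_one]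
        congr 2
        ring
      exact Or.inl ⟨h1, fun h => hnot h h1⟩

/-! ### the main theorem -/

section Main

variable {t v : G} {K U Z T : Subgroup G}

theorem fr_vt (F : Fr t v K U Z T) : v * t = t * v := F.tc v F.vT

/-- `C(t)` normalizes `⟨v⟩` -/
theorem fr_nR (F : Fr t v K U Z T) {c : G} (hc : c * t = t * c) : c * v * c⁻¹ ∈ zpowers v := by
  apply F.cK
  · have h1 : c⁻¹ * t = t * c⁻¹ := by
      rw [inv_mul_eq_iff_eq_mul, ← mul_assoc, hc, mul_inv_cancel_right]
    calc c * v * c⁻¹ * t = c * v * (c⁻¹ * t) := by group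
      _ = c * (v * t) * c⁻¹ := by rw [h1]; group
      _ = (c * t) * v * c⁻¹ := by rw [fr_vt F]; group
      _ = t * (c * v * c⁻¹) := by rw [hc]; group
  · intro x hx
    have h2 : c⁻¹ * x * c ∈ K := by
      have h1 : c⁻¹ * t = t * c⁻¹ := by
        rw [inv_mul_eq_iff_eq_mul, ← mul_assoc, hc, mul_inv_cancel_right]
      have h3 := (Subgroup.mem_normalizer_iff.1 (F.nK c⁻¹ h1) x).1 hx
      rwa [inv_inv] at h3
    have h3 := F.vK _ h2
    calc x * (c * v * c⁻¹) = c * (c⁻¹ * x * c * v) * c⁻¹ := by group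
      _ = c * (v * (c⁻¹ * x * c)) * c⁻¹ := by rw [h3]
      _ = c * v * c⁻¹ * x := by group

theorem fr_nR' (F : Fr t v K U Z T) {c : G} (hc : c * t = t * c) {r : G} (hr : r ∈ zpowers v) :
    c * r * c⁻¹ ∈ zpowers v := by
  obtain ⟨m, rfl⟩ := mem_zpowers_iff.1 hr
  rw [← conj_zpow]
  exact zpow_mem (fr_nR F hc) m

/-- `t` is the only involution of `⟨v⟩` -/
theorem fr_inv [Finite G] (F : Fr t v K U Z T) {y : G} (hy : y ∈ zpowers v) (hyy : y * y = 1)
    (hy1 : y ≠ 1) : y = t := by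
  classical
  by_contra hne
  have : Fintype ↥(zpowers v) := Fintype.ofFinite _
  have h1 := IsCyclic.card_pow_eq_one_le (α := ↥(zpowers v)) (n := 2) two_pos
  have h2 : ({1, ⟨t, F.tR⟩, ⟨y, hy⟩} : Finset ↥(zpowers v)) ⊆
      Finset.univ.filter (fun a : ↥(zpowers v) => a ^ 2 = 1) := by
    intro a ha
    rw [Finset.mem_insert, Finset.mem_insert, Finset.mem_singleton] at ha
    rw [Finset.mem_filter]
    refine ⟨Finset.mem_univ _, ?_⟩
    rcases ha with rfl | rfl | rfl
    · exact one_pow 2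
    · exact Subtype.ext (by rw [Subgroup.coe_pow, pow_two]; exact F.tt)
    · exact Subtype.ext (by rw [Subgroup.coe_pow, pow_two]; exact hyy)
  have h3 : ({1, ⟨t, F.tR⟩, ⟨y, hy⟩} : Finset ↥(zpowers v)).card = 3 := by
    rw [Finset.card_eq_three]
    refine ⟨_, _, _, ?_, ?_, ?_, rfl⟩
    · intro h4
      exact F.t1 (congrArg Subtype.val h4).symm
    · intro h4
      exact hy1 (congrArg Subtype.val h4).symm
    · intro h4
      exact hne (congrArg Subtype.val h4).symm
  have h4 := Finset.card_le_card h2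
  omega

/-- every non-trivial subgroup of `⟨v⟩` contains `t` -/
theorem fr_mem [Finite G] (F : Fr t v K U Z T) {r : G} (hr : r ∈ zpowers v) (h1 : r ≠ 1) :
    t ∈ zpowers r := by
  have hp : IsPGroup 2 (zpowers r) := F.pR.to_le (zpowers_le.2 hr)
  obtain ⟨n, hn⟩ := IsPGroup.iff_card.1 hp
  rw [Nat.card_zpowers] at hn
  have hn0 : n ≠ 0 := by
    rintro rfl
    rw [pow_zero, orderOf_eq_one_iff] at hn
    exact h1 hn
  obtain ⟨m, rfl⟩ := Nat.exists_eq_succ_of_ne_zero hn0
  have h2 : r ^ (2 ^ m) = t := by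
    apply fr_inv F (pow_mem hr _)
    · rw [← pow_add, ← two_mul, ← pow_succ', ← hn, pow_orderOf_eq_one]
    · intro h
      have h3 := orderOf_dvd_of_pow_eq_one h
      rw [hn] at h3
      have h4 := Nat.le_of_dvd (pow_pos two_pos m) h3
      rw [Nat.succ_eq_add_one, pow_succ] at h4
      have := pow_pos (show 0 < 2 by norm_num) m
      omega
  rw [← h2]
  exact pow_mem (mem_zpowers r) _

theorem inv_comm {c t : G} (hc : c * t = t * c) : c⁻¹ * t = t * c⁻¹ := by
  rw [inv_mul_eq_iff_eq_mul, ← mul_assoc, hc, mul_inv_cancel_right]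

theorem mul_comm3 {a b t : G} (ha : a * t = t * a) (hb : b * t = t * b) : a * b * t = t * (a * b) := by
  rw [mul_assoc, hb, ← mul_assoc, ha, mul_assoc]

/-- an element of `C(t)` raises `v` to an odd power -/
theorem fr_odd (F : Fr t v K U Z T) {c : G} (hc : c * t = t * c) :
    ∃ m : ℤ, Odd m ∧ ∀ k : ℤ, c⁻¹ * v ^ k * c = v ^ (m * k) := by
  have h1 := fr_nR F (inv_comm hc)
  rw [inv_inv] at h1
  obtain ⟨m, hm⟩ := mem_zpowers_iff.1 h1
  have hk : ∀ k : ℤ, c⁻¹ * v ^ k * c = v ^ (m * k) := by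
    intro k
    have h2 : c⁻¹ * v ^ k * c = (c⁻¹ * v * c⁻¹⁻¹) ^ k := by rw [conj_zpow, inv_inv]
    rw [h2, inv_inv, ← hm, ← zpow_mul]
  refine ⟨m, ?_, hk⟩
  obtain ⟨j, hj⟩ := mem_zpowers_iff.1 F.tR
  by_contra hodd
  rw [Int.not_odd_iff_even] at hodd
  obtain ⟨i, hi⟩ := hodd
  have h2 := hk j
  rw [hj] at h2
  have h3 : c⁻¹ * t * c = t := by
    rw [mul_assoc, ← hc, inv_mul_cancel_left]
  have h4 : v ^ (m * j) = 1 := by
    rw [mul_comm, zpow_mul, hj, hi, zpow_add, ← zpow_add, ← two_mul, zpow_mul]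
    have h5 : t ^ (2 : ℤ) = 1 := by rw [zpow_two]; exact F.tt
    rw [h5, one_zpow]
  rw [h3, h4] at h2
  exact F.t1 h2

/-- `T` is a Sylow subgroup of `G` -/
theorem fr_index [Finite G] (F : Fr t v K U Z T) (hiso : Iso t T) : Odd T.index := by
  have : Fact (Nat.Prime 2) := ⟨Nat.prime_two⟩
  obtain ⟨S, hS⟩ := F.pT.exists_le_sylow
  have hST : (S : Subgroup G) ≤ T := by
    by_contra hne
    have hlt : T.subgroupOf S < ⊤ := by
      rw [lt_top_iff_ne_top]
      intro h
      exact hne (subgroupOf_eq_top.1 h)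
    have : Group.IsNilpotent S := S.2.isNilpotent
    have h1 := Group.normalizerCondition_of_isNilpotent _ hlt
    obtain ⟨n, hn, hnT⟩ := SetLike.exists_of_lt h1
    have hnT' : (n : G) ∉ T := fun h => hnT (mem_subgroupOf.2 h)
    have hnN : ∀ d ∈ T, (n : G) * d * (n : G)⁻¹ ∈ T := by
      intro d hd
      have h2 := (Subgroup.mem_normalizer_iff.1 hn ⟨d, hS hd⟩).1 (mem_subgroupOf.2 hd)
      exact mem_subgroupOf.1 h2
    have hnN' : ∀ d ∈ T, (n : G)⁻¹ * d * (n : G) ∈ T := by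
      intro d hd
      have h2 := (Subgroup.mem_normalizer_iff.1 (inv_mem hn) ⟨d, hS hd⟩).1 (mem_subgroupOf.2 hd)
      have h3 := mem_subgroupOf.1 h2
      rw [inv_inv] at h3
      exact h3
    have htT : t ∈ T := zpowers_le.2 F.vT F.tR
    have h2 : (n : G) * t * (n : G)⁻¹ = t := by
      apply hiso _ (hnN t htT)
      intro x hx
      have h3 := F.tc _ (hnN' x hx)
      calc x * ((n : G) * t * (n : G)⁻¹) = n * ((n : G)⁻¹ * x * n * t) * (n : G)⁻¹ := by group
        _ = n * (t * ((n : G)⁻¹ * x * n)) * (n : G)⁻¹ := by rw [h3]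
        _ = n * t * (n : G)⁻¹ * x := by group
    rw [mul_inv_eq_iff_eq_mul] at h2
    apply hnT'
    have h3 : T ⊔ zpowers (n : G) ≤ T := by
      apply F.max
      · apply S.2.to_le
        rw [sup_le_iff]
        exact ⟨hS, zpowers_le.2 n.2⟩
      · exact le_sup_left
      · have h4 : T ⊔ zpowers (n : G) ≤ centralizer ({t} : Set G) := by
          rw [sup_le_iff]
          constructor
          · intro x hx
            exact mem_centralizer_singleton_iff.2 (F.tc x hx)
          · rw [zpowers_le]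
            exact mem_centralizer_singleton_iff.2 h2
        intro x hx
        exact mem_centralizer_singleton_iff.1 (h4 hx)
    exact h3 ((le_sup_right : zpowers (n : G) ≤ _) (mem_zpowers _))
  have h2 : (S : Subgroup G) = T := le_antisymm hST hS
  have h3 := S.not_dvd_index
  rw [h2] at h3
  rw [Nat.odd_iff]
  omega

/-- the elements of `N(T)` centralize `t` -/
theorem fr_N (F : Fr t v K U Z T) (hiso : Iso t T) {g : G} (hg : g ∈ normalizer (T : Set G)) :
    g * t = t * g := by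
  have htT : t ∈ T := zpowers_le.2 F.vT F.tR
  have h2 : g * t * g⁻¹ = t := by
    apply hiso _ ((Subgroup.mem_normalizer_iff.1 hg t).1 htT)
    intro x hx
    have h3 : g⁻¹ * x * g ∈ T := by
      have := (Subgroup.mem_normalizer_iff.1 (inv_mem hg) x).1 hx
      rwa [inv_inv] at this
    have h3 := F.tc _ h3
    calc x * (g * t * g⁻¹) = g * (g⁻¹ * x * g * t) * g⁻¹ := by group
      _ = g * (t * (g⁻¹ * x * g)) * g⁻¹ := by rw [h3]
      _ = g * t * g⁻¹ * x := by group
  rwa [mul_inv_eq_iff_eq_mul] at h2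

theorem mem_N_of_le [Finite G] {g : G} (h : ∀ d ∈ T, g⁻¹ * d * g ∈ T) : g ∈ normalizer (T : Set G) := by
  have h1 : T ≤ T.map (MulAut.conj g).toMonoidHom := by
    intro d hd
    refine ⟨g⁻¹ * d * g, h d hd, ?_⟩
    show g * (g⁻¹ * d * g) * g⁻¹ = d
    group
  have h2 : T.map (MulAut.conj g).toMonoidHom = T := by
    refine (Subgroup.eq_of_le_of_card_ge h1 ?_).symm
    rw [Subgroup.card_map_of_injective (MulAut.conj g).injective]
  rw [Subgroup.mem_normalizer_iff]
  intro d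
  constructor
  · intro hd
    have hd' : g * d * g⁻¹ ∈ T.map (MulAut.conj g).toMonoidHom := ⟨d, hd, rfl⟩
    rw [h2] at hd'
    exact hd'
  · intro hd
    have := h _ hd
    have h3 : g⁻¹ * (g * d * g⁻¹) * g = d := by group
    rwa [h3] at this

/-- **The orbits fixed by `T`**: if the `⟨v⟩`-orbit of the coset `gT` is fixed by `T` and `t` fixes `gT`, then `g`
normalizes `T`. -/
theorem fr_orbit [Finite G] (F : Fr t v K U Z T) (hiso : Iso t T) {g : G}
    (hfix : ∀ d ∈ T, ∃ m : ℤ, g⁻¹ * (v ^ m * d) * g ∈ T) (ht : g⁻¹ * t * g ∈ T) :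
    g ∈ normalizer (T : Set G) := by
  have htT : t ∈ T := zpowers_le.2 F.vT F.tR
  have hRT : ∀ m : ℤ, v ^ m ∈ T := fun m => zpow_mem F.vT m
  -- `τ = g t g⁻¹`
  set τ := g * t * g⁻¹ with hτ
  -- elements of `g T g⁻¹` commute with `τ`
  have hτc : ∀ y : G, g⁻¹ * y * g ∈ T → y * τ = τ * y := by
    intro y hy
    have h1 := F.tc _ hy
    calc y * τ = g * (g⁻¹ * y * g * t) * g⁻¹ := by rw [hτ]; group
      _ = g * (t * (g⁻¹ * y * g)) * g⁻¹ := by rw [h1]
      _ = τ * y := by rw [hτ]; group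
  have htτ : t * τ = τ * t := hτc t ht
  -- decomposition of the elements of `T`
  have hdec : ∀ d ∈ T, ∃ m : ℤ, g⁻¹ * (v ^ m * d) * g ∈ T ∧ (v ^ m * d) * τ = τ * (v ^ m * d) ∧
      d = v ^ (-m) * (v ^ m * d) := by
    intro d hd
    obtain ⟨m, hm⟩ := hfix d hd
    exact ⟨m, hm, hτc _ hm, by rw [zpow_neg, inv_mul_cancel_left]⟩
  have hτt : τ * t = t * τ := htτ.symm
  -- `τ ∈ T`
  have hτT : τ ∈ T := by
    set C0 : Subgroup G := T.map (MulAut.conj g).toMonoidHom ⊓ centralizer ({t} : Set G) with hC0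
    have hmem : ∀ y : G, g⁻¹ * y * g ∈ T → y * t = t * y → y ∈ C0 := by
      intro y hy hyt
      refine ⟨⟨g⁻¹ * y * g, hy, ?_⟩, mem_centralizer_singleton_iff.2 hyt⟩
      show g * (g⁻¹ * y * g) * g⁻¹ = y
      group
    have hP : IsPGroup 2 (C0 ⊔ zpowers v : Subgroup G) := by
      apply IsPGroup.to_sup_of_normal_right' ((F.pT.map _).to_le inf_le_left) F.pR
      intro c hc
      have hct : c * t = t * c := mem_centralizer_singleton_iff.1 hc.2
      rw [Subgroup.mem_normalizer_iff]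
      intro x
      constructor
      · exact fun hx => fr_nR' F hct hx
      · intro hx
        have h1 := fr_nR' F (inv_comm hct) hx
        have h2 : c⁻¹ * (c * x * c⁻¹) * c⁻¹⁻¹ = x := by group
        rwa [h2] at h1
    have h1 : C0 ⊔ zpowers v ≤ T := by
      apply F.max _ hP
      · intro d hd
        obtain ⟨m, hm, -, hd'⟩ := hdec d hd
        rw [hd']
        refine mul_mem ((le_sup_right : zpowers v ≤ _) (zpow_mem (mem_zpowers v) _))
          ((le_sup_left : C0 ≤ _) (hmem _ hm ?_))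
        exact F.tc _ (mul_mem (hRT m) hd)
      · have h2 : C0 ⊔ zpowers v ≤ centralizer ({t} : Set G) := by
          rw [sup_le_iff]
          refine ⟨inf_le_right, ?_⟩
          rw [zpowers_le]
          exact mem_centralizer_singleton_iff.2 (fr_vt F)
        intro x hx
        exact mem_centralizer_singleton_iff.1 (h2 hx)
    apply h1
    apply (le_sup_left : C0 ≤ _)
    apply hmem _ _ hτt
    have h2 : g⁻¹ * τ * g = t := by rw [hτ]; group
    rw [h2]
    exact htT
  -- `τ` centralizes `U`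
  have hτU : ∀ u ∈ U, τ * u = u * τ := by
    intro u hu
    have huTK : u ∈ T ⊓ K := by rw [← F.U_eq]; exact hu
    obtain ⟨m, hm, hw, hu'⟩ := hdec u huTK.1
    set w := v ^ m * u with hw'
    have h1 : u * τ * u⁻¹ * τ⁻¹ = v ^ (-m) * (τ * v ^ m * τ⁻¹) := by
      have h2 : w * τ * w⁻¹ = τ := by rw [hw, mul_inv_cancel_right]
      have h3 : u * τ * u⁻¹ = v ^ (-m) * (w * τ * w⁻¹) * v ^ m := by
        rw [hw', zpow_neg]; group
      rw [h3, h2]
      group
    have h2 : u * τ * u⁻¹ * τ⁻¹ ∈ zpowers v := by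
      rw [h1]
      exact mul_mem (zpow_mem (mem_zpowers v) _) (fr_nR' F hτt (zpow_mem (mem_zpowers v) m))
    have h3 : u * τ * u⁻¹ * τ⁻¹ ∈ K := by
      have h4 : u * τ * u⁻¹ * τ⁻¹ = u * (τ * u⁻¹ * τ⁻¹) := by group
      rw [h4]
      exact mul_mem huTK.2 ((Subgroup.mem_normalizer_iff.1 (F.nK τ hτt) u⁻¹).1 (inv_mem huTK.2))
    have h5 := F.KR _ h3 h2
    rw [mul_inv_eq_one, mul_inv_eq_iff_eq_mul] at h5
    exact h5.symm
  obtain ⟨r, hr, z, hz, hrz⟩ := F.cU τ hτT hτU
  have hzK : z ∈ K := by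
    have h1 : z ∈ T ⊓ K := by rw [← F.U_eq]; exact F.ZU hz
    exact h1.2
  have hzv : z * v = v * z := F.vK z hzK
  have hzr : z * r = r * z := by
    obtain ⟨m, rfl⟩ := mem_zpowers_iff.1 hr
    exact ((show Commute z v from hzv).zpow_right m).eq
  have hττ : τ * τ = 1 := by
    have h1 : τ * τ = g * (t * t) * g⁻¹ := by rw [hτ]; group
    rw [h1, F.tt]
    group
  have hrr : r * r = 1 := by
    have h1 : τ * τ = r * r * (z * z) := by
      rw [hrz]
      calc r * z * (r * z) = r * (z * r) * z := by group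
        _ = r * (r * z) * z := by rw [hzr]
        _ = r * r * (z * z) := by group
    rw [hττ, F.Zsq z hz, mul_one] at h1
    exact h1.symm
  have hrt : r = t := by
    apply fr_inv F hr hrr
    rintro rfl
    rw [one_mul] at hrz
    exact F.nconj z hz g hrz
  have hvτ : v * τ = τ * v := by
    rw [hrz, hrt]
    calc v * (t * z) = (v * t) * z := by group
      _ = t * (v * z) := by rw [fr_vt F]; group
      _ = t * z * v := by rw [← hzv]; group
  have hτ1 : τ = t := by
    apply hiso g hτT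
    intro x hx
    obtain ⟨m, -, hw, hx'⟩ := hdec x hx
    have h1 : v ^ (-m) * τ = τ * v ^ (-m) := ((show Commute τ v from hvτ.symm).zpow_right (-m)).eq.symm
    change x * τ = τ * x
    rw [hx']
    exact mul_comm3 h1 hw
  have hgt : g * t = t * g := by
    rw [hτ, mul_inv_eq_iff_eq_mul] at hτ1
    exact hτ1
  apply mem_N_of_le
  intro d hd
  obtain ⟨m, hm, -, hd'⟩ := hdec d hd
  have h1 : g⁻¹ * v ^ (-m) * g ∈ T := by
    have h2 := fr_nR' F (inv_comm hgt) (zpow_mem (mem_zpowers v) (-m))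
    rw [inv_inv] at h2
    exact zpowers_le.2 F.vT h2
  have h2 : g⁻¹ * d * g = (g⁻¹ * v ^ (-m) * g) * (g⁻¹ * (v ^ m * d) * g) := by
    rw [zpow_neg]; group
  rw [h2]
  exact mul_mem h1 hm

theorem units_zpow_odd (a : ℤˣ) {m : ℤ} (hm : Odd m) : a ^ m = a := by
  obtain ⟨i, rfl⟩ := hm
  rw [zpow_add, zpow_mul, zpow_one]
  have : a ^ (2 : ℤ) = 1 := by
    rw [zpow_two]; exact Int.units_mul_self a
  rw [this, one_zpow, one_mul]

theorem transfer_trivial [Finite G] (hG : commutator G = ⊤) {A : Type*} [CommGroup A] (H : Subgroup G)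
    (φ : H →* A) (x : G) : MonoidHom.transfer φ x = 1 := by
  have h3 := Abelianization.commutator_subset_ker (MonoidHom.transfer φ)
  rw [hG] at h3
  exact h3 (mem_top x)

/-- `t ∈ [T, T]` if `t` is isolated -/
theorem t_mem_commutator [Finite G] (hG : commutator G = ⊤) (F : Fr t v K U Z T) (hiso : Iso t T)
    (htT : t ∈ T) : (⟨t, htT⟩ : T) ∈ commutator T := by
  have hidx := fr_index F hiso
  have htt : t ^ 2 = 1 := by rw [pow_two]; exact F.tt
  rw [← Abelianization.ker_of, MonoidHom.mem_ker]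
  set φ : T →* Abelianization T := Abelianization.of with hφ
  rw [← transfer_trivial hG T φ t]
  symm
  apply transfer_eq_of_fixed T hidx F.pT φ t htT
  · intro d hd
    rw [F.tc d hd, mul_inv_cancel_right]
    exact mem_zpowers t
  · rw [← map_pow]
    have : (⟨t, htT⟩ : T) ^ 2 = 1 := Subtype.ext (by rw [Subgroup.coe_pow]; exact htt)
    rw [this, map_one]
  · intro g k h
    rw [← map_pow]
    have : (⟨g⁻¹ * t ^ k * g, h⟩ : T) ^ 2 = 1 := by
      apply Subtype.ext
      rw [Subgroup.coe_pow]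
      show (g⁻¹ * t ^ k * g) ^ 2 = 1
      have e : (g⁻¹ * t ^ k * g) ^ 2 = g⁻¹ * (t ^ k * t ^ k) * g := by rw [pow_two]; group
      rw [e, ← pow_add, ← two_mul, pow_mul, htt, one_pow]
      group
    rw [this, map_one]
  · intro g k d hd h h'
    congr 1
    apply Subtype.ext
    have h1 : d * t ^ k = t ^ k * d := ((show Commute d t from F.tc d hd).pow_right k).eq
    calc (d * g)⁻¹ * t ^ k * (d * g) = g⁻¹ * (d⁻¹ * (t ^ k * d)) * g := by group
      _ = g⁻¹ * t ^ k * g := by rw [← h1, inv_mul_cancel_left]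
  · intro g hg h
    congr 1
    apply Subtype.ext
    show g⁻¹ * t * g = t
    rw [mul_assoc, ← fr_N F hiso hg, inv_mul_cancel_left]
  · intro g hg hfix k hk h
    have hk2 : k ∣ 2 := (hk 2).1 (by rw [htt, mul_one, inv_mul_cancel]; exact one_mem _)
    rcases (Nat.dvd_prime Nat.prime_two).1 hk2 with rfl | rfl
    · exfalso
      apply hg
      apply mem_N_of_le
      have h2 : g⁻¹ * t * g ∈ T := by simpa using h
      intro d hd
      obtain ⟨m, hm⟩ := hfix d hd
      have h4 : g⁻¹ * t ^ m * g ∈ T := by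
        have : g⁻¹ * t ^ m * g = (g⁻¹ * t * g⁻¹⁻¹) ^ m := by
          rw [conj_zpow, inv_inv]
        rw [this, inv_inv]
        exact zpow_mem h2 m
      have h5 : g⁻¹ * d * g = (g⁻¹ * t ^ m * g)⁻¹ * (g⁻¹ * (t ^ m * d) * g) := by group
      rw [h5]
      exact mul_mem (inv_mem h4) hm
    · have : (⟨g⁻¹ * t ^ 2 * g, h⟩ : T) = 1 := by
        apply Subtype.ext
        show g⁻¹ * t ^ 2 * g = 1
        rw [htt]; group
      rw [this, map_one]

/-- **STEP 2 of the front.** -/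
theorem false_of_cyclic [Finite G] (hG : commutator G = ⊤) (F : Fr t v K U Z T) (hiso : Iso t T)
    (hcyc : ∃ s ∈ T, ∀ x ∈ T, ∃ k : ℤ, ∃ r ∈ zpowers v, ∃ u ∈ U, x = s ^ k * r * u) : False := by
  have htT : t ∈ T := zpowers_le.2 F.vT F.tR
  have hidx := fr_index F hiso
  have htc := t_mem_commutator hG F hiso htT
  have hUT : ∀ u ∈ U, u ∈ T ∧ u ∈ K := by
    intro u hu
    have h1 : u ∈ T ⊓ K := by rw [← F.U_eq]; exact hu
    exact h1
  have hnU : ∀ d ∈ T, ∀ u ∈ U, d * u * d⁻¹ ∈ U := by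
    intro d hd u hu
    have h1 : d * u * d⁻¹ ∈ T := mul_mem (mul_mem hd (hUT u hu).1) (inv_mem hd)
    have h2 : d * u * d⁻¹ ∈ K := (Subgroup.mem_normalizer_iff.1 (F.nK d (F.tc d hd)) u).1 (hUT u hu).2
    rw [F.U_eq]
    exact ⟨h1, h2⟩
  have hN : (U.subgroupOf T).Normal := by
    constructor
    intro u hu d
    rw [mem_subgroupOf] at hu ⊢
    exact hnU d d.2 u hu
  set π : T →* T ⧸ U.subgroupOf T := QuotientGroup.mk' (U.subgroupOf T) with hπ
  have hπ1 : ∀ (u : G) (hu : u ∈ U), π ⟨u, (hUT u hu).1⟩ = 1 := by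
    intro u hu
    rw [hπ, QuotientGroup.mk'_apply, QuotientGroup.eq_one_iff, mem_subgroupOf]
    exact hu
  have hQ : IsPGroup 2 (T ⧸ U.subgroupOf T) := F.pT.to_quotient _
  obtain ⟨s, hs, hgen⟩ := hcyc
  have hnor : ∀ x : T ⧸ U.subgroupOf T, x * π ⟨v, F.vT⟩ * x⁻¹ ∈ zpowers (π ⟨v, F.vT⟩) := by
    intro x
    obtain ⟨⟨d, hd⟩, rfl⟩ := QuotientGroup.mk'_surjective (U.subgroupOf T) x
    obtain ⟨m, hm⟩ := mem_zpowers_iff.1 (fr_nR F (F.tc d hd))
    refine mem_zpowers_iff.2 ⟨m, ?_⟩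
    change _ = π ⟨d, hd⟩ * π ⟨v, F.vT⟩ * (π ⟨d, hd⟩)⁻¹
    rw [← map_zpow, ← map_mul, ← map_inv, ← map_mul]
    congr 1
    apply Subtype.ext
    rw [Subgroup.coe_zpow]
    exact hm
  have hgen' : ∀ x : T ⧸ U.subgroupOf T, ∃ k j : ℤ, x = π ⟨s, hs⟩ ^ k * π ⟨v, F.vT⟩ ^ j := by
    intro x
    obtain ⟨⟨d, hd⟩, rfl⟩ := QuotientGroup.mk'_surjective (U.subgroupOf T) x
    obtain ⟨k, r, hr, u, hu, hdk⟩ := hgen d hd
    obtain ⟨j, rfl⟩ := mem_zpowers_iff.1 hr
    refine ⟨k, j, ?_⟩
    change π ⟨d, hd⟩ = _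
    have h1 : (⟨d, hd⟩ : T) = ⟨s, hs⟩ ^ k * ⟨v, F.vT⟩ ^ j * ⟨u, (hUT u hu).1⟩ := by
      apply Subtype.ext
      rw [Subgroup.coe_mul, Subgroup.coe_mul, Subgroup.coe_zpow, Subgroup.coe_zpow]
      exact hdk
    rw [h1, map_mul, map_mul, map_zpow, map_zpow, hπ1 u hu, mul_one]
  rcases comm_or_sign hQ (π ⟨s, hs⟩) (π ⟨v, F.vT⟩) hnor hgen' with hab | ⟨χ, hχ⟩
  · -- abelian case
    have h1 : commutator T ≤ U.subgroupOf T := by
      rw [_root_.commutator_def, commutator_le]
      intro a _ b _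
      rw [← QuotientGroup.eq_one_iff, ← QuotientGroup.mk'_apply, map_commutatorElement,
        commutatorElement_eq_one_iff_mul_comm]
      exact hab _ _
    have h2 := mem_subgroupOf.1 (h1 htc)
    exact F.t1 (F.KR t (hUT t h2).2 F.tR)
  · -- the character
    set φ : T →* ℤˣ := χ.comp π with hφ
    have hφv : φ ⟨v, F.vT⟩ = -1 := hχ
    have h1 : MonoidHom.transfer φ v = -1 := by
      apply transfer_eq_of_fixed T hidx F.pT φ v F.vT
      · intro d hd
        exact fr_nR F (F.tc d hd)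
      · rfl
      · intro g k h
        rw [pow_two]; exact Int.units_mul_self _
      · intro g k d hd h h'
        obtain ⟨m, hm, hmk⟩ := fr_odd F (F.tc d hd)
        rw [← units_zpow_odd (φ ⟨g⁻¹ * v ^ k * g, h⟩) hm, ← map_zpow]
        congr 1
        apply Subtype.ext
        rw [Subgroup.coe_zpow]
        have h2 := hmk k
        show (d * g)⁻¹ * v ^ k * (d * g) = (g⁻¹ * v ^ k * g) ^ m
        have h3 : (g⁻¹ * v ^ k * g) ^ m = g⁻¹ * (v ^ k) ^ m * g := by
          have h4 : g⁻¹ * v ^ k * g = g⁻¹ * v ^ k * g⁻¹⁻¹ := by rw [inv_inv]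
          rw [h4, conj_zpow, inv_inv]
        rw [h3]
        have h4 : (v ^ k) ^ m = d⁻¹ * v ^ (k : ℤ) * d := by
          rw [h2, ← zpow_natCast, ← zpow_mul, mul_comm]
        rw [h4, zpow_natCast]
        group
      · intro g hg h
        have hgt := fr_N F hiso hg
        obtain ⟨m, hm, hmk⟩ := fr_odd F hgt
        have h2 : (⟨g⁻¹ * v * g, h⟩ : T) = ⟨v, F.vT⟩ ^ m := by
          apply Subtype.ext
          rw [Subgroup.coe_zpow]
          have := hmk 1
          rw [zpow_one, mul_one] at this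
          exact this
        rw [h2, map_zpow, units_zpow_odd _ hm, hφv]
      · intro g hg hfix k hk h
        by_contra hne
        apply hg
        apply fr_orbit F hiso hfix
        have hvk : v ^ k ≠ 1 := by
          intro h2
          apply hne
          have : (⟨g⁻¹ * v ^ k * g, h⟩ : T) = 1 := by
            apply Subtype.ext
            show g⁻¹ * v ^ k * g = 1
            rw [h2]; group
          rw [this, map_one]
        obtain ⟨j, hj⟩ := mem_zpowers_iff.1 (fr_mem F (pow_mem (mem_zpowers v) k) hvk)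
        have h3 : g⁻¹ * t * g = (g⁻¹ * v ^ k * g) ^ j := by
          have h4 : g⁻¹ * v ^ k * g = g⁻¹ * v ^ k * g⁻¹⁻¹ := by rw [inv_inv]
          rw [h4, conj_zpow, inv_inv, hj]
        rw [h3]
        exact zpow_mem h j
    rw [transfer_trivial hG T φ v] at h1
    exact absurd h1 (by decide)

end Main

end Cfsg.Agent.OddHalf.D7Out.TransGen
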