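import Cfsg.Agent.OddHalf.D7Out.MainSL
import Cfsg.Agent.OddHalf.D7Ex.Tri

/-!
# `q = 2`: the output of the front in the form of `D7Ex.Tri` (helper875)

`fl_of`, `hs_of` : from `CT t K`; `conj_eq` : `m z = z m`; `syl_of` : `Tri.Syl`; `norm_X`.
-/

set_option autoImplicit false
set_option linter.unusedSectionVars false

namespace Cfsg.Agent.OddHalf.D7Out.SylOf

open CoxeterSystem Cfsg.Agent.ChevalleyStructure.CoxeterGeom Cfsg.Agent.Tits.Roots Cfsg.Agent.Tits.Core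
  Cfsg.Agent.Nodes.Reps Cfsg.Agent.Nodes.BNOf Cfsg.Agent.Nodes.Coroot
  Cfsg.Agent.KFacts.SLRow.Def Cfsg.Agent.OddHalf.SL.Index Cfsg.Agent.OddHalf.SL.PreOf
  Cfsg.Agent.OddHalf.D7Ex Cfsg.Agent.OddHalf.SL Cfsg.Agent.OddHalf.D7Out.MainSL

variable {I W : Type*} [Fintype I] [DecidableEq I] [Group W] {M : CoxeterMatrix I}
  {cs : CoxeterSystem M W} {A : I → I → ℤ} {h : IsCartan M A}
  {G : Type*} [Group G] {K : Subgroup G} {T₀ : Subgroup ↥K} {n : I → ↥K} {X : (I → ℤ) → Subgroup ↥K} {q : ℕ}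
  {F : Type*} [Field F] {e : (I → ℤ) → F → ↥K} {t v : G}

theorem fl_of (C : KFull.CT t K) : KTwo.Fl t K := ⟨C.tt, C.tK, C.Kt, C.nrm, C.cK⟩

theorem hs_of (C : KFull.CT t K) : ∀ P' : Subgroup G, (∀ x ∈ P', x * t = t * x) → P' ≤ ⁅P', P'⁆ → P' ≤ K :=
  fun P h1 h2 => C.perf P (fun x hx => Subgroup.mem_centralizer_singleton_iff.2 (h1 x hx)) h2

section

variable [Finite W] [Finite G] (D : Datum (⊤ : Subgroup ↥K) 2 cs h T₀ n X) {ρ : I → ℤ} {T : Subgroup G}
  {g : ↥T →* Equiv.Perm I × (F ≃+* F)} {m z : G} (O : FrontSL.Out cs h T₀ X e t v ρ T g m z)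

include D O

/-- `m` centralises `z` -/
theorem conj_eq : m * z = z * m := by
  have h1 := OfFront.conj_z O.fr.toFr O.mT O.zX O.zT O.mt
  have h2 : m⁻¹ * z * m = z := by
    refine KTwo.eq_of_ne (OutBase.dm D) O.root h1 O.zX (fun h3 => O.z1 ?_) O.z1
    calc z = m * (m⁻¹ * z * m) * m⁻¹ := by group
      _ = 1 := by rw [h3]; group
  calc m * z = m * (m⁻¹ * z * m) := by rw [h2]
    _ = z * m := by group

/-- `m` normalises `X ρ` -/
theorem norm_X : ∀ x ∈ (X ρ).map K.subtype, m * x * m⁻¹ ∈ (X ρ).map K.subtype := by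
  intro x hx
  by_cases hx1 : x = 1
  · rw [hx1, mul_one, mul_inv_cancel]; exact one_mem _
  · rw [KTwo.eq_of_ne (OutBase.dm D) O.root hx O.zX hx1 O.z1, conj_eq D O, mul_inv_cancel_right]
    exact O.zX

/-- **`Tri.Syl` from the front.** -/
theorem syl_of : Tri.Syl K (RGD.Sup (fun x => (X x).map K.subtype) (RGD.Pos cs h)) t z T m := by
  have hU : RGD.Sup (fun x => (X x).map K.subtype) (RGD.Pos cs h) = (RGD.Sup X (RGD.Pos cs h)).map K.subtype := by
    unfold RGD.Sup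
    rw [Subgroup.map_iSup]
  have E := O.fr.toFr
  exact
    { US := by rw [hU]; exact Front.UT E
      SK := fun y hy hyK => by rw [hU, E.U_eq]; exact ⟨hy, hyK⟩
      tS := Front.tT E
      St := E.tc
      Sz := O.zT
      mS := fun y => (Subgroup.mem_normalizer_iff.1 O.mT y).symm
      mt := O.mt
      mz := conj_eq D O }

end

end Cfsg.Agent.OddHalf.D7Out.SylOf
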