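import Cfsg.Agent.OddHalf.SL.Base0
import Cfsg.Agent.OddHalf.D7Ex.KTwo

/-!
# `q = 2`: the doubled root group can be chosen elementary abelian (helper875)

`exists_sq` : `Base0` at `r` for `q = 2` gives `Base0` at `r` with `w * w = 1`: in the dihedral group `⟨t⟩ V` the other
four-group is taken.
-/

set_option autoImplicit false
set_option linter.unusedSectionVars false

namespace Cfsg.Agent.OddHalf.D7Out.SqTwo

open CoxeterSystem Cfsg.Agent.ChevalleyStructure.CoxeterGeom Cfsg.Agent.Tits.Roots Cfsg.Agent.Tits.Core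
  Cfsg.Agent.Tits.RootComb Cfsg.Agent.Nodes.Reps Cfsg.Agent.Nodes.BNOf Cfsg.Agent.Nodes.Coroot
  Cfsg.Agent.OddHalf.SL.Index Cfsg.Agent.OddHalf.SL.OfRGD Cfsg.Agent.KFacts.SLRow.Def
  Cfsg.Agent.OddHalf.D7Ex Cfsg.Agent.OddHalf.SL.PreOf Cfsg.Agent.OddHalf.SL

variable {I W G : Type*} [Fintype I] [DecidableEq I] [Group W] [Group G] {M : CoxeterMatrix I}
  {cs : CoxeterSystem M W} {A : I → I → ℤ} {h : IsCartan M A} {K : Subgroup G} {t : G} {T : Subgroup G} {n : I → G}
  {X : (I → ℤ) → Subgroup G}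

theorem exists_sq [Finite G] [Finite W] (D : Datum K 2 cs h T n X) (tt : t * t = 1)
    (tX : ∀ a, IsRoot cs h a → ∀ x ∈ X a, t * x = x * t) {r : I → ℤ} {V : Subgroup G}
    (B : Base0.Base0 D.rgd t r V) : ∃ V', Base0.Base0 D.rgd t r V' ∧ ∀ w ∈ V', w * w = 1 := by
  by_cases hall : ∀ w ∈ V, w * w = 1
  · exact ⟨V, B, hall⟩
  push Not at hall
  obtain ⟨w₀, hw₀, hne⟩ := hall
  have hR := roots cs h D.h4 D.h6
  have hr := B.root
  have Xsq : ∀ x ∈ X r, x * x = 1 := (KData.rg D).X2 r hr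
  obtain ⟨z, hz, hz1, hXz⟩ := KTwo.exists_z D hr
  have hsq : w₀ * w₀ = z := (hXz _ (B.sq _ hw₀)).resolve_left hne
  have hnc : t * w₀ ≠ w₀ * t := fun h1 => hne (Xsq _ (B.cent _ hw₀ h1))
  have cX : ∀ w ∈ V, ∀ x ∈ X r, w * x = x * w := fun w hw x hx =>
    B.WX r hr (by rw [hR.two r hr]; norm_num) w hw x hx
  have tz : ∀ x ∈ X r, t * x = x * t := tX r hr
  have zz := Xsq z hz
  -- `t w t = w z` for `w` not commuting with `t`
  have key : ∀ w ∈ V, t * w ≠ w * t → t * w * t = w * z := by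
    intro w hw h1
    have h2 := (hXz _ (B.brk w hw)).resolve_left (by
      intro h3
      apply h1
      have h4 : t * w * t = w := by
        rw [inv_mul_eq_one] at h3; exact h3.symm
      calc t * w = t * w * (t * t) := by rw [tt, mul_one]
        _ = (t * w * t) * t := by group
        _ = w * t := by rw [h4])
    rw [← h2]; group
  have h0 := key w₀ hw₀ hnc
  have tw : t * w₀ = w₀ * z * t := by
    calc t * w₀ = t * w₀ * (t * t) := by rw [tt, mul_one]
      _ = (t * w₀ * t) * t := by group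
      _ = w₀ * z * t := by rw [h0]
  -- `V = X r ∪ w₀ X r`
  have dec : ∀ w ∈ V, t * w ≠ w * t → ∃ x ∈ X r, w = w₀ * x := by
    intro w hw h1
    have h2 := key w hw h1
    refine ⟨w₀⁻¹ * w, ?_, by group⟩
    apply B.cent _ (mul_mem (inv_mem hw₀) hw)
    have h3 : t * (w₀⁻¹ * w) * t = w₀⁻¹ * w := by
      have e1 : t * w₀⁻¹ * t = (t * w₀ * t)⁻¹ := by
        rw [mul_inv_rev, mul_inv_rev, inv_eq_of_mul_eq_one_left tt, mul_assoc]
      calc t * (w₀⁻¹ * w) * t = (t * w₀⁻¹ * t) * (t⁻¹ * t⁻¹) * (t * w * t) := by group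
        _ = (w₀ * z)⁻¹ * (w * z) := by rw [e1, h0, h2, ← mul_inv_rev, tt, inv_one, mul_one]
        _ = z⁻¹ * w₀⁻¹ * (w * z) := by group
        _ = z⁻¹ * (w₀⁻¹ * w * z) := by group
        _ = z⁻¹ * (z * (w₀⁻¹ * w)) := by rw [cX _ (mul_mem (inv_mem hw₀) hw) z hz]
        _ = w₀⁻¹ * w := by group
    calc t * (w₀⁻¹ * w) = t * (w₀⁻¹ * w) * (t * t) := by rw [tt, mul_one]
      _ = (t * (w₀⁻¹ * w) * t) * t := by group
      _ = w₀⁻¹ * w * t := by rw [h3]
  -- the product of two elements of the coset `t w₀ X r`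
  have prod : ∀ x ∈ X r, ∀ y ∈ X r, (t * w₀ * x) * (t * w₀ * y) = x * y := by
    intro x hx y hy
    calc (t * w₀ * x) * (t * w₀ * y) = t * w₀ * (x * t) * w₀ * y := by group
      _ = t * w₀ * (t * x) * w₀ * y := by rw [tz x hx]
      _ = (t * w₀ * t) * (x * w₀) * y := by group
      _ = (w₀ * z) * (w₀ * x) * y := by rw [h0, ← cX w₀ hw₀ x hx]
      _ = w₀ * (z * w₀) * (x * y) := by group
      _ = w₀ * (w₀ * z) * (x * y) := by rw [cX w₀ hw₀ z hz]
      _ = (w₀ * w₀) * z * (x * y) := by group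
      _ = x * y := by rw [hsq, zz, one_mul]
  have comm : ∀ x ∈ X r, (t * w₀) * x = x * (t * w₀) := by
    intro x hx
    rw [mul_assoc, cX w₀ hw₀ x hx, ← mul_assoc, tz x hx, mul_assoc]
  let V' : Subgroup G :=
    { carrier := {y | y ∈ X r ∨ ∃ x ∈ X r, y = t * w₀ * x}
      one_mem' := Or.inl (one_mem _)
      mul_mem' := by
        rintro a b (ha | ⟨x, hx, rfl⟩) (hb | ⟨y, hy, rfl⟩)
        · exact Or.inl (mul_mem ha hb)
        · right
          refine ⟨a * y, mul_mem ha hy, ?_⟩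
          calc a * (t * w₀ * y) = a * (t * w₀) * y := by group
            _ = t * w₀ * (a * y) := by rw [← comm a ha]; group
        · right
          exact ⟨x * b, mul_mem hx hb, by group⟩
        · left
          rw [prod x hx y hy]
          exact mul_mem hx hy
      inv_mem' := by
        rintro a (ha | ⟨x, hx, rfl⟩)
        · exact Or.inl (inv_mem ha)
        · right
          refine ⟨x, hx, ?_⟩
          have h1 := prod x hx x hx
          rw [Xsq x hx] at h1
          exact inv_eq_of_mul_eq_one_left h1 }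
  have hmem : ∀ y, y ∈ V' ↔ (y ∈ X r ∨ ∃ x ∈ X r, y = t * w₀ * x) := fun y => Iff.rfl
  have hV'sq : ∀ w ∈ V', w * w = 1 := by
    intro w hw
    rcases (hmem w).1 hw with hw | ⟨x, hx, rfl⟩
    · exact Xsq w hw
    · rw [prod x hx x hx, Xsq x hx]
  have brk' : ∀ x ∈ X r, (t * w₀ * x)⁻¹ * (t * (t * w₀ * x) * t) = z := by
    intro x hx
    have h1 : (t * w₀ * x)⁻¹ = t * w₀ * x :=
      inv_eq_of_mul_eq_one_left (by rw [prod x hx x hx, Xsq x hx])
    calc (t * w₀ * x)⁻¹ * (t * (t * w₀ * x) * t) = t * w₀ * x * ((t * t) * w₀ * x * t) := by rw [h1]; group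
      _ = t * w₀ * (x * w₀) * x * t := by rw [tt]; group
      _ = t * w₀ * (w₀ * x) * x * t := by rw [cX w₀ hw₀ x hx]
      _ = t * (w₀ * w₀) * (x * x) * t := by group
      _ = t * z * t := by rw [hsq, Xsq x hx, mul_one]
      _ = z * (t * t) := by rw [tz z hz]; group
      _ = z := by rw [tt, mul_one]
  refine ⟨V', ⟨hr, fun x hx => Or.inl hx, fun w hw => by rw [hV'sq w hw]; exact one_mem _, ?_, ?_, ?_, ?_, ?_, B.tN⟩,
    hV'sq⟩
  · intro w hw
    rcases (hmem w).1 hw with hw | ⟨x, hx, rfl⟩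
    · have h1 : w⁻¹ * (t * w * t) = 1 := by rw [tz w hw, mul_assoc, tt, mul_one, inv_mul_cancel]
      rw [h1]; exact one_mem _
    · rw [brk' x hx]; exact hz
  · intro w hw hc
    rcases (hmem w).1 hw with hw | ⟨x, hx, rfl⟩
    · exact hw
    · exfalso
      have h1 := brk' x hx
      rw [hc, mul_assoc (t * w₀ * x) t t, tt, mul_one, inv_mul_cancel] at h1
      exact hz1 h1.symm
  · intro x hx
    rcases hXz x hx with rfl | rfl
    · exact ⟨1, one_mem _, by rw [inv_one, one_mul, mul_one, tt]⟩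
    · exact ⟨t * w₀ * 1, Or.inr ⟨1, one_mem _, rfl⟩, brk' 1 (one_mem _)⟩
  · intro a ha h0 w hw x hx
    rcases (hmem w).1 hw with hw | ⟨y, hy, rfl⟩
    · exact B.WX a ha h0 w (B.XW hw) x hx
    · have h1 := B.WX a ha h0 _ (mul_mem hw₀ (B.XW hy)) x hx
      calc t * w₀ * y * x = t * (w₀ * y * x) := by group
        _ = t * (x * (w₀ * y)) := by rw [h1]
        _ = (t * x) * (w₀ * y) := by group
        _ = x * (t * w₀ * y) := by rw [tX a ha x hx]; group
  · intro w k hk hwr y hy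
    have hkX : ∀ x ∈ X r, k * x * k⁻¹ ∈ X r := by
      intro x hx
      have h1 := D.rgd.conj_mem hk hr hx
      rwa [hwr] at h1
    have hkt := B.tN w k hk
    have hkt' : k⁻¹ * t = t * k⁻¹ := by
      rw [inv_mul_eq_iff_eq_mul, ← mul_assoc, ← hkt, mul_inv_cancel_right]
    rcases (hmem y).1 hy with hy | ⟨x, hx, rfl⟩
    · exact Or.inl (hkX y hy)
    · have h1 := B.nrm w k hk hwr w₀ hw₀
      have h2 : t * (k * w₀ * k⁻¹) ≠ k * w₀ * k⁻¹ * t := by
        intro h3
        apply hnc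
        have h4 : t * w₀ = k⁻¹ * (t * (k * w₀ * k⁻¹)) * k := by
          calc t * w₀ = t * k⁻¹ * (k * w₀) := by group
            _ = k⁻¹ * t * (k * w₀) := by rw [hkt']
            _ = _ := by group
        rw [h4, h3]
        calc k⁻¹ * (k * w₀ * k⁻¹ * t) * k = w₀ * (k⁻¹ * t) * k := by group
          _ = w₀ * (t * k⁻¹) * k := by rw [hkt']
          _ = w₀ * t := by group
      obtain ⟨x', hx', e⟩ := dec _ h1 h2
      right
      refine ⟨x' * (k * x * k⁻¹), mul_mem hx' (hkX x hx), ?_⟩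
      calc k * (t * w₀ * x) * k⁻¹ = (k * t) * w₀ * x * k⁻¹ := by group
        _ = t * (k * w₀ * k⁻¹) * (k * x * k⁻¹) := by rw [← hkt]; group
        _ = t * w₀ * (x' * (k * x * k⁻¹)) := by rw [e]; group

end Cfsg.Agent.OddHalf.D7Out.SqTwo
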