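import Cfsg.Agent.OddHalf.D7Out.MainSL
import Cfsg.Agent.OddHalf.D7Out.SqTwo
import Cfsg.Agent.OddHalf.SL.OfAut

/-!
# D7 for simply laced `K`: growth (helper875; `OfAut` of helper194)

* `full` : `Full t K` from `CT t K`; `hasGr` : `HasGr D t` for all `q`;
* **`false_of_ex`** : `HasP`, `HasEx` give a contradiction; **`false_of_big`** : `q > 2`.
-/

set_option autoImplicit false
set_option linter.unusedSectionVars false

namespace Cfsg.Agent.OddHalf.D7Out.GrSL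

open CoxeterSystem Cfsg.Agent.ChevalleyStructure.CoxeterGeom Cfsg.Agent.Tits.Roots Cfsg.Agent.Tits.Core
  Cfsg.Agent.Nodes.Reps Cfsg.Agent.Nodes.BNOf Cfsg.Agent.Nodes.Coroot
  Cfsg.Agent.KFacts.SLRow.Def Cfsg.Agent.KFacts.ChevTwo Cfsg.Agent.OddHalf.SL.Index Cfsg.Agent.OddHalf.SL.PreOf
  Cfsg.Agent.OddHalf.D7Ex Cfsg.Agent.OddHalf.SL Cfsg.Agent.OddHalf.D7Out.MainSL

variable {I W : Type*} [Fintype I] [DecidableEq I] [Group W] {M : CoxeterMatrix I}
  {cs : CoxeterSystem M W} {A : I → I → ℤ} {h : IsCartan M A}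
  {G : Type*} [Group G] {K : Subgroup G} {T₀ : Subgroup ↥K} {n : I → ↥K} {X : (I → ℤ) → Subgroup ↥K} {q : ℕ}
  {F : Type*} [Field F] {e : (I → ℤ) → F → ↥K} {t v : G}

theorem full (C : KFull.CT t K) : OfAut.Full t K := ⟨C.tt, C.tK, C.Kt, C.nrm, C.cK⟩

theorem hasGr [Finite G] [Finite W] (D : Datum (⊤ : Subgroup ↥K) q cs h T₀ n X) (hq : 2 < q ∨ q = 2) :
    HasGr D t := by
  intro ρ V C B
  rcases hq with hq | rfl
  · obtain ⟨V', -, -, hV'⟩ := OfAut.dbl_of_base D (full C) (OutBase.dm D) hq B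
    exact ⟨V', hV'⟩
  · obtain ⟨V₁, B₁, hsq⟩ := SqTwo.exists_sq (OutBase.dm D) C.tt
      (fun a ha x hx => C.Kt x ((OutBase.dm D).XK ha hx)) B
    obtain ⟨V', -, -, hV'⟩ := OfAut.dbl_of_base_two D (full C) (OutBase.dm D) rfl B₁ hsq
    exact ⟨V', hV'⟩

/-- **`HasP` and `HasEx` give a contradiction.** -/
theorem false_of_ex [Finite G] [Finite W] [Finite F] [CharP F 2] (hG : commutator G = ⊤)
    (S : Front.FE.Start K t v) (hs : Schreier.Basic.Sch ↥K) (D : Datum (⊤ : Subgroup ↥K) q cs h T₀ n X)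
    (Sy : Sys D.rgd e) (hM : Outer.DiagTwo M) (hq : 2 < q ∨ q = 2) (hP : FrontSL.HasP cs h X)
    (hEx : HasEx D e t v) : False :=
  false_of hG S hs D Sy hM hP hEx (hasGr D hq)

/-- **`q > 2`.** -/
theorem false_of_big [Finite G] [Finite W] [Finite F] [CharP F 2] (hG : commutator G = ⊤)
    (S : Front.FE.Start K t v) (hs : Schreier.Basic.Sch ↥K) (D : Datum (⊤ : Subgroup ↥K) q cs h T₀ n X)
    (Sy : Sys D.rgd e) (hM : Outer.DiagTwo M) (hq : 2 < q)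
    (hT : 4 ≤ Fintype.card I ∨ ∀ ρ, IsRoot cs h ρ → (∀ i, 0 ≤ cpr cs h (sr i) ρ) →
      ∃ β g k, Tor (Bf A) {x | IsRoot cs h x} (fun x => (X x).map K.subtype) ρ (T₀.map K.subtype) β g k) : False :=
  false_of_ex hG S hs D Sy hM (Or.inl hq) (HasPOf.hasP_big D hq) (hasEx_big D Sy hq hT)

/-- **`q = 2`**, from `HasP` and `HasEx`. -/
theorem false_of_two [Finite G] [Finite W] [Finite F] [CharP F 2] (hG : commutator G = ⊤)
    (S : Front.FE.Start K t v) (hs : Schreier.Basic.Sch ↥K) (D : Datum (⊤ : Subgroup ↥K) 2 cs h T₀ n X)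
    (Sy : Sys D.rgd e) (hM : Outer.DiagTwo M) (hP : FrontSL.HasP cs h X) (hEx : HasEx D e t v) : False :=
  false_of_ex hG S hs D Sy hM (Or.inr rfl) hP hEx

end Cfsg.Agent.OddHalf.D7Out.GrSL
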