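import Cfsg.Agent.OddHalf.D7Out.FrontSL
import Cfsg.Agent.OddHalf.D7Ex.KData

/-!
# Perfect subgroups of `C_K(X r)` containing `X r`, all `q` (helper158)

* `A4 B Φ f` : the roots `f i j = e_i - e_j` (`i ≠ j` in `Fin 5`) of a subsystem of type `A₄`; `A4.of` : from its basis;
* `Path4 M` : the diagram contains a path with four nodes (`path4_A`, `path4_D`, `path4_E6`, `path4_E7`, `path4_E8`);
* `trans` : the Weyl group is transitive on the roots;
* `hasP_path4` : `FrontSL.HasP` for every `q` if the diagram contains a path with four nodes.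
-/

set_option autoImplicit false
set_option linter.unusedSectionVars false

namespace Cfsg.Agent.OddHalf.D7Out.HasPTwo

open CoxeterSystem Cfsg.Agent.ChevalleyStructure.CoxeterGeom Cfsg.Agent.Tits.Roots Cfsg.Agent.Tits.Core
  Cfsg.Agent.Tits.RootComb Cfsg.Agent.Nodes.Reps Cfsg.Agent.Nodes.BNOf Cfsg.Agent.Nodes.Coroot
  Cfsg.Agent.OddHalf.SL.Index Cfsg.Agent.OddHalf.SL.OfRGD Cfsg.Agent.KFacts.SLRow.Def
  Cfsg.Agent.OddHalf.D7Ex Cfsg.Agent.OddHalf.D7Ex.KData Cfsg.Agent.OddHalf.SL.PreOf Cfsg.Agent.OddHalf.SL.Defs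
open scoped commutatorElement

/-! ### Subsystems of type `A₄` -/

section Comb

variable {L : Type*} [AddCommGroup L] {B : L → L → ℤ} {Φ : Set L}

/-- The roots of a subsystem of type `A₄`. -/
structure A4 (B : L → L → ℤ) (Φ : Set L) (f : Fin 5 → Fin 5 → L) : Prop where
  mem : ∀ i j, i ≠ j → f i j ∈ Φ
  add : ∀ i j k, f i j + f j k = f i k
  neg_one : ∀ i j k, i ≠ j → j ≠ k → i ≠ k → B (f i j) (f j k) = -1
  nonneg : ∀ i j, i ≠ j → i ≠ 4 → j ≠ 0 → 0 ≤ B (f i j) (f 0 4)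

/-- the Gram matrix of `e_0 - e_i` -/
def gr (i j : Fin 5) : ℤ := if i = 0 ∨ j = 0 then 0 else if i = j then 2 else 1

theorem A4.of_gram (hR : Roots B Φ) {p : Fin 5 → L} (hp : ∀ i j, B (p i) (p j) = gr i j)
    (h1 : ∀ i : Fin 4, p i.succ - p i.castSucc ∈ Φ) : A4 B Φ (fun i j => p j - p i) := by
  have hB : ∀ i j k l, B (p j - p i) (p l - p k) = gr j l - gr j k - gr i l + gr i k := by
    intro i j k l
    rw [hR.sub_left, hR.sub_right, hR.sub_right, hp, hp, hp, hp]; ring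
  have hadd : ∀ i j k, (p j - p i) + (p k - p j) = p k - p i := fun i j k => by abel
  have hneg : ∀ i j k, i ≠ j → j ≠ k → i ≠ k → B (p j - p i) (p k - p j) = -1 := by
    intro i j k h1 h2 h3
    rw [hB]
    revert i j k
    decide
  have hlt : ∀ d : ℕ, ∀ i j : Fin 5, (i : ℕ) + (d + 1) = j → p j - p i ∈ Φ := by
    intro d
    induction d with
    | zero =>
      intro i j hij
      have h2 := h1 ⟨i, by have := j.2; omega⟩
      have e1 : (⟨(i : ℕ), by have := j.2; omega⟩ : Fin 4).succ = j := Fin.ext (by show (i : ℕ) + 1 = j; omega)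
      have e2 : (⟨(i : ℕ), by have := j.2; omega⟩ : Fin 4).castSucc = i := Fin.ext rfl
      rwa [e1, e2] at h2
    | succ d ih =>
      intro i j hij
      have hj := j.2
      obtain ⟨k, hk⟩ : ∃ k : Fin 5, (k : ℕ) = i + (d + 1) := ⟨⟨i + (d + 1), by omega⟩, rfl⟩
      have h2 := ih i k hk.symm
      have h3 : p j - p k ∈ Φ := by
        have h4 := h1 ⟨k, by omega⟩
        have e1 : (⟨(k : ℕ), by omega⟩ : Fin 4).succ = j := Fin.ext (by show (k : ℕ) + 1 = j; omega)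
        have e2 : (⟨(k : ℕ), by omega⟩ : Fin 4).castSucc = k := Fin.ext rfl
        rwa [e1, e2] at h4
      rw [← hadd i k j]
      refine hR.add _ h2 _ h3 (hneg i k j ?_ ?_ ?_)
      · rintro rfl; omega
      · rintro rfl; omega
      · rintro rfl; omega
  refine ⟨fun i j hij => ?_, hadd, hneg, fun i j h2 h3 h4 => ?_⟩
  · rcases Nat.lt_or_ge (i : ℕ) j with h2 | h2
    · exact hlt (j - i - 1) i j (by omega)
    · have h3 : (i : ℕ) ≠ j := fun e => hij (Fin.ext e)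
      have h4 := hR.neg_mem _ (hlt (i - j - 1) j i (by omega))
      rwa [neg_sub] at h4
  · rw [hB]
    revert i j
    decide

theorem A4.of (hR : Roots B Φ) {a b c d : L} (ha : a ∈ Φ) (hb : b ∈ Φ) (hc : c ∈ Φ) (hd : d ∈ Φ)
    (hab : B a b = -1) (hbc : B b c = -1) (hcd : B c d = -1) (hac : B a c = 0) (had : B a d = 0)
    (hbd : B b d = 0) : ∃ f, A4 B Φ f := by
  have hba := hab; have hcb := hbc; have hdc := hcd; have hca := hac; have hda := had; have hdb := hbd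
  rw [hR.symm] at hba hcb hdc hca hda hdb
  have haa := hR.two a ha
  have hbb := hR.two b hb
  have hcc := hR.two c hc
  have hdd := hR.two d hd
  have h0 : ∀ x, B x 0 = 0 := fun x => by rw [hR.symm, hR.zero_left]
  refine ⟨_, A4.of_gram (p := ![0, a, a + b, a + b + c, a + b + c + d]) hR ?_ ?_⟩
  · intro i j
    fin_cases i <;> fin_cases j <;>
      simp [gr, hR.add_left, hR.add_right, hR.zero_left, h0, hab, hbc, hcd, hac, had, hbd, hba, hcb, hdc, hca, hda,
        hdb, haa, hbb, hcc, hdd]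
  · intro i
    fin_cases i
    · simpa using ha
    · simpa using hb
    · simpa using hc
    · simpa using hd

end Comb

/-! ### The Weyl group -/

section Weyl

variable {I W : Type*} [Fintype I] [DecidableEq I] [Group W] {M : CoxeterMatrix I}
  {cs : CoxeterSystem M W} {A : I → I → ℤ} {h : IsCartan M A}

theorem A4.rep (h4 : ∀ i j, M i j ≠ 4) (h6 : ∀ i j, M i j ≠ 6) {f : Fin 5 → Fin 5 → I → ℤ}
    (H : A4 (Bf A) {x | IsRoot cs h x} f) (w : W) :
    A4 (Bf A) {x | IsRoot cs h x} (fun i j => rep cs h w (f i j)) where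
  mem i j hij := (H.mem i j hij).act w
  add i j k := by rw [← map_add, H.add]
  neg_one i j k h1 h2 h3 := by rw [bf_rep h4 h6]; exact H.neg_one i j k h1 h2 h3
  nonneg i j h1 h2 h3 := by rw [bf_rep h4 h6]; exact H.nonneg i j h1 h2 h3

/-- The Weyl group of a connected simply laced diagram is transitive on the roots. -/
theorem trans [Finite W] (h4 : ∀ i j, M i j ≠ 4) (h6 : ∀ i j, M i j ≠ 6) (hc : Conn M) (h2 : 2 ≤ Fintype.card I)
    {r s : I → ℤ} (hr : IsRoot cs h r) (hs : IsRoot cs h s) : ∃ w, rep cs h w r = s := by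
  refine ind h4 h6 hc h2 (P := fun s => ∃ w, rep cs h w r = s) hr ⟨1, by rw [map_one, Module.End.one_apply]⟩ ?_ hs
  rintro _ s _ hs hrs ⟨w, rfl⟩
  have hR := roots cs h h4 h6
  have hr' : IsRoot cs h (rep cs h w r) := hr.act w
  obtain ⟨s', hs'⟩ : ∃ s' : W, ∀ y, rep cs h s' y = y - cpr cs h y (rep cs h w r - s) • (rep cs h w r - s) := by
    obtain ⟨v, i, e⟩ := hR.sub_mem hr' hs hrs
    refine ⟨v * cs.simple i * v⁻¹, fun y => ?_⟩
    rw [rep_mul_apply, rep_mul_apply, rep_simple_eq, map_sub, rep_apply_inv, map_smul,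
      ← cpr_rep_sr (cs := cs) (h := h), ← e]
  refine ⟨s' * w, ?_⟩
  rw [rep_mul_apply, hs', ← bf_eq_cpr h4 h6 _ (hR.sub_mem hr' hs hrs), hR.sub_right, hR.two _ hr', hrs]
  norm_num

/-- The diagram contains a path with four nodes. -/
def Path4 (M : CoxeterMatrix I) : Prop :=
  ∃ i j k l : I, i ≠ j ∧ j ≠ k ∧ k ≠ l ∧ i ≠ k ∧ i ≠ l ∧ j ≠ l ∧ M i j ≠ 2 ∧ M j k ≠ 2 ∧ M k l ≠ 2 ∧ M i k = 2 ∧
    M i l = 2 ∧ M j l = 2

theorem bf_sr_sr (i j : I) : Bf A (sr i) (sr j) = A j i := by rw [bf_sr, Cfsg.Agent.Nodes.ZFam.pairing_sr']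

theorem exists_A4 [Finite W] (h4 : ∀ i j, M i j ≠ 4) (h6 : ∀ i j, M i j ≠ 6) (hc : Conn M)
    (h2 : 2 ≤ Fintype.card I) (hP : Path4 M) {r : I → ℤ} (hr : IsRoot cs h r) :
    ∃ f, A4 (Bf A) {x | IsRoot cs h x} f ∧ f 0 4 = r := by
  have hR := roots cs h h4 h6
  obtain ⟨i, j, k, l, h1, h3, h5, h7, h8, h9, a1, a2, a3, b1, b2, b3⟩ := hP
  have hA : ∀ i j, i ≠ j → M i j ≠ 2 → Bf A (sr i) (sr j) = -1 := by
    intro i j hij hm
    rw [bf_sr_sr]
    rcases h.rel i j hij with h0 | h0 | h0 | h0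
    · exact absurd h0.1 hm
    · exact h0.2.2
    · exact absurd h0.1 (h4 _ _)
    · exact absurd h0.1 (h6 _ _)
  have hO : ∀ i j, i ≠ j → M i j = 2 → Bf A (sr i) (sr j) = 0 := by
    intro i j hij hm
    rw [bf_sr_sr]
    rcases h.rel i j hij with h0 | h0 | h0 | h0
    · exact h0.2.2
    · rw [h0.1] at hm; norm_num at hm
    · rw [h0.1] at hm; norm_num at hm
    · rw [h0.1] at hm; norm_num at hm
  obtain ⟨f, hf⟩ := A4.of hR (a := sr i) (b := sr j) (c := sr k) (d := sr l) (isRoot_sr cs h i) (isRoot_sr cs h j)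
    (isRoot_sr cs h k) (isRoot_sr cs h l) (hA i j h1 a1) (hA j k h3 a2) (hA k l h5 a3) (hO i k h7 b1)
    (hO i l h8 b2) (hO j l h9 b3)
  obtain ⟨w, hw⟩ := trans h4 h6 hc h2 (hf.mem 0 4 (by decide)) hr
  exact ⟨_, hf.rep h4 h6 w, hw⟩

end Weyl

/-! ### The perfect subgroup -/

section Perf

variable {I W : Type*} [Fintype I] [DecidableEq I] [Group W] {M : CoxeterMatrix I}
  {cs : CoxeterSystem M W} {A : I → I → ℤ} {h : IsCartan M A}
  {G : Type*} [Group G] {K : Subgroup G} {T : Subgroup G} {n : I → G} {X : (I → ℤ) → Subgroup G} {q : ℕ}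

theorem exists_perf [Finite G] [Finite W] (D : Datum K q cs h T n X) (hP : Path4 M) {r : I → ℤ}
    (hr : IsRoot cs h r) : ∃ L : Subgroup G, ⁅L, L⁆ = L ∧ X r ≤ L ∧ L ≤ PR (Bf A) {x | IsRoot cs h x} X r := by
  obtain ⟨f, hf, hfr⟩ := exists_A4 D.h4 D.h6 D.irr (by have := D.three; omega) hP hr
  have hX : ∀ i j, i ≠ j → i ≠ 4 → j ≠ 0 → X (f i j) ≤ RGD.Sup X {x | ∃ i j, i ≠ j ∧ i ≠ 4 ∧ j ≠ 0 ∧ x = f i j} :=
    fun i j h1 h2 h3 => RGD.le_Sup ⟨i, j, h1, h2, h3, rfl⟩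
  refine ⟨RGD.Sup X {x | ∃ i j, i ≠ j ∧ i ≠ 4 ∧ j ≠ 0 ∧ x = f i j}, le_antisymm ?_ ?_, ?_, ?_⟩
  · rw [Subgroup.commutator_le]
    intro a ha b hb
    rw [commutatorElement_def]
    exact mul_mem (mul_mem (mul_mem ha hb) (inv_mem ha)) (inv_mem hb)
  · refine iSup_le ?_
    rintro ⟨_, i, j, h1, h2, h3, rfl⟩ y hy
    obtain ⟨k, k0, k4, ki, kj⟩ : ∃ k : Fin 5, k ≠ 0 ∧ k ≠ 4 ∧ k ≠ i ∧ k ≠ j := by
      clear hy y
      revert i j
      decide
    obtain ⟨p, hp, hp1⟩ := KData.exists_ne D.rgd (hf.mem i k ki.symm)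
    obtain ⟨v, hv, e⟩ := (KData.rg D).sur (f i k) (hf.mem i k ki.symm) (f k j) (hf.mem k j kj)
      (hf.neg_one i k j ki.symm kj h1) p hp hp1 y (by rw [hf.add]; exact hy)
    rw [← e, ← commutatorElement_def]
    exact Subgroup.commutator_mem_commutator (hX i k ki.symm h2 k0 hp) (hX k j kj k4 h3 hv)
  · rw [← hfr]
    exact hX 0 4 (by decide) (by decide) (by decide)
  · refine iSup_le ?_
    rintro ⟨_, i, j, h1, h2, h3, rfl⟩
    exact le_PR X (hf.mem i j h1) (by rw [← hfr]; exact hf.nonneg i j h1 h2 h3)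

end Perf

section HasP

variable {I W : Type*} [Fintype I] [DecidableEq I] [Group W] {M : CoxeterMatrix I}
  {cs : CoxeterSystem M W} {A : I → I → ℤ} {h : IsCartan M A}
  {G : Type*} [Group G] {K : Subgroup G} {T₀ : Subgroup ↥K} {n : I → ↥K} {X : (I → ℤ) → Subgroup ↥K} {q : ℕ}

/-- **`HasP`, all `q`**, if the diagram contains a path with four nodes. -/
theorem hasP_path4 [Finite G] [Finite W] (D : Datum (⊤ : Subgroup ↥K) q cs h T₀ n X) (hP : Path4 M) :
    FrontSL.HasP cs h X := by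
  intro r hr
  obtain ⟨L, h1, h2, h3⟩ := exists_perf D hP hr
  exact ⟨L, h1, h2, fun y hy x hx => ((KData.rg D).XP hr hx (h3 hy)).symm⟩

end HasP

/-! ### The diagrams -/

open Cfsg.Agent.LieRecognition.BNCox (cA cA_apply)
open Cfsg.Agent.LieRecognition.CoxClass (mA)

theorem path4_A {n : ℕ} (hn : 4 ≤ n) : Path4 (cA n) := by
  refine ⟨⟨0, by omega⟩, ⟨1, by omega⟩, ⟨2, by omega⟩, ⟨3, by omega⟩, ?_, ?_, ?_, ?_, ?_, ?_, ?_, ?_, ?_, ?_, ?_, ?_⟩
  all_goals first
    | (simp [Fin.ext_iff]; done)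
    | (rw [cA_apply]; simp [mA])

theorem path4_D {n : ℕ} (hn : 3 ≤ n) : Path4 (Cfsg.Agent.Nodes.TypeD.M n) := by
  refine ⟨⟨n - 3, by omega⟩, ⟨n - 2, by omega⟩, ⟨n - 1, by omega⟩, ⟨n, by omega⟩, ?_, ?_, ?_, ?_, ?_, ?_, ?_, ?_, ?_,
    ?_, ?_, ?_⟩
  all_goals first
    | (intro h; have := congrArg Fin.val h; simp only at this; omega)
    | (rw [Cfsg.Agent.Nodes.TypeD.M_apply]; unfold Cfsg.Agent.Nodes.TypeD.Adj; simp only [Fin.ext_iff]
       split_ifs <;> omega)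

theorem path4_E6 : Path4 CoxeterMatrix.E₆ :=
  ⟨0, 2, 3, 4, by decide, by decide, by decide, by decide, by decide, by decide, by decide, by decide, by decide,
    by decide, by decide, by decide⟩

theorem path4_E7 : Path4 CoxeterMatrix.E₇ :=
  ⟨0, 2, 3, 4, by decide, by decide, by decide, by decide, by decide, by decide, by decide, by decide, by decide,
    by decide, by decide, by decide⟩

theorem path4_E8 : Path4 CoxeterMatrix.E₈ :=
  ⟨0, 2, 3, 4, by decide, by decide, by decide, by decide, by decide, by decide, by decide, by decide, by decide,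
    by decide, by decide, by decide⟩

end Cfsg.Agent.OddHalf.D7Out.HasPTwo
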