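import Cfsg.Agent.OddHalf.D7Out.ExA2
import Cfsg.Agent.OddHalf.D7Out.GrSL
import Cfsg.Agent.OddHalf.D7.StartSL
import Cfsg.Agent.OddHalf.D7Out.HasPTwo

/-!
# Node D7 for `K = L_{n+1}(2)`, `n ≥ 4` (helper875)
-/

set_option autoImplicit false
set_option linter.unusedSectionVars false

namespace Cfsg.Agent.OddHalf.D7Out.RowA2

open Cfsg
open Matrix CoxeterSystem Cfsg.Agent.ChevalleyStructure.CoxeterGeom Cfsg.Agent.Tits.Roots Cfsg.Agent.Tits.Core
  Cfsg.Agent.Tits.RootComb Cfsg.Agent.Nodes.Reps Cfsg.Agent.Nodes.BNOf Cfsg.Agent.Nodes.Coroot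
  Cfsg.Agent.Nodes.RootsA Cfsg.Agent.Nodes.RGDTypeA Cfsg.Agent.KFacts Cfsg.Agent.KFacts.SLRow.Def
  Cfsg.Agent.KFacts.SLRow Cfsg.Agent.KFacts.ChevTwo Cfsg.Agent.KFacts.SLRow.Diag Cfsg.Agent.KFacts.SLRow.Row
  Cfsg.Agent.OddHalf.Iface Cfsg.Agent.OddHalf.D7.Cases Cfsg.Agent.OddHalf.Front.FE Cfsg.Agent.Schreier.Basic
open Cfsg.Agent.LieRecognition.BNCox (cA)

universe u

/-- a field with two elements -/
theorem zero_or_one {F : Type*} [Field F] [Finite F] (hF : Nat.card F = 2) (x : F) : x = 0 ∨ x = 1 := by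
  rw [Nat.card_eq_two_iff' (0 : F)] at hF
  obtain ⟨y, -, hy⟩ := hF
  by_cases h0 : x = 0
  · exact Or.inl h0
  · right
    rw [hy x h0, hy 1 one_ne_zero]

/-- **`L_{n+1}(2)`, `n ≥ 4`.** -/
theorem false_of {G : Type u} [Group G] (C : Ctx G) {K : Subgroup G} (S : Std G K) (hcyc : Cyc K) {n : ℕ}
    (hn : 4 ≤ n) (F : Type) [Field F] [Finite F] [CharP F 2] (hF : Nat.card F = 2)
    (f : ProjectiveSpecialLinearGroup (Fin (n + 1)) F ≃* ↥K) (hs : Sch ↥K) : False := by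
  have hfin := C.fin
  have : Fact (Nat.Prime 2) := ⟨Nat.prime_two⟩
  have h2 : ∀ t : F, t + t = 0 := CharTwo.add_self_eq_zero
  have hW : Finite (cA n).Group := finite_W (cA n).toCoxeterSystem (isCartan n)
  have D₀ : Datum (⊤ : Subgroup (ProjectiveSpecialLinearGroup (Fin (n + 1)) F)) 2 (cA n).toCoxeterSystem
      (isCartan n) _ _ _ :=
    ⟨rgd_psl (F := F) (cA n).toCoxeterSystem (isCartan n), le_top, G1_psl_eq_top _ _, Psl.noCent h2 _ _,
      Psl.conn_cA, by simpa using (show 3 ≤ n by omega), fun i j => (Psl.cA_ne i j).1,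
      fun i j => (Psl.cA_ne i j).2, fun x hx => by rw [Psl.card_X h2 _ _ hx, hF]⟩
  have Sy₀ : Sys D₀.rgd _ := SysA.sys_PSL (cA n).toCoxeterSystem (isCartan n)
  have D := D₀.map f.toMonoidHom f.injective
  have h1 : (⊤ : Subgroup (ProjectiveSpecialLinearGroup (Fin (n + 1)) F)).map f.toMonoidHom = ⊤ :=
    Subgroup.map_top_of_surjective _ f.surjective
  rw [h1] at D
  have Sy := sys_map Sy₀ f.toMonoidHom f.injective D.rgd
  obtain ⟨t, v, hst⟩ := exists_start C S hcyc (D7.StartSL.center_eq_bot D Sy)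
  exact GrSL.false_of_two (commutator_eq_top C) hst hs D Sy (dTwo_A n) (HasPTwo.hasP_path4 D (HasPTwo.path4_A hn))
    (ExA2.hasEx (zero_or_one hF) hn f.toMonoidHom f.injective D)

end Cfsg.Agent.OddHalf.D7Out.RowA2
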