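import Mathlib
import Cfsg.Agent.OddHalf.TFormula

/-!
# Node D7 of S1765: the CLAIM LEMMA (helper163 #9501 case B, abstract form of helper875 #9928)

`S = Us T`, `T` a Sylow 2-subgroup of `C(t)`, `Us` the doubled unipotent group, `W ≤ Z(Us)` the doubled long root group.
No extremal conjugate `u` of `t` in `S` outside `Us` centralises `W` and has `μ u ≠ 1`.
-/

set_option autoImplicit false

namespace Cfsg.Agent.OddHalf.D7Out.Claim

open Subgroup

variable {G : Type*} [Group G]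

/-- The elements `p ∈ U` with `p ∈ P ≤ K`, `P` perfect and centralising `p`. -/
def P0 (K U : Subgroup G) : Set G :=
  {p | p ∈ U ∧ p * p = 1 ∧ ∃ P : Subgroup G, ⁅P, P⁆ = P ∧ P ≤ K ∧ p ∈ P ∧ ∀ x ∈ P, x * p = p * x}

/-- The hypotheses of the claim lemma. -/
structure Hyp (t : G) (K U Us T W S : Subgroup G) {A : Type*} [CommGroup A] (mu : S →* A) : Prop where
  tt : t * t = 1
  /-- `K ≤ C(t)` and `C(t)` has no other perfect subgroups -/
  K_t : ∀ x ∈ K, x * t = t * x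
  hS : ∀ P : Subgroup G, ⁅P, P⁆ = P → (∀ x ∈ P, x * t = t * x) → P ≤ K
  t_K : t ∉ K
  T_S : T ≤ S
  Us_S : Us ≤ S
  U_Us : U ≤ Us
  W_Us : W ≤ Us
  W_cent : ∀ w ∈ W, ∀ x ∈ Us, w * x = x * w
  hU : ∀ x ∈ K, x ∈ T → x ∈ U
  /-- `C_S(t) = T` -/
  CS : ∀ x ∈ S, x * t = t * x → x ∈ T
  mu_Us : ∀ x (h : x ∈ Us), mu ⟨x, Us_S h⟩ = 1
  hfree : ∀ x ∈ Us, t * x * (t * x) = 1 → ∃ y ∈ Us, y * t * y⁻¹ = t * x
  /-- a conjugate of `W` in `T` which centralises the root elements of `U` contains `t` -/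
  hf3 : ∀ g : G, (∀ w ∈ W, g * w * g⁻¹ ∈ T) →
    (∀ w ∈ W, ∀ p ∈ P0 K U, g * w * g⁻¹ * p = p * (g * w * g⁻¹)) → ∃ w ∈ W, g * w * g⁻¹ = t
  hkey : ∀ u p : G, ∀ hu : u ∈ S, p ∈ S → u * u = 1 → p * p = 1 → u * p = p * u → mu ⟨u, hu⟩ ≠ 1 →
    (∀ w ∈ W, w * u = u * w) → (∃ w ∈ W, w * p ≠ p * w) → t * p ∉ Us → t * (p * u) ∈ Us

/-- **Claim lemma.** -/
theorem claim {t : G} {K U Us T W S : Subgroup G} {A : Type*} [CommGroup A] {mu : S →* A}
    (H : Hyp t K U Us T W S mu) (h u : G) (hu : h⁻¹ * t * h = u) (huS : u ∈ S) (huU : u ∉ Us)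
    (hCS : ∀ x, x ∈ S ∧ x * u = u * x ↔ h * x * h⁻¹ ∈ T)
    (hWu : ∀ w ∈ W, w * u = u * w) : mu ⟨u, huS⟩ = 1 := by
  by_contra hmu
  have huu : u * u = 1 := by
    rw [← hu]
    calc h⁻¹ * t * h * (h⁻¹ * t * h) = h⁻¹ * (t * t) * h := by group
      _ = 1 := by rw [H.tt]; group
  -- a root element `p` of `K^h` not centralising `W`
  obtain ⟨p0, hp0, hp0W⟩ : ∃ p ∈ P0 K U, ∃ w ∈ W, w * (h⁻¹ * p * h) ≠ (h⁻¹ * p * h) * w := by
    by_contra hc
    push Not at hc
    have hWT : ∀ w ∈ W, h * w * h⁻¹ ∈ T := fun w hw =>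
      (hCS w).1 ⟨H.Us_S (H.W_Us hw), hWu w hw⟩
    obtain ⟨w, hw, hwt⟩ := H.hf3 h hWT (by
      intro w hw p hp
      have h1 := hc p hp w hw
      calc h * w * h⁻¹ * p = h * (w * (h⁻¹ * p * h)) * h⁻¹ := by group
        _ = h * ((h⁻¹ * p * h) * w) * h⁻¹ := by rw [h1]
        _ = p * (h * w * h⁻¹) := by group)
    apply huU
    have e : u = w := by rw [← hu, ← hwt]; group
    rw [e]; exact H.W_Us hw
  obtain ⟨hp0U, hp02, P, hPP, hPK, hp0P, hPc⟩ := hp0
  set p := h⁻¹ * p0 * h with hpdef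
  have hpp : p * p = 1 := by
    calc p * p = h⁻¹ * (p0 * p0) * h := by rw [hpdef]; group
      _ = 1 := by rw [hp02]; group
  have hp0K : p0 ∈ K := hPK hp0P
  have hpu : p * u = u * p := by
    rw [← hu, hpdef]
    calc h⁻¹ * p0 * h * (h⁻¹ * t * h) = h⁻¹ * (p0 * t) * h := by group
      _ = h⁻¹ * (t * p0) * h := by rw [H.K_t _ hp0K]
      _ = h⁻¹ * t * h * (h⁻¹ * p0 * h) := by group
  have hp0T : p0 ∈ T := H.CS p0 (H.Us_S (H.U_Us hp0U)) (H.K_t _ hp0K)
  have hpS : p ∈ S := by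
    refine ((hCS p).2 ?_).1
    have e : h * p * h⁻¹ = p0 := by rw [hpdef]; group
    rw [e]; exact hp0T
  -- `p ∉ t Us`: `p` is not conjugate to `t`
  have hnc : ∀ k : G, k⁻¹ * t * k ≠ p0 := by
    intro k hk
    have h1 : P.map (MulAut.conj k).toMonoidHom ≤ K := by
      apply H.hS
      · rw [← map_commutator, hPP]
      · rintro _ ⟨x, hx, rfl⟩
        have h2 := hPc x hx
        rw [← hk] at h2
        show k * x * k⁻¹ * t = t * (k * x * k⁻¹)
        calc k * x * k⁻¹ * t = k * (x * (k⁻¹ * t * k)) * k⁻¹ := by group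
          _ = k * ((k⁻¹ * t * k) * x) * k⁻¹ := by rw [h2]
          _ = t * (k * x * k⁻¹) := by group
    apply H.t_K
    have h2 : k * p0 * k⁻¹ ∈ K := h1 ⟨p0, hp0P, rfl⟩
    have e : k * p0 * k⁻¹ = t := by rw [← hk]; group
    rwa [e] at h2
  have hptU : t * p ∉ Us := by
    intro hc
    obtain ⟨y, hy, hyt⟩ := H.hfree (t * p) hc (by
      calc t * (t * p) * (t * (t * p)) = (t * t) * p * (t * t) * p := by group
        _ = p * p := by rw [H.tt]; group
        _ = 1 := hpp)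
    have h1 : y * t * y⁻¹ = p := by
      rw [hyt, ← mul_assoc, H.tt, one_mul]
    apply hnc (y⁻¹ * h⁻¹)
    calc (y⁻¹ * h⁻¹)⁻¹ * t * (y⁻¹ * h⁻¹) = h * (y * t * y⁻¹) * h⁻¹ := by group
      _ = h * p * h⁻¹ := by rw [h1]
      _ = p0 := by rw [hpdef]; group
  have hkey := H.hkey u p huS hpS huu hpp hpu.symm hmu hWu hp0W hptU
  -- conjugate `p u` to `t`
  obtain ⟨y, hy, hyt⟩ := H.hfree (t * (p * u)) hkey (by
    calc t * (t * (p * u)) * (t * (t * (p * u))) = (t * t) * (p * u) * (t * t) * (p * u) := by group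
      _ = (p * u) * (p * u) := by rw [H.tt, one_mul, mul_one]
      _ = p * (u * p) * u := by group
      _ = p * (p * u) * u := by rw [← hpu]
      _ = (p * p) * (u * u) := by group
      _ = 1 := by rw [hpp, huu, one_mul])
  have h1 : y * t * y⁻¹ = p * u := by
    rw [hyt, ← mul_assoc, H.tt, one_mul]
  -- `P^h` conjugated by `y⁻¹` centralises `t`
  have h2 : P.map (MulAut.conj (y⁻¹ * h⁻¹)).toMonoidHom ≤ K := by
    apply H.hS
    · rw [← map_commutator, hPP]
    · rintro _ ⟨x, hx, rfl⟩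
      show (y⁻¹ * h⁻¹) * x * (y⁻¹ * h⁻¹)⁻¹ * t = t * ((y⁻¹ * h⁻¹) * x * (y⁻¹ * h⁻¹)⁻¹)
      have c1 : Commute (h⁻¹ * x * h) p := by
        show h⁻¹ * x * h * p = p * (h⁻¹ * x * h)
        rw [hpdef]
        calc h⁻¹ * x * h * (h⁻¹ * p0 * h) = h⁻¹ * (x * p0) * h := by group
          _ = h⁻¹ * (p0 * x) * h := by rw [hPc x hx]
          _ = h⁻¹ * p0 * h * (h⁻¹ * x * h) := by group
      have c2 : Commute (h⁻¹ * x * h) u := by
        show h⁻¹ * x * h * u = u * (h⁻¹ * x * h)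
        rw [← hu]
        calc h⁻¹ * x * h * (h⁻¹ * t * h) = h⁻¹ * (x * t) * h := by group
          _ = h⁻¹ * (t * x) * h := by rw [H.K_t _ (hPK hx)]
          _ = h⁻¹ * t * h * (h⁻¹ * x * h) := by group
      have c3 : (h⁻¹ * x * h) * (p * u) = (p * u) * (h⁻¹ * x * h) := (c1.mul_right c2).eq
      rw [← h1] at c3
      calc (y⁻¹ * h⁻¹) * x * (y⁻¹ * h⁻¹)⁻¹ * t
          = y⁻¹ * ((h⁻¹ * x * h) * (y * t * y⁻¹)) * y := by group
        _ = y⁻¹ * ((y * t * y⁻¹) * (h⁻¹ * x * h)) * y := by rw [c3]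
        _ = t * ((y⁻¹ * h⁻¹) * x * (y⁻¹ * h⁻¹)⁻¹) := by group
  have h3 : y⁻¹ * p * y ∈ K := by
    have h4 : (y⁻¹ * h⁻¹) * p0 * (y⁻¹ * h⁻¹)⁻¹ ∈ K := h2 ⟨p0, hp0P, rfl⟩
    have e : (y⁻¹ * h⁻¹) * p0 * (y⁻¹ * h⁻¹)⁻¹ = y⁻¹ * p * y := by rw [hpdef]; group
    rwa [e] at h4
  have h4 : y⁻¹ * p * y ∈ T := by
    apply H.CS
    · exact mul_mem (mul_mem (inv_mem (H.Us_S hy)) hpS) (H.Us_S hy)
    · exact H.K_t _ h3
  have h5 : y⁻¹ * p * y ∈ Us := H.U_Us (H.hU _ h3 h4)
  obtain ⟨w, hw, hwp⟩ := hp0W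
  apply hwp
  have c1 := H.W_cent w hw _ h5
  have c2 := H.W_cent w hw y hy
  calc w * p = w * y * (y⁻¹ * p * y) * y⁻¹ := by group
    _ = y * (w * (y⁻¹ * p * y)) * y⁻¹ := by rw [c2]; group
    _ = y * ((y⁻¹ * p * y) * w) * y⁻¹ := by rw [c1]
    _ = p * (y * w) * y⁻¹ := by group
    _ = p * (w * y) * y⁻¹ := by rw [c2]
    _ = p * w := by group


/-! ### The end -/

theorem mem_norm [Finite G] {T : Subgroup G} {m : G} (h : ∀ x ∈ T, m * x * m⁻¹ ∈ T) :
    m ∈ normalizer (T : Set G) := by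
  have hk : ∀ k : ℕ, ∀ x ∈ T, m ^ k * x * (m ^ k)⁻¹ ∈ T := by
    intro k
    induction k with
    | zero => intro x hx; simpa using hx
    | succ k ih =>
      intro x hx
      have := h _ (ih x hx)
      have e : m * (m ^ k * x * (m ^ k)⁻¹) * m⁻¹ = m ^ (k + 1) * x * (m ^ (k + 1))⁻¹ := by
        rw [pow_succ' m k]; group
      rwa [e] at this
  rw [mem_normalizer_iff]
  intro x
  constructor
  · exact h x
  · intro hx
    have h1 := hk (orderOf m - 1) _ hx
    have e : m ^ (orderOf m - 1) = m⁻¹ := by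
      rw [eq_inv_iff_mul_eq_one, ← pow_succ, Nat.sub_add_cancel (orderOf_pos m), pow_orderOf_eq_one]
    rw [e] at h1
    have e2 : m⁻¹ * (m * x * m⁻¹) * m⁻¹⁻¹ = x := by group
    rwa [e2] at h1

theorem card_orbit_odd [Finite G] {t : G} {T S : Subgroup G} (hT : T ≤ S)
    (hTt : ∀ x ∈ T, x * t = t * x) (CS : ∀ x ∈ S, x * t = t * x → x ∈ T)
    (hodd : ¬ 2 ∣ T.relIndex (centralizer ({t} : Set G))) :
    ¬ 2 ∣ (MulAction.orbit ↥(centralizer ({t} : Set G) ⊓ normalizer (T : Set G))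
      ((1 : G) : G ⧸ S)).ncard := by
  classical
  set N := centralizer ({t} : Set G) ⊓ normalizer (T : Set G) with hN
  rw [← MulAction.index_stabilizer]
  have hTN : T ≤ N := le_inf (fun x hx => mem_centralizer_singleton_iff.2 (hTt x hx)) le_normalizer
  have hstab : MulAction.stabilizer ↥N ((1 : G) : G ⧸ S) = T.subgroupOf N := by
    ext ⟨x, hx⟩
    rw [MulAction.mem_stabilizer_iff, mem_subgroupOf]
    show x • ((1 : G) : G ⧸ S) = _ ↔ x ∈ T
    rw [MulAction.Quotient.smul_mk, smul_eq_mul, mul_one, QuotientGroup.eq, mul_one, inv_mem_iff]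
    constructor
    · intro h
      exact CS x h (mem_centralizer_singleton_iff.1 hx.1)
    · intro h; exact hT h
  rw [hstab]
  intro h
  apply hodd
  have h1 := relIndex_mul_relIndex T N (centralizer ({t} : Set G)) hTN inf_le_left
  rw [← h1]
  exact h.mul_right _

/-- **The end of D7** (K-free): a perfect group does not satisfy the hypotheses of the claim lemma, if moreover
`μ u = 1` for all involutions `u` of `S - t Us` not centralising `W`, and `μ t ≠ 1`. -/
theorem false_of [Finite G] (hG : commutator G = ⊤) {t : G} {K U Us T W S : Subgroup G} {A : Type*}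
    [CommGroup A] {mu : S →* A} (H : Hyp t K U Us T W S mu) (htT : t ∈ T)
    (hS2 : IsPGroup 2 S) (hTt : ∀ x ∈ T, x * t = t * x)
    (hodd : ¬ 2 ∣ T.relIndex (centralizer ({t} : Set G)))
    (hinv : ∀ u : G, ∀ hu : u ∈ S, u * u = 1 → (∃ w ∈ W, w * u ≠ u * w) → t * u ∉ Us →
      mu ⟨u, hu⟩ = 1)
    (hmu : mu ⟨t, H.T_S htT⟩ ≠ 1) : False := by
  classical
  have := Fintype.ofFinite (G ⧸ S)
  have hT2 : IsPGroup 2 T := hS2.to_le H.T_S
  have hmax : ∀ P : Subgroup G, IsPGroup 2 P → T ≤ P → (∀ x ∈ P, x * t = t * x) → P ≤ T := by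
    intro P hP hTP hPt
    by_contra hne
    apply hodd
    have h1 := relIndex_mul_relIndex T P (centralizer ({t} : Set G)) hTP
      (fun x hx => mem_centralizer_singleton_iff.2 (hPt x hx))
    rw [← h1]
    apply Dvd.dvd.mul_right
    have h2 : IsPGroup 2 P := hP
    have h3 : (T.subgroupOf P).index ≠ 1 := by
      rw [Ne, index_eq_one, subgroupOf_eq_top]; exact hne
    obtain ⟨n, hn⟩ := h2.index (T.subgroupOf P)
    have hn0 : n ≠ 0 := by
      rintro rfl; exact h3 (by rw [hn]; simp)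
    show 2 ∣ (T.subgroupOf P).index
    rw [hn]
    exact dvd_pow_self 2 hn0
  obtain ⟨f, hf, s, hs, hprod⟩ := TFormula.transfer_eq_prod S mu t H.tt T hT2 hTt
  have hone := TFormula.hom_eq_one hG (MonoidHom.transfer mu) t
  rw [hprod] at hone
  -- the values
  have hmem : ∀ x g : G, x • (g : G ⧸ S) = g ↔ g⁻¹ * x * g ∈ S := by
    intro x g
    rw [MulAction.Quotient.smul_mk, smul_eq_mul, QuotientGroup.eq]
    constructor
    · intro h
      have := S.inv_mem h
      have e : ((x * g)⁻¹ * g)⁻¹ = g⁻¹ * x * g := by group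
      rwa [e] at this
    · intro h
      have := S.inv_mem h
      have e : (g⁻¹ * x * g)⁻¹ = (x * g)⁻¹ * g := by group
      rwa [e] at this
  set a := mu ⟨t, H.T_S htT⟩ with ha
  have haa : a * a = 1 := by
    rw [ha, ← map_mul]
    have : (⟨t, H.T_S htT⟩ : S) * ⟨t, H.T_S htT⟩ = 1 := Subtype.ext H.tt
    rw [this, map_one]
  set N := centralizer ({t} : Set G) ⊓ normalizer (T : Set G) with hN
  have hval : ∀ q ∈ s, f q = if q ∈ MulAction.orbit ↥N ((1 : G) : G ⧸ S) then a else 1 := by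
    intro q hq
    obtain ⟨g, rfl⟩ := QuotientGroup.mk_surjective q
    obtain ⟨h1, h2⟩ := (hs _).1 hq
    have h3 : g⁻¹ * t * g ∈ S := (hmem t g).1 h1
    have h4 : ∀ x ∈ T, g⁻¹ * x * g ∈ S := fun x hx => (hmem x g).1 (h2 x hx)
    have huu : (g⁻¹ * t * g) * (g⁻¹ * t * g) = 1 := by
      calc (g⁻¹ * t * g) * (g⁻¹ * t * g) = g⁻¹ * (t * t) * g := by group
        _ = 1 := by rw [H.tt]; group
    rw [hf _ g rfl h3]
    have hCS : ∀ x, x ∈ S ∧ x * (g⁻¹ * t * g) = (g⁻¹ * t * g) * x ↔ g * x * g⁻¹ ∈ T := by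
      intro x
      constructor
      · rintro ⟨hx, hxu⟩
        have h5 := hmax ((S.map (MulAut.conj g).toMonoidHom) ⊓ centralizer ({t} : Set G))
          ((hS2.map _).to_le inf_le_left)
          (by
            intro y hy
            refine mem_inf.2 ⟨⟨g⁻¹ * y * g, h4 y hy, ?_⟩, mem_centralizer_singleton_iff.2 (hTt y hy)⟩
            show g * (g⁻¹ * y * g) * g⁻¹ = y
            group)
          (fun y hy => mem_centralizer_singleton_iff.1 (mem_inf.1 hy).2)
        apply h5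
        refine mem_inf.2 ⟨⟨x, hx, rfl⟩, mem_centralizer_singleton_iff.2 ?_⟩
        calc g * x * g⁻¹ * t = g * (x * (g⁻¹ * t * g)) * g⁻¹ := by group
          _ = g * ((g⁻¹ * t * g) * x) * g⁻¹ := by rw [hxu]
          _ = t * (g * x * g⁻¹) := by group
      · intro hx
        have h5 := h4 _ hx
        have e : g⁻¹ * (g * x * g⁻¹) * g = x := by group
        rw [e] at h5
        refine ⟨h5, ?_⟩
        have h6 := hTt _ hx
        calc x * (g⁻¹ * t * g) = g⁻¹ * (g * x * g⁻¹ * t) * g := by group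
          _ = g⁻¹ * (t * (g * x * g⁻¹)) * g := by rw [h6]
          _ = (g⁻¹ * t * g) * x := by group
    by_cases hq1 : ((g : G) : G ⧸ S) ∈ MulAction.orbit ↥N ((1 : G) : G ⧸ S)
    · rw [if_pos hq1]
      obtain ⟨⟨n, hn⟩, hn'⟩ := hq1
      change n • ((1 : G) : G ⧸ S) = g at hn'
      rw [MulAction.Quotient.smul_mk, smul_eq_mul, mul_one, QuotientGroup.eq] at hn'
      -- `g = n s`
      have hnt : n * t = t * n := mem_centralizer_singleton_iff.1 hn.1
      have e : g⁻¹ * t * g = (n⁻¹ * g)⁻¹ * t * (n⁻¹ * g) := by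
        calc g⁻¹ * t * g = g⁻¹ * (t * n) * (n⁻¹ * g) := by group
          _ = g⁻¹ * (n * t) * (n⁻¹ * g) := by rw [hnt]
          _ = (n⁻¹ * g)⁻¹ * t * (n⁻¹ * g) := by group
      have e2 : (⟨g⁻¹ * t * g, h3⟩ : S) = ⟨n⁻¹ * g, hn'⟩⁻¹ * ⟨t, H.T_S htT⟩ * ⟨n⁻¹ * g, hn'⟩ :=
        Subtype.ext e
      rw [e2, map_mul, map_mul, map_inv, mul_comm (mu ⟨n⁻¹ * g, hn'⟩)⁻¹, inv_mul_cancel_right]
    · rw [if_neg hq1]
      by_cases hU : g⁻¹ * t * g ∈ Us
      · exact H.mu_Us _ hU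
      by_cases htU : t * (g⁻¹ * t * g) ∈ Us
      · exfalso
        apply hq1
        obtain ⟨y, hy, hyt⟩ := H.hfree _ htU (by
          calc t * (t * (g⁻¹ * t * g)) * (t * (t * (g⁻¹ * t * g)))
              = (t * t) * (g⁻¹ * t * g) * (t * t) * (g⁻¹ * t * g) := by group
            _ = (g⁻¹ * t * g) * (g⁻¹ * t * g) := by rw [H.tt, one_mul, mul_one]
            _ = 1 := huu)
        have e1 : y * t * y⁻¹ = g⁻¹ * t * g := by rw [hyt, ← mul_assoc, H.tt, one_mul]
        have hc : (g * y) * t = t * (g * y) := by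
          calc (g * y) * t = g * (y * t * y⁻¹) * y := by group
            _ = g * (g⁻¹ * t * g) * y := by rw [e1]
            _ = t * (g * y) := by group
        have hyS := H.Us_S hy
        have hnorm : ∀ x ∈ T, (g * y)⁻¹ * x * (g * y) ∈ T := by
          intro x hx
          apply H.CS
          · have h5 := h4 x hx
            have e : (g * y)⁻¹ * x * (g * y) = y⁻¹ * (g⁻¹ * x * g) * y := by group
            rw [e]
            exact mul_mem (mul_mem (inv_mem hyS) h5) hyS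
          · have c1 : Commute (g * y) t := hc
            have c2 : Commute x t := hTt x hx
            exact ((c1.inv_left.mul_left c2).mul_left c1).eq
        have hnorm2 : g * y ∈ normalizer (T : Set G) := by
          have h5 : (g * y)⁻¹ ∈ normalizer (T : Set G) := by
            apply mem_norm
            intro x hx
            rw [inv_inv]
            exact hnorm x hx
          have := inv_mem h5
          rwa [inv_inv] at this
        refine ⟨⟨g * y, mem_inf.2 ⟨mem_centralizer_singleton_iff.2 hc, hnorm2⟩⟩, ?_⟩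
        show (g * y) • ((1 : G) : G ⧸ S) = g
        rw [MulAction.Quotient.smul_mk, smul_eq_mul, mul_one, QuotientGroup.eq]
        have e : (g * y)⁻¹ * g = y⁻¹ := by group
        rw [e]; exact inv_mem hyS
      · by_cases hWu : ∀ w ∈ W, w * (g⁻¹ * t * g) = (g⁻¹ * t * g) * w
        · exact claim H g _ rfl h3 hU hCS hWu
        · push Not at hWu
          exact hinv _ h3 huu hWu htU
  rw [Finset.prod_congr rfl hval, Finset.prod_ite, Finset.prod_const, Finset.prod_const_one, mul_one]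
    at hone
  have hcard : ¬ 2 ∣ (s.filter (fun q => q ∈ MulAction.orbit ↥N ((1 : G) : G ⧸ S))).card := by
    have h1 := card_orbit_odd H.T_S hTt H.CS hodd
    rw [Set.ncard_eq_toFinset_card'] at h1
    have e : s.filter (fun q => q ∈ MulAction.orbit ↥N ((1 : G) : G ⧸ S)) =
        (MulAction.orbit ↥N ((1 : G) : G ⧸ S)).toFinset := by
      ext q
      rw [Finset.mem_filter, Set.mem_toFinset]
      constructor
      · exact fun h => h.2
      · intro h
        refine ⟨(hs q).2 ?_, h⟩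
        obtain ⟨⟨n, hn⟩, rfl⟩ := h
        have hnt : n * t = t * n := mem_centralizer_singleton_iff.1 hn.1
        have hnn := hn.2
        have key : ∀ x ∈ T, x • (n • ((1 : G) : G ⧸ S)) = n • ((1 : G) : G ⧸ S) := by
          intro x hx
          rw [MulAction.Quotient.smul_mk, smul_eq_mul, mul_one, hmem]
          have h5 : n⁻¹ ∈ normalizer (T : Set G) := inv_mem hnn
          have := (mem_normalizer_iff.1 h5 x).1 hx
          rw [inv_inv] at this
          exact H.T_S this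
        exact ⟨key t htT, fun x hx => key x hx⟩
    rw [e]; exact h1
  obtain ⟨k, hk⟩ : Odd (s.filter (fun q => q ∈ MulAction.orbit ↥N ((1 : G) : G ⧸ S))).card := by
    rw [← Nat.not_even_iff_odd]
    intro h
    exact hcard h.two_dvd
  rw [hk, pow_succ, pow_mul, pow_two, haa, one_pow, one_mul] at hone
  exact hmu hone

end Cfsg.Agent.OddHalf.D7Out.Claim
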