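import Mathlib
import Cfsg.Agent.OddHalf.D7Out.TwClaim

/-!
# Node D7 of S1765: the K-free END for the twisted families (helper490, bb #11669)

`T` a Sylow 2-subgroup of `C(t)`, `U = T ∩ K`, `Us` the doubled unipotent group normalised by `T`, `W ≤ Z(Us)` the doubled
long root group, `T / ⟨t⟩U` cyclic. If every `g ∈ T` with `g² ∈ U` satisfies `[g, W] = 1` or `[tg, W] = 1` and the centraliser in
`T` of the root elements `P0` lies in `⟨t⟩X`, `|W| = |X|²`, then `G` is not perfect.
-/

set_option autoImplicit false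

namespace Cfsg.Agent.OddHalf.D7Out.TwEnd

open Subgroup
open Cfsg.Agent.OddHalf.D7Out.TwClaim

universe u

variable {G : Type u} [Group G]

/-- The hypotheses of the end. -/
structure Dat (PP : Subgroup G → Prop) (t : G) (K U Us T W X : Subgroup G) : Prop where
  tt : t * t = 1
  K_t : ∀ x ∈ K, x * t = t * x
  hconj : ∀ (P : Subgroup G) (g : G), PP P → PP (P.map (MulAut.conj g).toMonoidHom)
  hS : ∀ P : Subgroup G, PP P → (∀ x ∈ P, x * t = t * x) → ∀ p ∈ P, p * p = 1 → p ∈ K
  t_K : t ∉ K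
  t_T : t ∈ T
  T_t : ∀ x ∈ T, x * t = t * x
  T2 : IsPGroup 2 T
  hodd : ¬ 2 ∣ T.relIndex (centralizer ({t} : Set G))
  U_K : U ≤ K
  U_T : U ≤ T
  hU : ∀ x ∈ K, x ∈ T → x ∈ U
  U_Us : U ≤ Us
  Us2 : IsPGroup 2 Us
  T_Us : ∀ x ∈ T, ∀ y ∈ Us, x * y * x⁻¹ ∈ Us
  CUs : ∀ x ∈ Us, x * t = t * x → x ∈ U
  W_Us : W ≤ Us
  W_cent : ∀ w ∈ W, ∀ x ∈ Us, w * x = x * w
  hfree : ∀ x ∈ Us, t * x * (t * x) = 1 → ∃ y ∈ Us, y * t * y⁻¹ = t * x
  /-- `T / ⟨t⟩U` is cyclic -/
  cyc : ∃ y ∈ T, ∀ x ∈ T, ∃ i : ℤ, y ^ i * x ∈ U ∨ t * (y ^ i * x) ∈ U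
  /-- the constant `c` of `g` on `W` is `0` or `1` -/
  c01 : ∀ g ∈ T, g * g ∈ U → (∀ w ∈ W, w * g = g * w) ∨ (∀ w ∈ W, w * (t * g) = t * g * w)
  f3 : ∀ x ∈ T, (∀ p ∈ P0 PP K U, x * p = p * x) → x ∈ X ∨ t * x ∈ X
  cardW : Nat.card W = Nat.card X ^ 2
  X_ne : X ≠ ⊥

variable {PP : Subgroup G → Prop} {t : G} {K U Us T W X : Subgroup G}

/-- A quotient by a subgroup containing the commutators. -/
theorem exists_mu {S : Subgroup G} (N : Subgroup G) (hN : ∀ a ∈ S, ∀ b ∈ S, a * b * a⁻¹ * b⁻¹ ∈ N)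
    (hNS : N ≤ S) :
    ∃ (A : Type u) (_ : CommGroup A) (mu : S →* A), ∀ (s : G) (hs : s ∈ S), mu ⟨s, hs⟩ = 1 ↔ s ∈ N := by
  have hc : commutator S ≤ N.subgroupOf S := by
    rw [commutator_def, commutator_le]
    rintro ⟨a, ha⟩ - ⟨b, hb⟩ -
    rw [mem_subgroupOf]
    exact hN a ha b hb
  refine ⟨Abelianization S ⧸ ((N.subgroupOf S).map Abelianization.of), inferInstance,
    (QuotientGroup.mk' _).comp Abelianization.of, fun s hs => ?_⟩
  rw [MonoidHom.comp_apply, QuotientGroup.mk'_apply, QuotientGroup.eq_one_iff, mem_map]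
  constructor
  · rintro ⟨⟨x, hx⟩, hxN, he⟩
    rw [mem_subgroupOf] at hxN
    have h1 : (⟨x, hx⟩ : S)⁻¹ * ⟨s, hs⟩ ∈ commutator S := by
      rw [← Abelianization.ker_of, MonoidHom.mem_ker, map_mul, map_inv, he, inv_mul_cancel]
    have h2 := hc h1
    rw [mem_subgroupOf] at h2
    have h3 : x⁻¹ * s ∈ N := h2
    have := N.mul_mem hxN h3
    rwa [mul_inv_cancel_left] at this
  · intro h
    exact ⟨⟨s, hs⟩, mem_subgroupOf.2 h, rfl⟩

section mods

variable (H : Dat PP t K U Us T W X)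
include H

theorem t_Us : t ∉ Us := fun h => H.t_K (H.U_K (H.CUs t h rfl))

/-- `U` is normal in `T`. -/
theorem U_norm {x u : G} (hx : x ∈ T) (hu : u ∈ U) : x * u * x⁻¹ ∈ U := by
  apply H.CUs _ (H.T_Us x hx u (H.U_Us hu))
  have h1 := H.T_t _ (H.U_T hu)
  have h2 := H.T_t _ hx
  have c1 : Commute x t := h2
  have c2 : Commute u t := h1
  exact ((c1.mul_left c2).mul_left c1.inv_left).eq

/-- Commutators of elements of `T` lie in `U`. -/
theorem comm_U {a b : G} (ha : a ∈ T) (hb : b ∈ T) : a * b * a⁻¹ * b⁻¹ ∈ U := by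
  obtain ⟨y, hy, hcyc⟩ := H.cyc
  have key : ∀ x ∈ T, ∃ i : ℤ, ∃ u ∈ U, x = y ^ i * u ∨ x = y ^ i * t * u := by
    intro x hx
    obtain ⟨i, h | h⟩ := hcyc x hx
    · exact ⟨-i, _, h, Or.inl (by rw [zpow_neg, inv_mul_cancel_left])⟩
    · refine ⟨-i, _, h, Or.inr ?_⟩
      have e : y ^ (-i) * t * (t * (y ^ i * x)) = y ^ (-i) * (t * t) * (y ^ i * x) := by group
      rw [e, H.tt, mul_one, zpow_neg, inv_mul_cancel_left]
  -- work in `T / U`
  have hn : (U.subgroupOf T).Normal := by
    constructor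
    rintro ⟨u, hu⟩ hu' ⟨x, hx⟩
    rw [mem_subgroupOf] at hu' ⊢
    exact U_norm H hx hu'
  set f : T →* T ⧸ U.subgroupOf T := QuotientGroup.mk' _ with hf
  have hfu : ∀ (u : G) (hu : u ∈ U), f ⟨u, H.U_T hu⟩ = 1 := by
    intro u hu
    rw [hf, QuotientGroup.mk'_apply, QuotientGroup.eq_one_iff, mem_subgroupOf]
    exact hu
  have hft : ∀ q : T ⧸ U.subgroupOf T, f ⟨t, H.t_T⟩ * q = q * f ⟨t, H.t_T⟩ := by
    intro q
    obtain ⟨⟨x, hx⟩, rfl⟩ := QuotientGroup.mk'_surjective _ q
    rw [← map_mul, ← map_mul]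
    congr 1
    exact Subtype.ext (H.T_t x hx).symm
  have hval : ∀ x (hx : x ∈ T), ∃ i : ℤ, f ⟨x, hx⟩ = f ⟨y, hy⟩ ^ i ∨
      f ⟨x, hx⟩ = f ⟨y, hy⟩ ^ i * f ⟨t, H.t_T⟩ := by
    intro x hx
    obtain ⟨i, u, hu, h | h⟩ := key x hx
    · refine ⟨i, Or.inl ?_⟩
      have e : (⟨x, hx⟩ : T) = ⟨y, hy⟩ ^ i * ⟨u, H.U_T hu⟩ := Subtype.ext (by simpa using h)
      rw [e, map_mul, hfu u hu, mul_one, map_zpow]
    · refine ⟨i, Or.inr ?_⟩
      have e : (⟨x, hx⟩ : T) = ⟨y, hy⟩ ^ i * ⟨t, H.t_T⟩ * ⟨u, H.U_T hu⟩ := Subtype.ext (by simpa using h)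
      rw [e, map_mul, hfu u hu, mul_one, map_mul, map_zpow]
  have hcomm : Commute (f ⟨a, ha⟩) (f ⟨b, hb⟩) := by
    have ct : ∀ q, Commute (f ⟨t, H.t_T⟩) q := hft
    have cy : ∀ i j : ℤ, Commute (f ⟨y, hy⟩ ^ i) (f ⟨y, hy⟩ ^ j) := fun i j =>
      (Commute.refl _).zpow_zpow i j
    obtain ⟨i, h | h⟩ := hval a ha <;> obtain ⟨j, h' | h'⟩ := hval b hb <;> rw [h, h']
    · exact cy i j
    · exact (cy i j).mul_right (ct _).symm
    · exact (cy i j).mul_left (ct _)
    · exact ((cy i j).mul_right (ct _).symm).mul_left (ct _)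
  have h1 : f (⟨a, ha⟩ * ⟨b, hb⟩ * ⟨a, ha⟩⁻¹ * ⟨b, hb⟩⁻¹) = 1 := by
    rw [map_mul, map_mul, map_mul, map_inv, map_inv, hcomm.eq]
    group
  rw [hf, QuotientGroup.mk'_apply, QuotientGroup.eq_one_iff, mem_subgroupOf] at h1
  exact h1

/-- Two elements of `T` of order at most two modulo `U` and outside `⟨t⟩U` agree modulo `⟨t⟩U`. -/
theorem two_elts {g x : G} (hg : g ∈ T) (hx : x ∈ T) (hgg : g * g ∈ U) (hxx : x * x ∈ U)
    (hg1 : g ∉ U) (hg2 : t * g ∉ U) : x ∈ U ∨ t * x ∈ U ∨ g * x ∈ U ∨ t * g * x ∈ U := by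
  classical
  obtain ⟨y, hy, hcyc⟩ := H.cyc
  -- the subgroup `V = U ⟨t⟩` of `T`
  let V : Subgroup T :=
    { carrier := {z | (z : G) ∈ U ∨ t * (z : G) ∈ U}
      one_mem' := Or.inl U.one_mem
      mul_mem' := by
        rintro ⟨a, ha⟩ ⟨b, hb⟩ h1 h2
        have hta := H.T_t a ha
        rcases h1 with h1 | h1 <;> rcases h2 with h2 | h2
        · exact Or.inl (U.mul_mem h1 h2)
        · refine Or.inr ?_
          have e : t * (a * b) = a * (t * b) := by rw [← mul_assoc, ← hta, mul_assoc]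
          show t * (a * b) ∈ U
          rw [e]; exact U.mul_mem h1 h2
        · refine Or.inr ?_
          show t * (a * b) ∈ U
          rw [← mul_assoc]; exact U.mul_mem h1 h2
        · refine Or.inl ?_
          have e : a * b = (t * a) * (t * b) := by
            calc a * b = a * (t * t) * b := by rw [H.tt, mul_one]
              _ = (a * t) * (t * b) := by group
              _ = (t * a) * (t * b) := by rw [hta]
          show a * b ∈ U
          rw [e]; exact U.mul_mem h1 h2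
      inv_mem' := by
        rintro ⟨a, ha⟩ h1
        have hta := H.T_t a ha
        rcases h1 with h1 | h1
        · exact Or.inl (U.inv_mem h1)
        · refine Or.inr ?_
          have e : t * a⁻¹ = (t * a)⁻¹ := by
            have ht : t⁻¹ = t := inv_eq_of_mul_eq_one_left H.tt
            rw [← hta, mul_inv_rev, ht]
          show t * a⁻¹ ∈ U
          rw [e]; exact U.inv_mem h1 }
  have hV : ∀ z : T, z ∈ V ↔ ((z : G) ∈ U ∨ t * (z : G) ∈ U) := fun z => Iff.rfl
  have hn : V.Normal := by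
    constructor
    rintro ⟨u, hu⟩ hu' ⟨z, hz⟩
    rw [hV] at hu' ⊢
    rcases hu' with h | h
    · exact Or.inl (U_norm H hz h)
    · refine Or.inr ?_
      have e : t * (z * u * z⁻¹) = z * (t * u) * z⁻¹ := by
        rw [← mul_assoc, ← mul_assoc, ← H.T_t z hz]; group
      show t * (z * u * z⁻¹) ∈ U
      rw [e]
      exact U_norm H hz h
  set f : T →* T ⧸ V := QuotientGroup.mk' _ with hf
  have hf1 : ∀ (z : T), f z = 1 ↔ ((z : G) ∈ U ∨ t * (z : G) ∈ U) := by
    intro z
    rw [hf, QuotientGroup.mk'_apply, QuotientGroup.eq_one_iff, hV]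
  have hcycQ : ∀ q : T ⧸ V, ∃ i : ℤ, q = f ⟨y, hy⟩ ^ i := by
    intro q
    obtain ⟨⟨z, hz⟩, rfl⟩ := QuotientGroup.mk'_surjective _ q
    obtain ⟨i, h⟩ := hcyc z hz
    refine ⟨-i, ?_⟩
    have h1 : f (⟨y, hy⟩ ^ i * ⟨z, hz⟩) = 1 := by
      rw [hf1]
      simpa using h
    rw [map_mul, map_zpow] at h1
    rw [zpow_neg]
    exact (inv_eq_of_mul_eq_one_right h1).symm
  -- orders
  obtain ⟨i, hi⟩ := hcycQ (f ⟨g, hg⟩)
  obtain ⟨j, hj⟩ := hcycQ (f ⟨x, hx⟩)
  have hg0 : f ⟨g, hg⟩ ≠ 1 := by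
    rw [Ne, hf1]
    rintro (h | h)
    · exact hg1 h
    · exact hg2 h
  have hg3 : f ⟨g, hg⟩ * f ⟨g, hg⟩ = 1 := by
    rw [← map_mul, hf1]; exact Or.inl hgg
  have hx3 : f ⟨x, hx⟩ * f ⟨x, hx⟩ = 1 := by
    rw [← map_mul, hf1]; exact Or.inl hxx
  set c := f ⟨y, hy⟩ with hc
  have key : f ⟨x, hx⟩ = 1 ∨ f ⟨g, hg⟩ * f ⟨x, hx⟩ = 1 := by
    rw [hi] at hg0 hg3 ⊢
    rw [hj] at hx3 ⊢
    rw [← zpow_add, ← orderOf_dvd_iff_zpow_eq_one] at hg3 hx3
    rw [Ne, ← orderOf_dvd_iff_zpow_eq_one] at hg0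
    rw [← zpow_add, ← orderOf_dvd_iff_zpow_eq_one, ← orderOf_dvd_iff_zpow_eq_one]
    obtain ⟨a, ha⟩ := hg3
    obtain ⟨b, hb⟩ := hx3
    have hd : (orderOf c : ℤ) * a = 2 * i := by linarith
    have hd' : (orderOf c : ℤ) * b = 2 * j := by linarith
    have ha2 : a % 2 = 1 := by
      rcases Int.emod_two_eq_zero_or_one a with h | h
      · exfalso
        apply hg0
        refine ⟨a / 2, ?_⟩
        have : a = 2 * (a / 2) := by omega
        rw [this] at hd
        nlinarith
      · exact h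
    rcases Int.emod_two_eq_zero_or_one b with h | h
    · left
      refine ⟨b / 2, ?_⟩
      have : b = 2 * (b / 2) := by omega
      rw [this] at hd'
      nlinarith
    · right
      refine ⟨(a + b) / 2, ?_⟩
      have : a + b = 2 * ((a + b) / 2) := by omega
      have h2 : (orderOf c : ℤ) * (a + b) = 2 * (i + j) := by linarith
      rw [this] at h2
      nlinarith
  rcases key with h | h
  · rw [hf1] at h
    rcases h with h | h
    · exact Or.inl h
    · exact Or.inr (Or.inl h)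
  · rw [← map_mul, hf1] at h
    rcases h with h | h
    · exact Or.inr (Or.inr (Or.inl h))
    · refine Or.inr (Or.inr (Or.inr ?_))
      have e : t * g * x = t * (g * x) := mul_assoc _ _ _
      rw [e]; exact h

end mods

/-- `S = Us T`. -/
def SS (H : Dat PP t K U Us T W X) : Subgroup G where
  carrier := {s | ∃ u ∈ Us, ∃ x ∈ T, s = u * x}
  one_mem' := ⟨1, Us.one_mem, 1, T.one_mem, by simp⟩
  mul_mem' := by
    rintro _ _ ⟨u, hu, x, hx, rfl⟩ ⟨v, hv, y, hy, rfl⟩
    refine ⟨u * (x * v * x⁻¹), Us.mul_mem hu (H.T_Us x hx v hv), x * y, T.mul_mem hx hy, ?_⟩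
    group
  inv_mem' := by
    rintro _ ⟨u, hu, x, hx, rfl⟩
    refine ⟨x⁻¹ * u⁻¹ * x, ?_, x⁻¹, T.inv_mem hx, by group⟩
    have := H.T_Us x⁻¹ (T.inv_mem hx) u⁻¹ (Us.inv_mem hu)
    rwa [inv_inv] at this

theorem mem_SS (H : Dat PP t K U Us T W X) {s : G} : s ∈ SS H ↔ ∃ u ∈ Us, ∃ x ∈ T, s = u * x := Iff.rfl

theorem Us_SS (H : Dat PP t K U Us T W X) : Us ≤ SS H := fun u hu => ⟨u, hu, 1, T.one_mem, by simp⟩

theorem T_SS (H : Dat PP t K U Us T W X) : T ≤ SS H := fun x hx => ⟨1, Us.one_mem, x, hx, by simp⟩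

theorem SS_two [Finite G] (H : Dat PP t K U Us T W X) : IsPGroup 2 (SS H) := by
  have hle : SS H ≤ Us ⊔ T := by
    rintro _ ⟨u, hu, x, hx, rfl⟩
    exact mul_mem (mem_sup_left hu) (mem_sup_right hx)
  have hTN : T ≤ normalizer (Us : Set G) := by
    intro x hx
    exact Claim.mem_norm (fun y hy => H.T_Us x hx y hy)
  exact (IsPGroup.to_sup_of_normal_left' H.Us2 H.T2 hTN).to_le hle

/-- `C_S(t) = T`. -/
theorem CS (H : Dat PP t K U Us T W X) {s : G} (hs : s ∈ SS H) (h : s * t = t * s) : s ∈ T := by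
  obtain ⟨u, hu, x, hx, rfl⟩ := hs
  have h1 : u * t = t * u := by
    have h2 := H.T_t x hx
    have c1 : Commute (u * x) t := h
    have c2 : Commute x t := h2
    have c3 : Commute (u * x * x⁻¹) t := c1.mul_left c2.inv_left
    rw [mul_inv_cancel_right] at c3
    exact c3.eq
  exact T.mul_mem (H.U_T (H.CUs u hu h1)) hx

/-- Membership modulo `Us`: for `g ∈ T` and `s = u x ∈ S`, `g s ∈ Us ↔ g x ∈ U`. -/
theorem mem_Us_iff (H : Dat PP t K U Us T W X) {g u x : G} (hg : g ∈ T) (hu : u ∈ Us) (hx : x ∈ T) :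
    g * (u * x) ∈ Us ↔ g * x ∈ U := by
  have e : g * (u * x) = (g * u * g⁻¹) * (g * x) := by group
  constructor
  · intro h
    rw [e] at h
    have h1 : g * x ∈ Us := by
      have := Us.mul_mem (Us.inv_mem (H.T_Us g hg u hu)) h
      rwa [inv_mul_cancel_left] at this
    exact H.CUs _ h1 (H.T_t _ (T.mul_mem hg hx))
  · intro h
    rw [e]
    exact Us.mul_mem (H.T_Us g hg u hu) (H.U_Us h)

theorem comm_SS (H : Dat PP t K U Us T W X) {a b : G} (ha : a ∈ SS H) (hb : b ∈ SS H) :
    a * b * a⁻¹ * b⁻¹ ∈ Us := by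
  obtain ⟨u, hu, x, hx, rfl⟩ := ha
  obtain ⟨v, hv, y, hy, rfl⟩ := hb
  have h1 := H.T_Us
  -- all in `Us` modulo `T`-commutators
  have e : u * x * (v * y) * (u * x)⁻¹ * (v * y)⁻¹ =
      u * (x * v * x⁻¹) * ((x * y * x⁻¹) * u⁻¹ * (x * y * x⁻¹)⁻¹) * (x * y * x⁻¹ * y⁻¹) * v⁻¹ := by
    group
  rw [e]
  refine Us.mul_mem (Us.mul_mem (Us.mul_mem (Us.mul_mem hu (h1 x hx v hv)) ?_) ?_) (Us.inv_mem hv)
  · exact h1 _ (T.mul_mem (T.mul_mem hx hy) (T.inv_mem hx)) _ (Us.inv_mem hu)
  · exact H.U_Us (comm_U H hx hy)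

/-- The image of an involution of `S` in `S/Us = T/U`. -/
theorem invol (H : Dat PP t K U Us T W X) {s u x : G} (hu : u ∈ Us) (hx : x ∈ T) (hs : s = u * x)
    (hss : s * s = 1) : x * x ∈ U := by
  subst hs
  have e : u * x * (u * x) = u * (x * u * x⁻¹) * (x * x) := by group
  rw [e] at hss
  have h1 : x * x = (u * (x * u * x⁻¹))⁻¹ := (inv_eq_of_mul_eq_one_right hss).symm
  have h2 : x * x ∈ Us := by
    rw [h1]; exact Us.inv_mem (Us.mul_mem hu (H.T_Us x hx u hu))
  exact H.CUs _ h2 (H.T_t _ (T.mul_mem hx hx))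

/-- The conclusion of (f3). -/
theorem hf3 [Finite G] (H : Dat PP t K U Us T W X) (g : G) (h1 : ∀ w ∈ W, g * w * g⁻¹ ∈ T)
    (h2 : ∀ w ∈ W, ∀ p ∈ P0 PP K U, g * w * g⁻¹ * p = p * (g * w * g⁻¹)) :
    ∃ w ∈ W, g * w * g⁻¹ = t := by
  classical
  by_contra hcon
  push Not at hcon
  -- `Y = W^g ≤ X ∪ tX`
  set Y : Subgroup G := W.map (MulAut.conj g).toMonoidHom with hY
  have hYc : Nat.card Y = Nat.card X ^ 2 := by
    rw [hY, ← H.cardW]
    exact (Nat.card_congr (W.equivMapOfInjective _ (MulAut.conj g).injective).toEquiv).symm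
  have hYX : ∀ y ∈ Y, y ∈ X ∨ t * y ∈ X := by
    rintro _ ⟨w, hw, rfl⟩
    exact H.f3 _ (h1 w hw) (h2 w hw)
  have htY : t ∉ Y := by
    rintro ⟨w, hw, he⟩
    exact hcon w hw he
  have hX1 : 1 < Nat.card X := by
    rw [← not_le]
    intro h
    exact H.X_ne ((Subgroup.card_le_one_iff_eq_bot _).1 h)
  -- `Y ∩ tX` : the map `Y → X`, `y ↦ y` or `t y`, is injective
  have hinj : Function.Injective (fun y : Y => if h : (y : G) ∈ X then (⟨y, h⟩ : X) else
      ⟨t * y, (hYX y y.2).resolve_left h⟩) := by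
    rintro ⟨a, ha⟩ ⟨b, hb⟩ hab
    simp only at hab
    by_cases h1 : a ∈ X <;> by_cases h2 : b ∈ X
    · rw [dif_pos h1, dif_pos h2] at hab
      exact Subtype.ext (congrArg (fun z : X => (z : G)) hab)
    · rw [dif_pos h1, dif_neg h2] at hab
      have h3 : a = t * b := congrArg (fun z : X => (z : G)) hab
      exfalso; apply htY
      have := Y.mul_mem ha (Y.inv_mem hb)
      rw [h3, mul_inv_cancel_right] at this
      exact this
    · rw [dif_neg h1, dif_pos h2] at hab
      have h3 : t * a = b := congrArg (fun z : X => (z : G)) hab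
      exfalso; apply htY
      have := Y.mul_mem hb (Y.inv_mem ha)
      rw [← h3, mul_inv_cancel_right] at this
      exact this
    · rw [dif_neg h1, dif_neg h2] at hab
      have h3 : t * a = t * b := congrArg (fun z : X => (z : G)) hab
      exact Subtype.ext (mul_left_cancel h3)
  have h3 := Nat.card_le_card_of_injective _ hinj
  rw [hYc] at h3
  nlinarith

/-- **The end.** -/
theorem false_of [Finite G] (hG : commutator G = ⊤) (H : Dat PP t K U Us T W X) : False := by
  classical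
  have hWu : ∀ u ∈ Us, ∀ w ∈ W, w * u = u * w := fun u hu w hw => H.W_cent w hw u hu
  -- products `u x` with `x ∈ T`
  have hprod : ∀ {u x : G}, u ∈ Us → (∀ w ∈ W, w * x = x * w) → ∀ w ∈ W, w * (u * x) = u * x * w := by
    intro u x hu hx w hw
    have c1 : Commute w u := hWu u hu w hw
    have c2 : Commute w x := hx w hw
    exact (c1.mul_right c2).eq
  have hprod' : ∀ {u x : G}, u ∈ Us → (∀ w ∈ W, w * (u * x) = u * x * w) → ∀ w ∈ W, w * x = x * w := by
    intro u x hu hx w hw
    have c1 : Commute w u := hWu u hu w hw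
    have c2 : Commute w (u * x) := hx w hw
    have c3 := c1.inv_right.mul_right c2
    rw [inv_mul_cancel_left] at c3
    exact c3.eq
  by_cases hg : ∃ g ∈ T, g * g ∈ U ∧ g ∉ U ∧ t * g ∉ U
  · -- there is a further involution in `T/U`
    obtain ⟨g, hgT, hgg, hg1, hg2, hgW⟩ : ∃ g ∈ T, g * g ∈ U ∧ g ∉ U ∧ t * g ∉ U ∧
        ∀ w ∈ W, w * g = g * w := by
      obtain ⟨g, hgT, hgg, hg1, hg2⟩ := hg
      rcases H.c01 g hgT hgg with h | h
      · exact ⟨g, hgT, hgg, hg1, hg2, h⟩
      · refine ⟨t * g, T.mul_mem H.t_T hgT, ?_, hg2, ?_, h⟩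
        · have e : t * g * (t * g) = g * g := by
            calc t * g * (t * g) = t * (g * t) * g := by group
              _ = t * (t * g) * g := by rw [H.T_t g hgT]
              _ = (t * t) * (g * g) := by group
              _ = g * g := by rw [H.tt, one_mul]
          rw [e]; exact hgg
        · rw [← mul_assoc, H.tt, one_mul]; exact hg1
    set r := t * g with hr
    have hrT : r ∈ T := T.mul_mem H.t_T hgT
    have hrr : r * r ∈ U := by
      have e : t * g * (t * g) = g * g := by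
        calc t * g * (t * g) = t * (g * t) * g := by group
          _ = t * (t * g) * g := by rw [H.T_t g hgT]
          _ = (t * t) * (g * g) := by group
          _ = g * g := by rw [H.tt, one_mul]
      rw [hr, e]; exact hgg
    -- `N = Us ∪ r Us`
    let N : Subgroup G :=
      { carrier := {s | s ∈ Us ∨ r * s ∈ Us}
        one_mem' := Or.inl Us.one_mem
        mul_mem' := by
          intro a b h1 h2
          have hn : ∀ y ∈ Us, r * y * r⁻¹ ∈ Us := H.T_Us r hrT
          have hn' : ∀ y ∈ Us, r⁻¹ * y * r ∈ Us := by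
            intro y hy
            have := H.T_Us r⁻¹ (T.inv_mem hrT) y hy
            rwa [inv_inv] at this
          rcases h1 with h1 | h1 <;> rcases h2 with h2 | h2
          · exact Or.inl (Us.mul_mem h1 h2)
          · refine Or.inr ?_
            have e : r * (a * b) = (r * a * r⁻¹) * (r * b) := by group
            show r * (a * b) ∈ Us
            rw [e]; exact Us.mul_mem (hn a h1) h2
          · refine Or.inr ?_
            show r * (a * b) ∈ Us
            rw [← mul_assoc]; exact Us.mul_mem h1 h2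
          · refine Or.inl ?_
            have e : a * b = (r⁻¹ * (r * a) * r) * (r * r)⁻¹ * (r * b) := by group
            show a * b ∈ Us
            rw [e]
            exact Us.mul_mem (Us.mul_mem (hn' _ h1) (Us.inv_mem (H.U_Us hrr))) h2
        inv_mem' := by
          intro a h1
          have hn' : ∀ y ∈ Us, r⁻¹ * y * r ∈ Us := by
            intro y hy
            have := H.T_Us r⁻¹ (T.inv_mem hrT) y hy
            rwa [inv_inv] at this
          rcases h1 with h1 | h1
          · exact Or.inl (Us.inv_mem h1)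
          · refine Or.inr ?_
            show r * a⁻¹ ∈ Us
            have e : r * a⁻¹ = r * (r * a)⁻¹ * r⁻¹ * (r * r) := by group
            rw [e]
            exact Us.mul_mem (H.T_Us r hrT _ (Us.inv_mem h1)) (H.U_Us hrr) }
    have hN : ∀ s, s ∈ N ↔ (s ∈ Us ∨ r * s ∈ Us) := fun s => Iff.rfl
    have hNS : N ≤ SS H := by
      intro s hs
      rcases hs with h | h
      · exact Us_SS H h
      · have h1 := (SS H).mul_mem ((SS H).inv_mem (T_SS H hrT)) (Us_SS H h)
        rwa [inv_mul_cancel_left] at h1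
    obtain ⟨A, _, mu, hmu⟩ := exists_mu (S := SS H) N
      (fun a ha b hb => Or.inl (comm_SS H ha hb)) hNS
    -- the four cosets
    have four : ∀ s ∈ SS H, s * s = 1 → s ∈ Us ∨ t * s ∈ Us ∨ g * s ∈ Us ∨ r * s ∈ Us := by
      rintro s ⟨u, hu, x, hx, rfl⟩ hss
      have hxx := invol H hu hx rfl hss
      rcases two_elts H hgT hx hgg hxx hg1 hg2 with h | h | h | h
      · exact Or.inl (Us.mul_mem hu (H.U_Us h))
      · exact Or.inr (Or.inl ((mem_Us_iff H H.t_T hu hx).2 h))
      · exact Or.inr (Or.inr (Or.inl ((mem_Us_iff H hgT hu hx).2 h)))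
      · exact Or.inr (Or.inr (Or.inr ((mem_Us_iff H hrT hu hx).2 h)))
    -- an involution not centralising `W`, not in `tUs`, lies in `r Us`
    have inR : ∀ s ∈ SS H, s * s = 1 → (∃ w ∈ W, w * s ≠ s * w) → t * s ∉ Us → r * s ∈ Us := by
      intro s hs hss ⟨w, hw, hws⟩ hts
      rcases four s hs hss with h | h | h | h
      · exact absurd (hWu s h w hw) hws
      · exact absurd h hts
      · exfalso; apply hws
        have c1 : Commute w (g * s) := hWu _ h w hw
        have c2 : Commute w g := hgW w hw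
        have c3 := c2.inv_right.mul_right c1
        rw [inv_mul_cancel_left] at c3
        exact c3.eq
      · exact h
    have HH : Hyp PP t K U Us T W (SS H) mu :=
      { tt := H.tt
        K_t := H.K_t
        hconj := H.hconj
        hS := H.hS
        t_K := H.t_K
        T_S := T_SS H
        Us_S := Us_SS H
        U_Us := H.U_Us
        W_Us := H.W_Us
        W_cent := H.W_cent
        hU := H.hU
        CS := fun x hx h => CS H hx h
        mu_Us := fun x hx => (hmu x _).2 (Or.inl hx)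
        hfree := H.hfree
        hf3 := hf3 H
        hkey := by
          intro u p hu hp huu hpp hup hmuu hWu' hWp htp
          have h1 := inR p hp hpp hWp htp
          have h2 : u ∉ N := fun h => hmuu ((hmu u hu).2 h)
          rw [hN] at h2
          push Not at h2
          have h3 : g * u ∈ Us := by
            rcases four u hu huu with h | h | h | h
            · exact absurd h h2.1
            · exfalso
              -- `t` centralises `W`, so `p ∈ r Us` does
              obtain ⟨w, hw, hwp⟩ := hWp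
              apply hwp
              have c1 : Commute w (t * u) := hWu _ h w hw
              have c2 : Commute w u := hWu' w hw
              have c3 : Commute w t := by
                have := c1.mul_right c2.inv_right
                rwa [mul_inv_cancel_right] at this
              have c4 : Commute w g := hgW w hw
              have c5 : Commute w (r * p) := hWu _ h1 w hw
              have c6 : Commute w r := c3.mul_right c4
              have c7 := c6.inv_right.mul_right c5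
              rw [inv_mul_cancel_left] at c7
              exact c7.eq
            · exact h
            · exact absurd h h2.2
          -- `t p u = (g⁻¹ (r p) ...)`
          obtain ⟨v, hv, y, hy, rfl⟩ := hu
          obtain ⟨v', hv', y', hy', rfl⟩ := hp
          rw [mem_Us_iff H hgT hv hy] at h3
          rw [mem_Us_iff H hrT hv' hy'] at h1
          have e : v' * y' * (v * y) = (v' * (y' * v * y'⁻¹)) * (y' * y) := by group
          rw [e, mem_Us_iff H H.t_T (Us.mul_mem hv' (H.T_Us y' hy' v hv)) (T.mul_mem hy' hy)]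
          -- `t y' y = (t g) y' · (g y) · …`
          have hc := comm_U H (T.inv_mem hgT) (T.mul_mem (T.mul_mem H.t_T hgT) hy')
          -- `t * (y' * y) = g⁻¹ * (t g y') * y = (g⁻¹ (t g y') g) * (g⁻¹ y)`
          have e2 : t * (y' * y) =
              (g⁻¹ * (t * g * y') * g⁻¹⁻¹ * (t * g * y')⁻¹) * (t * g * y') * ((g * g)⁻¹ * (g * y)) *
                1 := by
            have ht : t * g = g * t := (H.T_t g hgT).symm
            have e3 : g⁻¹ * (t * g * y') * g⁻¹⁻¹ * (t * g * y')⁻¹ * (t * g * y') = g⁻¹ * (t * g) * y' * g := by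
              group
            rw [e3, ht]
            group
          rw [e2, mul_one]
          exact U.mul_mem (U.mul_mem hc h1) (U.mul_mem (U.inv_mem hgg) h3) }
    refine TwClaim.false_of hG HH H.t_T (SS_two H) H.T_t H.hodd ?_ ?_
    · intro u hu huu hWu' htu
      rw [hmu]
      exact Or.inr (inR u hu huu hWu' htu)
    · rw [Ne, hmu, hN]
      rintro (h | h)
      · exact t_Us H h
      · -- `r t = g`
        have e : r * t = g := by
          rw [hr, mul_assoc, H.T_t g hgT, ← mul_assoc, H.tt, one_mul]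
        rw [e] at h
        exact hg1 (H.CUs g h (H.T_t g hgT))
  · -- `t` is the only involution of `T/U`
    push Not at hg
    obtain ⟨A, _, mu, hmu⟩ := exists_mu (S := SS H) Us (fun a ha b hb => comm_SS H ha hb) (Us_SS H)
    have two : ∀ s ∈ SS H, s * s = 1 → s ∈ Us ∨ t * s ∈ Us := by
      rintro s ⟨u, hu, x, hx, rfl⟩ hss
      have hxx := invol H hu hx rfl hss
      by_cases h : x ∈ U
      · exact Or.inl (Us.mul_mem hu (H.U_Us h))
      · exact Or.inr ((mem_Us_iff H H.t_T hu hx).2 (hg x hx hxx h))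
    have no : ∀ s ∈ SS H, s * s = 1 → (∃ w ∈ W, w * s ≠ s * w) → t * s ∉ Us → False := by
      intro s hs hss ⟨w, hw, hws⟩ hts
      rcases two s hs hss with h | h
      · exact hws (hWu s h w hw)
      · exact hts h
    have HH : Hyp PP t K U Us T W (SS H) mu :=
      { tt := H.tt
        K_t := H.K_t
        hconj := H.hconj
        hS := H.hS
        t_K := H.t_K
        T_S := T_SS H
        Us_S := Us_SS H
        U_Us := H.U_Us
        W_Us := H.W_Us
        W_cent := H.W_cent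
        hU := H.hU
        CS := fun x hx h => CS H hx h
        mu_Us := fun x hx => (hmu x _).2 hx
        hfree := H.hfree
        hf3 := hf3 H
        hkey := fun u p hu hp huu hpp hup hmuu hWu' hWp htp => (no p hp hpp hWp htp).elim }
    refine TwClaim.false_of hG HH H.t_T (SS_two H) H.T_t H.hodd ?_ ?_
    · intro u hu huu hWu' htu
      exact (no u hu huu hWu' htu).elim
    · rw [Ne, hmu]
      exact t_Us H

end Cfsg.Agent.OddHalf.D7Out.TwEnd
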