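import Mathlib
import Cfsg.Agent.KFacts.Unit.PZero
import Cfsg.Agent.OddHalf.D7Out.TwEnd

/-!
# The fields `hconj`, `hS`, `f3` of `TwEnd.Dat` for the class `OddGen` (helper552; ODD D7, outer 2-part, piece O9)

`hconj`, `hS`: the class of the subgroups generated by elements of odd order, any `K` (from `cyc`).
`f3_U`: an element of `C(t)` normalising `K ≅ PSU n F q` and centralising `P0` lies in `⟨t⟩ RR u`.
-/

set_option autoImplicit false

namespace Cfsg.Agent.OddHalf.D7Out.PZeroU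

open Cfsg Subgroup
open Cfsg.Agent.OddHalf.D7Out.OddGen Cfsg.Agent.OddHalf.D7Out.TwClaim

variable {G : Type*} [Group G]

/-- `OddGen` is closed under conjugation. -/
theorem hconj (P : Subgroup G) (g : G) (h : OddGen P) : OddGen (P.map (MulAut.conj g).toMonoidHom) := h.conj g

/-- **The field `hS`.** -/
theorem hS [Finite G] {t : G} {K U T : Subgroup G} (tt : t * t = 1) (tK : t ∉ K)
    (K_t : ∀ x ∈ K, x * t = t * x) (hKn : ∀ c, c * t = t * c → ∀ x ∈ K, c * x * c⁻¹ ∈ K)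
    (hT : IsPGroup 2 T) (hTt : ∀ x ∈ T, x * t = t * x) (hodd : ¬ 2 ∣ T.relIndex (centralizer ({t} : Set G)))
    (hUK : U ≤ K) (cyc : ∃ y ∈ T, ∀ x ∈ T, ∃ i : ℤ, y ^ i * x ∈ U ∨ t * (y ^ i * x) ∈ U) :
    ∀ P : Subgroup G, OddGen P → (∀ x ∈ P, x * t = t * x) → ∀ p ∈ P, p * p = 1 → p ∈ K := by
  intro P hP hPt p hp hpp
  obtain ⟨y, hy, hcyc⟩ := cyc
  refine mem_of_oddGen tt tK K_t hKn hT hTt hodd hy ?_ hP hPt hp (k := 1) (by rw [pow_one, pow_two, hpp])
  intro x hx
  obtain ⟨i, h | h⟩ := hcyc x hx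
  · have e : x = y ^ (-i) * (y ^ i * x) := by group
    rw [e]
    exact mul_mem (mem_sup_left (zpow_mem (mem_zpowers y) _)) (mem_sup_right (mem_sup_right (hUK h)))
  · have e : x = y ^ (-i) * (t⁻¹ * (t * (y ^ i * x))) := by group
    rw [e]
    exact mul_mem (mem_sup_left (zpow_mem (mem_zpowers y) _))
      (mem_sup_right (mul_mem (mem_sup_left (inv_mem (mem_zpowers t))) (mem_sup_right (hUK h))))

/-! ### A general lemma: centralising a subgroup with known automorphism centraliser -/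

/-- If `x ∈ C(t)` normalises `K ≅ Y`, centralises the image of `Q ≤ Y` and every automorphism of `Y` trivial on `Q` is
conjugation by an element of `R`, then `x` or `t x` lies in the image of `R`. -/
theorem mem_of_aut [Finite G] {Y : Type*} [Group Y] {t x : G} {K : Subgroup G} (e : Y ≃* K) {Q R : Subgroup Y}
    (hx : ∀ k ∈ K, x * k * x⁻¹ ∈ K) (hxt : x * t = t * x) (K_t : ∀ k ∈ K, k * t = t * k) (tt : t * t = 1)
    (hC : ∀ z : G, z * t = t * z → (∀ k ∈ K, z * k = k * z) → z = 1 ∨ z = t)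
    (hQ : ∀ y ∈ Q, x * (e y : G) = (e y : G) * x)
    (hR : ∀ α : MulAut Y, (∀ y ∈ Q, α y = y) → ∃ z ∈ R, α = MulAut.conj z) :
    ∃ z ∈ R, x = (e z : G) ∨ t * x = (e z : G) := by
  have hxn : x ∈ normalizer (K : Set G) := Claim.mem_norm hx
  let α' : MulAut K := K.normalizerMonoidHom ⟨x, hxn⟩
  have hα' : ∀ k : K, (α' k : G) = x * k * x⁻¹ := fun k => rfl
  let α : MulAut Y := (e.trans α').trans e.symm
  have hα : ∀ y : Y, (e (α y) : G) = x * (e y : G) * x⁻¹ := by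
    intro y
    have : e (α y) = α' (e y) := by
      show e (e.symm (α' (e y))) = _
      rw [e.apply_symm_apply]
    rw [this, hα']
  obtain ⟨z, hz, hαz⟩ := hR α (by
    intro y hy
    apply e.injective
    apply Subtype.ext
    rw [hα, hQ y hy, mul_inv_cancel_right])
  have h1 : ∀ k ∈ K, ((e z : G)⁻¹ * x) * k = k * ((e z : G)⁻¹ * x) := by
    intro k hk
    obtain ⟨y, hy⟩ := e.surjective ⟨k, hk⟩
    have hy' : (e y : G) = k := congrArg Subtype.val hy
    have h2 := hα y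
    rw [hαz, MulAut.conj_apply, map_mul, map_mul, map_inv, hy'] at h2
    have h3 : (e z : G) * k * (e z : G)⁻¹ = x * k * x⁻¹ := by
      rw [← h2, ← hy']; rfl
    calc ((e z : G)⁻¹ * x) * k = (e z : G)⁻¹ * (x * k * x⁻¹) * x := by group
      _ = (e z : G)⁻¹ * ((e z : G) * k * (e z : G)⁻¹) * x := by rw [h3]
      _ = k * ((e z : G)⁻¹ * x) := by group
  have hzt : (e z : G) * t = t * (e z : G) := K_t _ (e z).2
  have h2 : ((e z : G)⁻¹ * x) * t = t * ((e z : G)⁻¹ * x) := by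
    have c1 : Commute (e z : G) t := hzt
    have c2 : Commute x t := hxt
    exact (c1.inv_left.mul_left c2).eq
  refine ⟨z, hz, ?_⟩
  rcases hC _ h2 h1 with h | h
  · left
    exact (inv_mul_eq_one.1 h).symm
  · right
    have h3 : x = (e z : G) * t := inv_mul_eq_iff_eq_mul.1 h
    rw [h3, hzt, ← mul_assoc, tt, one_mul]

/-! ### The unitary groups -/

section U

open Cfsg.Agent.LieClassical.HermBasic Cfsg.Agent.LieClassical.HermSiegel
  Cfsg.Agent.ClassicalGeometry.PSUAutBasic Cfsg.Agent.ClassicalGeometry.PSUAutSylow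
  Cfsg.Agent.ClassicalGeometry.PSUAutUnip Cfsg.Agent.KFacts.Unit

variable {F : Type*} [Field F] [Fintype F] {q n : ℕ}

/-- An element centralising `P0` centralises `QQ u`. -/
theorem comm_QQ [CharP F 2] (hF : Fintype.card F = q ^ 2) (hn : 6 ≤ n) {u : Fin n → F} (hu0 : u ≠ 0)
    (hu : hermForm n F q u u = 0) {x : G} {K U : Subgroup G} (e : PSU n F q ≃* K)
    (hQU : ∀ y ∈ QQ hF u hu, (e y : G) ∈ U) (h : ∀ p ∈ P0 OddGen K U, x * p = p * x) :
    ∀ y ∈ QQ hF u hu, x * (e y : G) = (e y : G) * x := by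
  let j : PSU n F q →* G := K.subtype.comp e.toMonoidHom
  have hj : ∀ y, j y = (e y : G) := fun y => rfl
  have hjK : ∀ y, j y ∈ K := fun y => (e y).2
  have h1 : QQ hF u hu ≤ (centralizer ({x} : Set G)).comap j := by
    apply PZero.QQ_le hF hn hu0 hu
    intro p hp hpp P hP _ hpP hPc
    rw [mem_comap, mem_centralizer_singleton_iff]
    refine (h (j p) ⟨hQU p hp, by rw [← map_mul, hpp, map_one], P.map j, hP.map j, ?_, ⟨p, hpP, rfl⟩, ?_⟩).symm
    · rintro _ ⟨y, -, rfl⟩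
      exact hjK y
    · rintro _ ⟨y, hy, rfl⟩
      rw [← map_mul, ← map_mul, hPc y hy]
  intro y hy
  exact (mem_centralizer_singleton_iff.1 (h1 hy)).symm

/-- **The field `f3` for `PSU n F q`.** -/
theorem f3_U [Finite G] [CharP F 2] (hF : Fintype.card F = q ^ 2) (hn : 6 ≤ n) {u : Fin n → F} (hu0 : u ≠ 0)
    (hu : hermForm n F q u u = 0) {t : G} {K U T X : Subgroup G} (e : PSU n F q ≃* K) (tt : t * t = 1)
    (K_t : ∀ k ∈ K, k * t = t * k) (hKn : ∀ c, c * t = t * c → ∀ k ∈ K, c * k * c⁻¹ ∈ K)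
    (hC : ∀ z : G, z * t = t * z → (∀ k ∈ K, z * k = k * z) → z = 1 ∨ z = t)
    (T_t : ∀ x ∈ T, x * t = t * x)
    (hQU : ∀ y ∈ QQ hF u hu, (e y : G) ∈ U) (hRX : ∀ y ∈ RR hF u hu, (e y : G) ∈ X) :
    ∀ x ∈ T, (∀ p ∈ P0 OddGen K U, x * p = p * x) → x ∈ X ∨ t * x ∈ X := by
  intro x hx h
  obtain ⟨z, hz, h1⟩ := mem_of_aut e (Q := QQ hF u hu) (R := RR hF u hu) (hKn x (T_t x hx)) (T_t x hx) K_t tt hC
    (comm_QQ hF hn hu0 hu e hQU h) (fun α hα => autCent_point hF (by omega) hu0 hu α hα)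
  rcases h1 with h1 | h1
  · left; rw [h1]; exact hRX z hz
  · right; rw [h1]; exact hRX z hz

end U

end Cfsg.Agent.OddHalf.D7Out.PZeroU
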