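import Mathlib
import Cfsg.Agent.OddHalf.D7Out.TwEnd
import Cfsg.Agent.OddHalf.D7Out.TwChoice

/-!
# Node D7 of S1765: the END for `T = U P` (helper490)

`TwChoice.Out` + the doubled group `Us` + the constant `c` on `P` give `TwEnd.Dat`, hence a contradiction.
-/

set_option autoImplicit false

namespace Cfsg.Agent.OddHalf.D7Out.TwGlue

open Subgroup
open Cfsg.Agent.OddHalf.D7Out.TwClaim (P0)
open Cfsg.Agent.OddHalf.D7Out.TwChoice

universe u

variable {G : Type u} [Group G] {PP : Subgroup G → Prop} {t : G} {K Y U P T Us W X : Subgroup G}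

/-- The remaining input: the doubled group `Us` (normalised by `P`), `W ≤ Z(Us)`, the constant `c` on `P`, `(f3)`. -/
structure Inp (PP : Subgroup G → Prop) (t : G) (K U P T Us W X : Subgroup G) : Prop where
  tt : t * t = 1
  K_t : ∀ x ∈ K, x * t = t * x
  t_K : t ∉ K
  U_K : U ≤ K
  hconj : ∀ (P : Subgroup G) (g : G), PP P → PP (P.map (MulAut.conj g).toMonoidHom)
  hS : ∀ P : Subgroup G, PP P → (∀ x ∈ P, x * t = t * x) → ∀ p ∈ P, p * p = 1 → p ∈ K
  U_Us : U ≤ Us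
  Us2 : IsPGroup 2 Us
  P_Us : ∀ x ∈ P, ∀ y ∈ Us, x * y * x⁻¹ ∈ Us
  CUs : ∀ x ∈ Us, x * t = t * x → x ∈ U
  W_Us : W ≤ Us
  W_cent : ∀ w ∈ W, ∀ x ∈ Us, w * x = x * w
  hfree : ∀ x ∈ Us, t * x * (t * x) = 1 → ∃ y ∈ Us, y * t * y⁻¹ = t * x
  /-- the constant `c` of the involutions `g ∈ P` on `W` is `0` or `1` -/
  c01 : ∀ g ∈ P, g * g = 1 → (∀ w ∈ W, g * w = w * g) ∨ (∀ w ∈ W, t * g * w = w * (t * g))
  f3 : ∀ x ∈ T, (∀ p ∈ P0 PP K U, x * p = p * x) → x ∈ X ∨ t * x ∈ X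
  cardW : Nat.card W = Nat.card X ^ 2
  X_ne : X ≠ ⊥

theorem dat [Finite G] (O : Out t t K Y U P T) (hcyc : CycT t t K) (I : Inp PP t K U P T Us W X) :
    TwEnd.Dat PP t K U Us T W X where
  tt := I.tt
  K_t := I.K_t
  hconj := I.hconj
  hS := I.hS
  t_K := I.t_K
  t_T := O.PT O.vP
  T_t := O.tc
  T2 := O.pT
  hodd := O.odd_relIndex
  U_K := I.U_K
  U_T := O.UT
  hU := fun x hx hT => by rw [← O.TK]; exact ⟨hT, hx⟩
  U_Us := I.U_Us
  Us2 := I.Us2
  T_Us := by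
    intro x hx y hy
    obtain ⟨u, hu, p, hp, rfl⟩ := (O.T_eq x).1 hx
    have h1 := I.P_Us p hp y hy
    have e : u * p * y * (u * p)⁻¹ = u * (p * y * p⁻¹) * u⁻¹ := by group
    rw [e]
    exact Us.mul_mem (Us.mul_mem (I.U_Us hu) h1) (Us.inv_mem (I.U_Us hu))
  CUs := I.CUs
  W_Us := I.W_Us
  W_cent := I.W_cent
  hfree := I.hfree
  cyc := by
    obtain ⟨y, hy, h1⟩ := O.cyc_T hcyc
    refine ⟨y, O.PT hy, fun x hx => ?_⟩
    obtain ⟨i, r, hr, u, hu, rfl⟩ := h1 x hx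
    refine ⟨-i, ?_⟩
    have e : y ^ (-i) * (y ^ i * r * u) = r * u := by
      rw [zpow_neg]; group
    rw [e]
    obtain ⟨j, rfl⟩ := mem_zpowers_iff.1 hr
    rcases Int.even_or_odd' j with ⟨c, rfl | rfl⟩
    · left
      rw [zpow_mul, zpow_ofNat, pow_two, I.tt, one_zpow, one_mul]
      exact hu
    · right
      rw [zpow_add, zpow_mul, zpow_ofNat, pow_two, I.tt, one_zpow, zpow_one, one_mul, ← mul_assoc, I.tt, one_mul]
      exact hu
  c01 := by
    intro g hg hgg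
    have h1 := O.c01 (W := W) (fun u hu w hw => (I.W_cent w hw u (I.U_Us hu)).symm) I.c01 g hg hgg
    rcases h1 with h1 | h1
    · exact Or.inl fun w hw => (h1 w hw).symm
    · exact Or.inr fun w hw => (h1 w hw).symm
  f3 := I.f3
  cardW := I.cardW
  X_ne := I.X_ne

/-- **The END of the outer part.** -/
theorem false_of [Finite G] (hG : commutator G = ⊤) (O : Out t t K Y U P T) (hcyc : CycT t t K)
    (I : Inp PP t K U P T Us W X) : False :=
  TwEnd.false_of hG (dat O hcyc I)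

end Cfsg.Agent.OddHalf.D7Out.TwGlue
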