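import Mathlib
import Cfsg.Agent.OddHalf.D7Out.PZeroU
import Cfsg.Agent.OddHalf.D7Out.TwGlue

/-!
# The field `hS` of `TwGlue.Inp` for the class `OddGen` from `TwChoice.Out` and `CycT` (helper552; piece O9)
-/

set_option autoImplicit false

namespace Cfsg.Agent.OddHalf.D7Out.PZeroOut

open Subgroup
open Cfsg.Agent.OddHalf.D7Out.OddGen Cfsg.Agent.OddHalf.D7Out.TwChoice

variable {G : Type*} [Group G] {t : G} {K Y U P T : Subgroup G}

/-- **The field `hS` from `Out` and `CycT`.** -/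
theorem hS_out [Finite G] (tt : t * t = 1) (K_t : ∀ x ∈ K, x * t = t * x) (t_K : t ∉ K) (U_K : U ≤ K)
    (hKn : ∀ c, c * t = t * c → ∀ x ∈ K, c * x * c⁻¹ ∈ K) (O : Out t t K Y U P T) (hcyc : CycT t t K) :
    ∀ P : Subgroup G, OddGen P → (∀ x ∈ P, x * t = t * x) → ∀ p ∈ P, p * p = 1 → p ∈ K := by
  refine PZeroU.hS (T := T) (U := U) tt t_K K_t hKn O.pT O.tc O.odd_relIndex U_K ?_
  obtain ⟨y, hy, h1⟩ := O.cyc_T hcyc
  refine ⟨y, O.PT hy, fun x hx => ?_⟩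
  obtain ⟨i, r, hr, u, hu, rfl⟩ := h1 x hx
  refine ⟨-i, ?_⟩
  have e : y ^ (-i) * (y ^ i * r * u) = r * u := by
    rw [zpow_neg]; group
  rw [e]
  obtain ⟨j, rfl⟩ := mem_zpowers_iff.1 hr
  rcases Int.even_or_odd' j with ⟨c, rfl | rfl⟩
  · left
    rw [zpow_mul, zpow_ofNat, pow_two, tt, one_zpow, one_mul]
    exact hu
  · right
    rw [zpow_add, zpow_mul, zpow_ofNat, pow_two, tt, one_zpow, zpow_one, one_mul, ← mul_assoc, tt, one_mul]
    exact hu

end Cfsg.Agent.OddHalf.D7Out.PZeroOut
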