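import Cfsg.Agent.OddHalf.D7Out.Front
import Cfsg.Agent.OddHalf.Front.FE
import Cfsg.Agent.OddHalf.SL.PreOf
import Cfsg.Agent.KFacts.RgdOdd
import Cfsg.Agent.KFacts.RgdFixU
import Cfsg.Agent.KFacts.RgdSyl

/-!
# D7, the front: the frame from a simply laced root group datum (helper875)

`R : RGD cs h 2 T₀ n X` in `↥K`, `K` generated by the root groups, `ρ` the dominant root.

* `dom_nonneg`, `rad_pos` : positive roots and the dominant root;
* `center_U` : `Z(U) = X ρ`;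
* `fr` : a Sylow 2-subgroup `T` of `C(t)` with `T ∩ K = U` and the frame `Defs.Fr`.
-/

set_option autoImplicit false
set_option linter.unusedSectionVars false

namespace Cfsg.Agent.OddHalf.D7Out.FrOf

open CoxeterSystem Cfsg.Agent.ChevalleyStructure.CoxeterGeom Cfsg.Agent.Tits.Roots Cfsg.Agent.Tits.Core
  Cfsg.Agent.Tits.RootComb Cfsg.Agent.Tits.Exchange Cfsg.Agent.Nodes.Comb Cfsg.Agent.Nodes.Reps
  Cfsg.Agent.Nodes.BNOf Cfsg.Agent.Nodes.NormalForm Cfsg.Agent.Nodes.Coroot Cfsg.Agent.Nodes.NormX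
  Cfsg.Agent.Nodes.StabComb Cfsg.Agent.Nodes.Bruhat Cfsg.Agent.Nodes.OppDec Cfsg.Agent.Nodes.LeviDec
  Cfsg.Agent.OddHalf.SL.Index Cfsg.Agent.OddHalf.SL.OfRGD Cfsg.Agent.KFacts.RgdSL Cfsg.Agent.KFacts.RgdTI
  Cfsg.Agent.KFacts.RgdCent Cfsg.Agent.KFacts.RgdOdd Cfsg.Agent.KFacts.RgdFixU
open scoped commutatorElement

variable {I W : Type*} [Fintype I] [DecidableEq I] [Group W] {M : CoxeterMatrix I}
  {cs : CoxeterSystem M W} {A : I → I → ℤ} {h : IsCartan M A}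

section Comb

variable [Finite W] {ρ : I → ℤ} (hρ : IsRoot cs h ρ) (hd : ∀ i, 0 ≤ cpr cs h (sr i) ρ)

include hρ hd

/-- positive roots are not at an obtuse angle with the dominant root -/
theorem dom_nonneg {a : I → ℤ} (ha : 0 ≤ a) : 0 ≤ cpr cs h a ρ := by
  have e : a = ∑ i, a i • (sr i : I → ℤ) := by
    funext j
    rw [Finset.sum_apply]
    rw [Finset.sum_eq_single j]
    · rw [Pi.smul_apply, sr_self, smul_eq_mul, mul_one]
    · intro i _ hi
      rw [Pi.smul_apply, sr_ne (Ne.symm hi), smul_zero]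
    · intro hj; exact absurd (Finset.mem_univ j) hj
  have h1 : ell cs h hρ a = ∑ i, a i * ell cs h hρ (sr i) := by
    conv_lhs => rw [e]
    rw [map_sum]
    exact Finset.sum_congr rfl fun i _ => by rw [map_zsmul, smul_eq_mul]
  have h2 : cpr cs h a ρ = ell cs h hρ a := rfl
  rw [h2, h1]
  exact Finset.sum_nonneg fun i _ => mul_nonneg (ha i) (hd i)

theorem rad_pos {a : I → ℤ} (ha : a ∈ Rad cs h ρ) : a ∈ RGD.Pos cs h := by
  refine ⟨ha.1, ?_⟩
  rcases ha.1.pos_or_neg with h1 | h1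
  · exact h1
  exfalso
  have h2 := dom_nonneg hρ hd (a := -a) (neg_nonneg.2 h1)
  rw [cpr_neg_left _ hρ] at h2
  have := ha.2
  omega

theorem rho_pos : ρ ∈ RGD.Pos cs h := rad_pos hρ hd ⟨hρ, by rw [cpr_self cs h hρ]; norm_num⟩

end Comb

section InK

variable {G : Type*} [Group G] {K : Subgroup G} {T₀ : Subgroup ↥K} {n : I → ↥K} {X : (I → ℤ) → Subgroup ↥K}

/-- `Z(U) ≤ X ρ` -/
theorem center_U [Finite W] (R : RGD cs h 2 T₀ n X) (hs : SL cs h) (hL : ∀ a, IsRoot cs h a → LR R a)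
    (hN : NoCent cs h T₀ X) {ρ : I → ℤ} (hρ : IsRoot cs h ρ) (hd : ∀ i, 0 ≤ cpr cs h (sr i) ρ) (hO : Orth cs h ρ)
    {z : ↥K} (hz : z ∈ RGD.Sup X (RGD.Pos cs h)) (hc : ∀ x ∈ RGD.Sup X (RGD.Pos cs h), z * x = x * z) : z ∈ X ρ :=
  f3_rad hs hρ hO R hL hN (Cfsg.Agent.KFacts.RgdSyl.U_le_GG hz) fun a ha v hv =>
    hc v (RGD.le_Sup (rad_pos hρ hd ha) hv)

/-- `X ρ` is central in `U` -/
theorem X_central [Finite W] (R : RGD cs h 2 T₀ n X) (hL : ∀ a, IsRoot cs h a → LR R a)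
    {ρ : I → ℤ} (hρ : IsRoot cs h ρ) (hd : ∀ i, 0 ≤ cpr cs h (sr i) ρ) {z x : ↥K} (hz : z ∈ X ρ)
    (hx : x ∈ RGD.Sup X (RGD.Pos cs h)) : x * z = z * x := by
  have h1 : RGD.Sup X (RGD.Pos cs h) ≤ Subgroup.centralizer ({z} : Set ↥K) := by
    refine RGD.Sup_le fun a ha v hv => ?_
    rw [Subgroup.mem_centralizer_singleton_iff]
    exact (hL ρ hρ).comm a ha.1 (dom_nonneg hρ hd ha.2) v hv z hz
  exact Subgroup.mem_centralizer_singleton_iff.1 (h1 hx)

/-- the image in `G` of a subgroup of `↥K` -/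
theorem mem_map {P : Subgroup ↥K} {g : G} : g ∈ P.map K.subtype ↔ ∃ hg : g ∈ K, (⟨g, hg⟩ : ↥K) ∈ P := by
  constructor
  · rintro ⟨x, hx, rfl⟩
    exact ⟨x.2, hx⟩
  · rintro ⟨hg, h1⟩
    exact ⟨⟨g, hg⟩, h1, rfl⟩

/-- a Sylow 2-subgroup of `C(t)` containing `U` -/
theorem exists_T [Finite G] {t v : G} (S : Front.FE.Start0 K t v) {U₀ : Subgroup G} (hU : IsPGroup 2 ↥U₀)
    (hUK : U₀ ≤ K) (hUm : ∀ P : Subgroup G, IsPGroup 2 ↥P → U₀ ≤ P → P ≤ K → P ≤ U₀) :
    ∃ T : Subgroup G, IsPGroup 2 ↥T ∧ v ∈ T ∧ (∀ x ∈ T, x * t = t * x) ∧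
      (∀ P : Subgroup G, IsPGroup 2 ↥P → T ≤ P → (∀ x ∈ P, x * t = t * x) → P ≤ T) ∧ T ⊓ K = U₀ := by
  set C : Subgroup G := Subgroup.centralizer ({t} : Set G) with hC
  have hUC : U₀ ≤ C := fun x hx => Subgroup.mem_centralizer_singleton_iff.2 (S.Kt x (hUK hx))
  obtain ⟨P, hP⟩ := (hU.comap_of_injective C.subtype C.subtype_injective).exists_le_sylow
  set T : Subgroup G := (P : Subgroup ↥C).map C.subtype with hT
  have pT : IsPGroup 2 ↥T := P.isPGroup'.map _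
  have tc : ∀ x ∈ T, x * t = t * x := by
    rintro _ ⟨y, -, rfl⟩
    exact Subgroup.mem_centralizer_singleton_iff.1 y.2
  have max : ∀ Q : Subgroup G, IsPGroup 2 ↥Q → T ≤ Q → (∀ x ∈ Q, x * t = t * x) → Q ≤ T := by
    intro Q hQ hle hQt
    have hQC : Q ≤ C := fun x hx => Subgroup.mem_centralizer_singleton_iff.2 (hQt x hx)
    have h1 := P.is_maximal' (hQ.comap_of_injective C.subtype C.subtype_injective) (by
      intro y hy
      exact hle ⟨y, hy, rfl⟩)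
    intro x hx
    have h2 : (⟨x, hQC hx⟩ : ↥C) ∈ Q.comap C.subtype := hx
    rw [h1] at h2
    exact ⟨⟨x, hQC hx⟩, h2, rfl⟩
  have hUT : U₀ ≤ T := fun x hx => ⟨⟨x, hUC hx⟩, hP (by exact hx), rfl⟩
  refine ⟨T, pT, ?_, tc, max, ?_⟩
  · -- `R` is normalised by `T`
    have hRC : ∀ x ∈ Subgroup.zpowers v, x * t = t * x := S.Qt
    have hle : T ≤ Subgroup.normalizer ((Subgroup.zpowers v : Subgroup G) : Set G) := by
      intro x hx
      have hxt := tc x hx
      have key : ∀ y : G, y * t = t * y → y * v * y⁻¹ ∈ Subgroup.zpowers v := by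
        intro y hy
        apply S.cK
        · have hvt := hRC v (Subgroup.mem_zpowers v)
          have hyt : y⁻¹ * t = t * y⁻¹ := by
            rw [inv_mul_eq_iff_eq_mul, ← mul_assoc, hy, mul_inv_cancel_right]
          calc y * v * y⁻¹ * t = y * v * (y⁻¹ * t) := by group
            _ = y * (v * t) * y⁻¹ := by rw [hyt]; group
            _ = y * t * v * y⁻¹ := by rw [hvt]; group
            _ = t * (y * v * y⁻¹) := by rw [hy]; group
        · intro k hk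
          have hyN := S.nK y hy
          have h1 : y⁻¹ * k * y ∈ K := by
            apply (Subgroup.mem_normalizer_iff.1 hyN (y⁻¹ * k * y)).2
            have e : y * (y⁻¹ * k * y) * y⁻¹ = k := by group
            rw [e]; exact hk
          have h2 := S.qK _ h1
          calc k * (y * v * y⁻¹) = y * (y⁻¹ * k * y * v) * y⁻¹ := by group
            _ = y * (v * (y⁻¹ * k * y)) * y⁻¹ := by rw [h2]
            _ = y * v * y⁻¹ * k := by group
      have key2 : ∀ y : G, y * t = t * y → ∀ r ∈ Subgroup.zpowers v, y * r * y⁻¹ ∈ Subgroup.zpowers v := by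
        intro y hy r hr
        obtain ⟨j, rfl⟩ := Subgroup.mem_zpowers_iff.1 hr
        have e : y * v ^ j * y⁻¹ = (y * v * y⁻¹) ^ j := by rw [conj_zpow]
        rw [e]
        exact zpow_mem (key y hy) j
      rw [Subgroup.mem_normalizer_iff]
      intro r
      constructor
      · exact key2 x hxt r
      · intro hr
        have hxt' : x⁻¹ * t = t * x⁻¹ := by
          rw [inv_mul_eq_iff_eq_mul, ← mul_assoc, hxt, mul_inv_cancel_right]
        have h3 := key2 x⁻¹ hxt' _ hr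
        have e : x⁻¹ * (x * r * x⁻¹) * x⁻¹⁻¹ = r := by group
        rwa [e] at h3
    have h1 : IsPGroup 2 ((T ⊔ Subgroup.zpowers v : Subgroup G)) := pT.to_sup_of_normal_right' S.pQ hle
    have h2 : ∀ x ∈ T ⊔ Subgroup.zpowers v, x * t = t * x := by
      have : T ⊔ Subgroup.zpowers v ≤ C := by
        rw [sup_le_iff]
        exact ⟨fun x hx => Subgroup.mem_centralizer_singleton_iff.2 (tc x hx), fun x hx =>
          Subgroup.mem_centralizer_singleton_iff.2 (hRC x hx)⟩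
      intro x hx
      exact Subgroup.mem_centralizer_singleton_iff.1 (this hx)
    exact max _ h1 le_sup_left h2 ((le_sup_right : Subgroup.zpowers v ≤ _) (Subgroup.mem_zpowers v))
  · apply le_antisymm
    · exact hUm _ (pT.to_le inf_le_left) (le_inf hUT hUK) inf_le_right
    · exact le_inf hUT hUK

/-- **The frame.** -/
theorem fr [Finite G] [Finite W] {t v : G} (S : Front.FE.Start K t v) (R : RGD cs h 2 T₀ n X)
    (hG1 : RGD.Sup X {x | IsRoot cs h x} = ⊤) (hs : SL cs h) (hL : ∀ a, IsRoot cs h a → LR R a)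
    (hN : NoCent cs h T₀ X) (hX2 : ∀ a, IsRoot cs h a → ∀ x ∈ X a, x * x = 1) {ρ σ : I → ℤ}
    (hρ : IsRoot cs h ρ) (hd : ∀ i, 0 ≤ cpr cs h (sr i) ρ) (hO : Orth cs h ρ) (hσ : IsRoot cs h σ)
    (hσρ : cpr cs h σ ρ = -1)
    (perf : ∀ L : Subgroup G, (∀ x ∈ L, x * t = t * x) → ⁅L, L⁆ = L → L ≤ K)
    (P2 : ∃ L : Subgroup G, ⁅L, L⁆ = L ∧ (X ρ).map K.subtype ≤ L ∧
      ∀ y ∈ L, ∀ x ∈ (X ρ).map K.subtype, y * x = x * y) :
    ∃ T : Subgroup G, Defs.FrT t v K ((RGD.Sup X (RGD.Pos cs h)).map K.subtype) ((X ρ).map K.subtype) T := by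
  have : Fact (Nat.Prime 2) := ⟨Nat.prime_two⟩
  have hG : GG cs h T₀ X = ⊤ := by
    rw [eq_top_iff, ← hG1]
    exact Cfsg.Agent.KFacts.RgdSyl.Sup_le_GG fun x hx => hx
  set U₀ : Subgroup G := (RGD.Sup X (RGD.Pos cs h)).map K.subtype with hU₀
  have hUp : IsPGroup 2 ↥U₀ := R.isPGroup_Upos.map _
  have hUK : U₀ ≤ K := Subgroup.map_subtype_le _
  have hUm : ∀ P : Subgroup G, IsPGroup 2 ↥P → U₀ ≤ P → P ≤ K → P ≤ U₀ := by
    intro P hP hle hPK
    have h1 : IsPGroup 2 ↥(P.subgroupOf K) := hP.comap_of_injective K.subtype K.subtype_injective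
    have h2 := eq_U_of_isPGroup R h1 (fun x hx => hle ⟨x, hx, rfl⟩) (by rw [hG]; exact le_top)
    intro x hx
    have h3 : (⟨x, hPK hx⟩ : ↥K) ∈ P.subgroupOf K := hx
    rw [h2] at h3
    exact ⟨_, h3, rfl⟩
  obtain ⟨T, pT, vT, tc, max, hTK⟩ := exists_T S.toStart0 hUp hUK hUm
  have hKR : ∀ x ∈ K, x ∈ Subgroup.zpowers v → x = 1 := by
    intro x hx hxv
    exact S.cen x hx fun y hy => S.QK x hxv y hy
  refine ⟨T, ⟨?_, ?_⟩⟩
  constructor
  · exact S.tt
  · exact S.t1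
  · exact S.pQ
  · exact S.tQ
  · exact S.nK
  · exact S.qK
  · exact S.cK
  · exact hKR
  · exact pT
  · exact vT
  · exact tc
  · exact max
  · exact hTK.symm
  · exact Subgroup.map_mono (RGD.le_Sup (rho_pos hρ hd))
  · intro z hz u hu
    obtain ⟨hzK, hz'⟩ := mem_map.1 hz
    obtain ⟨huK, hu'⟩ := mem_map.1 hu
    exact congrArg Subtype.val (X_central R hL hρ hd hz' hu')
  · intro z hz
    obtain ⟨hzK, hz'⟩ := mem_map.1 hz
    exact congrArg Subtype.val (hX2 ρ hρ _ hz')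
  · intro h0
    rw [Subgroup.map_eq_bot_iff_of_injective _ K.subtype_injective] at h0
    exact Cfsg.Agent.OddHalf.SL.OfRGD.X_ne_bot R hρ h0
  · intro x hx hxU
    have hxN := S.nK x (tc x hx)
    obtain ⟨z, hz, hzU, hzK⟩ := exists_mem_centralizer R hG1
      (fun i a ha b hb => (hL _ (isRoot_sr cs h i)).comm _ (isRoot_sr cs h i) (by
        rw [cpr_self cs h (isRoot_sr cs h i)]; norm_num) a ha b hb) hxN
      (fun y hy => hxU y ⟨y, hy, rfl⟩)
    have hzρ := center_U R hs hL hN hρ hd hO hz hzU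
    have hr : (z : G)⁻¹ * x ∈ Subgroup.zpowers v := by
      apply S.cK
      · have h1 := tc x hx
        have h2 := S.Kt z z.2
        have h3 : (z : G)⁻¹ * t = t * (z : G)⁻¹ := by
          rw [inv_mul_eq_iff_eq_mul, ← mul_assoc, h2, mul_inv_cancel_right]
        calc (z : G)⁻¹ * x * t = (z : G)⁻¹ * t * x := by rw [mul_assoc, h1, ← mul_assoc]
          _ = t * ((z : G)⁻¹ * x) := by rw [h3, mul_assoc]
      · intro k hk
        exact (hzK k hk).symm
    refine ⟨(z : G)⁻¹ * x, hr, z, ⟨z, hzρ, rfl⟩, ?_⟩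
    rw [← S.QK _ hr z z.2]; group
  · intro z hz g hg
    obtain ⟨L, hLp, hXL, hLX⟩ := P2
    set L' : Subgroup G := L.map (MulAut.conj g⁻¹).toMonoidHom with hL'
    have hp : ⁅L', L'⁆ = L' := by rw [hL', ← Subgroup.map_commutator, hLp]
    have h1 : ∀ x ∈ L', x * t = t * x := by
      rintro _ ⟨y, hy, rfl⟩
      have h2 := hLX y hy _ hz
      show g⁻¹ * y * g⁻¹⁻¹ * t = t * (g⁻¹ * y * g⁻¹⁻¹)
      calc g⁻¹ * y * g⁻¹⁻¹ * t = g⁻¹ * (y * (g * t * g⁻¹)) * g := by group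
        _ = g⁻¹ * (y * z) * g := by rw [hg]
        _ = g⁻¹ * (z * y) * g := by rw [h2]
        _ = g⁻¹ * (g * t * g⁻¹ * y) * g := by rw [hg]
        _ = t * (g⁻¹ * y * g⁻¹⁻¹) := by group
    have h2 := perf L' h1 hp
    have h3 : t ∈ L' := ⟨z, hXL hz, by
      show g⁻¹ * z * g⁻¹⁻¹ = t
      rw [← hg]; group⟩
    exact S.t1 (hKR t (h2 h3) S.tQ)
  · intro z hz z' hz' hz1 hz1'
    obtain ⟨hzK, hzX⟩ := mem_map.1 hz
    obtain ⟨hzK', hzX'⟩ := mem_map.1 hz'
    obtain ⟨s, -, e⟩ := A2.tor_trans R (hs.a2 hσ hρ hσρ) hzX (fun e => hz1 (congrArg Subtype.val e)) hzX'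
      (fun e => hz1' (congrArg Subtype.val e))
    exact ⟨s, s.2, congrArg Subtype.val e⟩

end InK

end Cfsg.Agent.OddHalf.D7Out.FrOf
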