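import Mathlib

/-!
# ODD D7, outer 2-part, `K = U_n(q)`, `q ≥ 4`: the constant of a field involution (helper991; text: helper490 #11669)

`W` the double of `X`, `a` an element of the double of `Q` with `[a, t] = a₀`, `κ ∈ C_G(t)` trivial on `W`; `g ∈ C_G(t)`
centralises `a` modulo `W` and acts on `κ` like the inversion. `cent_or` : `g` or `t g` centralises `W`.
-/

set_option autoImplicit false

namespace Cfsg.Agent.OddHalf.D7Out.ConstU

variable {G : Type*} [Group G]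

/-- the commutator used -/
def cm (f w : G) : G := f⁻¹ * w⁻¹ * f * w

theorem conj_cm (k f w : G) : k * cm f w * k⁻¹ = cm (k * f * k⁻¹) (k * w * k⁻¹) := by
  unfold cm; group

theorem cm_inv (f w : G) : (cm f w)⁻¹ = cm w f := by
  unfold cm; group

/-- The doubled centre `W` of `R`. -/
structure Wt (t g : G) (X W : Subgroup G) : Prop where
  tt : t * t = 1
  gt : g * t = t * g
  XW : X ≤ W
  Wab : ∀ v ∈ W, ∀ w ∈ W, v * w = w * v
  Wsq : ∀ w ∈ W, w * w = 1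
  brk : ∀ w ∈ W, ∃ x ∈ X, t * w * t = w * x
  cent : ∀ w ∈ W, t * w * t = w → w ∈ X
  Xt : ∀ x ∈ X, t * x * t = x
  gX : ∀ x ∈ X, g * x * g⁻¹ = x

/-- The element `a`. -/
structure El (t g : G) (X W : Subgroup G) (a a0 κ : G) : Prop where
  aW : ∀ w ∈ W, a * w = w * a
  a0W : ∀ w ∈ W, a0 * w = w * a0
  κW : ∀ w ∈ W, κ * w = w * κ
  κt : κ * t = t * κ
  ta : t * a * t = a * a0
  ta0 : t * a0 * t = a0
  ab : cm a (κ * a * κ⁻¹) ∈ W
  a0b : cm a0 (κ * a * κ⁻¹) ∈ W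
  a0b' : cm a0 (κ⁻¹ * a * κ) ∈ W
  x0 : cm a0 (κ * a0 * κ⁻¹) ∈ X
  ga : ∃ w ∈ W, g * a * g⁻¹ = a * w
  ga0 : ∃ w ∈ W, g * a0 * g⁻¹ = a0 * w
  gκ : ∃ w ∈ W, g * (κ * a * κ⁻¹) * g⁻¹ = κ⁻¹ * a * κ * w

variable {t g : G} {X W : Subgroup G} {a a0 κ : G}

section cm

variable {W : Subgroup G}

theorem cm_mul_left {f f' w : G} (h1 : cm f w ∈ W) (h2 : ∀ z ∈ W, f' * z = z * f') :
    cm (f * f') w = cm f w * cm f' w := by
  have h3 := h2 _ h1
  unfold cm at *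
  calc (f * f')⁻¹ * w⁻¹ * (f * f') * w = f'⁻¹ * ((f⁻¹ * w⁻¹ * f * w) * f') * (f'⁻¹ * w⁻¹ * f' * w) := by group
    _ = f'⁻¹ * (f' * (f⁻¹ * w⁻¹ * f * w)) * (f'⁻¹ * w⁻¹ * f' * w) := by rw [h3]
    _ = _ := by group

theorem cm_mul_right {f w w' : G} (h1 : cm f w ∈ W) (h2 : ∀ z ∈ W, w' * z = z * w') :
    cm f (w * w') = cm f w' * cm f w := by
  have h3 := h2 _ h1
  unfold cm at *
  calc f⁻¹ * (w * w')⁻¹ * f * (w * w') = (f⁻¹ * w'⁻¹ * f) * ((f⁻¹ * w⁻¹ * f * w) * w') := by group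
    _ = (f⁻¹ * w'⁻¹ * f) * (w' * (f⁻¹ * w⁻¹ * f * w)) := by rw [h3]
    _ = _ := by group

theorem cm_one_of_comm {f w : G} (h : f * w = w * f) : cm f w = 1 := by
  unfold cm
  rw [mul_assoc, h]; group

/-- central factors do not matter -/
theorem cm_central {f w z z' : G} (hz : z ∈ W) (hz' : z' ∈ W) (hf : ∀ z ∈ W, f * z = z * f)
    (hw : ∀ z ∈ W, w * z = z * w) (hW : ∀ v ∈ W, ∀ w ∈ W, v * w = w * v) : cm (f * z) (w * z') = cm f w := by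
  have e1 : z * w = w * z := (hw z hz).symm
  have e2 : f * z' = z' * f := hf z' hz'
  have e3 : z' * z = z * z' := hW _ hz' _ hz
  have h1 : (f * z) * (w * z') = (w * z')  * (f * z) * cm f w := by
    have h2 : f * w = w * f * cm f w := by unfold cm; group
    have h3 : ∀ y ∈ W, y * cm f w = cm f w * y := by
      intro y hy
      have k1 := hf y hy
      have k2 := hw y hy
      have c1 : Commute y f := k1.symm
      have c2 : Commute y w := k2.symm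
      exact (((c1.inv_right.mul_right c2.inv_right).mul_right c1).mul_right c2).eq
    calc f * z * (w * z') = f * (z * w) * z' := by group
      _ = (f * w) * (z * z') := by rw [e1]; group
      _ = w * f * (cm f w * (z * z')) := by rw [h2]; group
      _ = w * f * ((z' * z) * cm f w) := by rw [← h3 _ (mul_mem hz hz'), e3]
      _ = w * (f * z') * z * cm f w := by group
      _ = _ := by rw [e2]; group
  unfold cm at *
  calc (f * z)⁻¹ * (w * z')⁻¹ * (f * z) * (w * z') = ((w * z') * (f * z))⁻¹ * ((f * z) * (w * z')) := by group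
    _ = _ := by rw [h1]; group

end cm

/-- The two elements of `W`. -/
theorem exists_pair (B : Wt t g X W) (E : El t g X W a a0 κ) : ∃ w1 ∈ W, ∃ w2 ∈ W, ∃ y ∈ X,
    t * w1 * t = w1 * cm a0 (κ * a0 * κ⁻¹) ∧ g * w1 * g⁻¹ = w1 * y ∧
    t * w2 * t = w2 * (y * cm a0 (κ * a0 * κ⁻¹)) ∧ g * w2 * g⁻¹ = w2 := by
  have ti : t⁻¹ = t := inv_eq_of_mul_eq_one_left B.tt
  have κW' : ∀ w ∈ W, κ⁻¹ * w = w * κ⁻¹ := fun w hw => by
    have : Commute κ w := E.κW w hw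
    exact this.inv_left.eq
  have bW : ∀ w ∈ W, (κ * a * κ⁻¹) * w = w * (κ * a * κ⁻¹) := fun w hw => by
    have h1 : Commute κ w := E.κW w hw
    have h2 : Commute a w := E.aW w hw
    exact ((h1.mul_left h2).mul_left h1.inv_left).eq
  have bW' : ∀ w ∈ W, (κ⁻¹ * a * κ) * w = w * (κ⁻¹ * a * κ) := fun w hw => by
    have h1 : Commute κ w := E.κW w hw
    have h2 : Commute a w := E.aW w hw
    exact ((h1.inv_left.mul_left h2).mul_left h1).eq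
  have b0W : ∀ w ∈ W, (κ * a0 * κ⁻¹) * w = w * (κ * a0 * κ⁻¹) := fun w hw => by
    have h1 : Commute κ w := E.κW w hw
    have h2 : Commute a0 w := E.a0W w hw
    exact ((h1.mul_left h2).mul_left h1.inv_left).eq
  have κw : ∀ w ∈ W, κ * w * κ⁻¹ = w := fun w hw => by rw [E.κW w hw, mul_inv_cancel_right]
  have tb : t * (κ * a * κ⁻¹) * t = (κ * a * κ⁻¹) * (κ * a0 * κ⁻¹) := by
    have h1 : Commute κ t := E.κt
    have h2 := h1.inv_left.eq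
    calc t * (κ * a * κ⁻¹) * t = (t * κ) * a * (κ⁻¹ * t) := by group
      _ = (κ * t) * a * (t * κ⁻¹) := by rw [E.κt, h2]
      _ = κ * (t * a * t) * κ⁻¹ := by group
      _ = _ := by rw [E.ta]; group
  have winv : ∀ w ∈ W, w⁻¹ = w := fun w hw => inv_eq_of_mul_eq_one_left (B.Wsq w hw)
  -- `c(a, b) = c(a, b')`
  have hab : cm a (κ⁻¹ * a * κ) = cm a (κ * a * κ⁻¹) := by
    have h1 := κw _ E.ab
    have h2 : κ⁻¹ * cm a (κ * a * κ⁻¹) * κ = cm a (κ * a * κ⁻¹) := by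
      rw [κW' _ E.ab]; group
    have h3 : κ⁻¹ * cm a (κ * a * κ⁻¹) * κ = cm (κ⁻¹ * a * κ) a := by unfold cm; group
    rw [h3] at h2
    rw [← cm_inv, h2, winv _ E.ab]
  have hab0 : cm a (κ * a0 * κ⁻¹) = cm a0 (κ⁻¹ * a * κ) := by
    have h2 : κ * cm a0 (κ⁻¹ * a * κ) * κ⁻¹ = cm a0 (κ⁻¹ * a * κ) := κw _ E.a0b'
    have h3 : κ * cm a0 (κ⁻¹ * a * κ) * κ⁻¹ = cm (κ * a0 * κ⁻¹) a := by unfold cm; group
    rw [h3] at h2
    rw [← cm_inv, h2, winv _ E.a0b']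
  have hab0W : cm a (κ * a0 * κ⁻¹) ∈ W := by rw [hab0]; exact E.a0b'
  obtain ⟨z1, hz1, e1⟩ := E.ga
  obtain ⟨z2, hz2, e2⟩ := E.ga0
  obtain ⟨z3, hz3, e3⟩ := E.gκ
  have x0W := B.XW E.x0
  -- `w1`
  have t1 : t * cm a0 (κ * a * κ⁻¹) * t = cm a0 (κ * a * κ⁻¹) * cm a0 (κ * a0 * κ⁻¹) := by
    have h1 := conj_cm t a0 (κ * a * κ⁻¹)
    rw [ti, E.ta0, tb, cm_mul_right E.a0b b0W] at h1
    rw [h1, B.Wab _ x0W _ E.a0b]
  have g1 : g * cm a0 (κ * a * κ⁻¹) * g⁻¹ = cm a0 (κ⁻¹ * a * κ) := by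
    rw [conj_cm, e2, e3, cm_central hz2 hz3 E.a0W bW' B.Wab]
  have g2 : g * cm a (κ * a * κ⁻¹) * g⁻¹ = cm a (κ * a * κ⁻¹) := by
    rw [conj_cm, e1, e3, cm_central hz1 hz3 E.aW bW' B.Wab, hab]
  have t2 : t * cm a (κ * a * κ⁻¹) * t = cm a (κ * a * κ⁻¹) *
      (cm a0 (κ⁻¹ * a * κ) * cm a0 (κ * a * κ⁻¹) * cm a0 (κ * a0 * κ⁻¹)) := by
    have h1 := conj_cm t a (κ * a * κ⁻¹)
    have h2 : cm a (κ * a * κ⁻¹ * (κ * a0 * κ⁻¹)) ∈ W := by
      rw [cm_mul_right E.ab b0W]; exact mul_mem hab0W E.ab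
    rw [ti, E.ta, tb, cm_mul_left h2 E.a0W, cm_mul_right E.ab b0W, cm_mul_right E.a0b b0W, hab0] at h1
    rw [h1, B.Wab _ E.a0b' _ E.ab, B.Wab _ x0W _ E.a0b]
    group
  -- `y`
  refine ⟨_, E.a0b, _, E.ab, cm a0 (κ * a * κ⁻¹) * cm a0 (κ⁻¹ * a * κ), ?_, t1, ?_, ?_, g2⟩
  · -- `y ∈ X`
    apply B.cent _ (mul_mem E.a0b E.a0b')
    have t3 : t * cm a0 (κ⁻¹ * a * κ) * t = cm a0 (κ⁻¹ * a * κ) * cm a0 (κ * a0 * κ⁻¹) := by
      -- `g w1 g⁻¹`
      rw [← g1]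
      have gt' : g⁻¹ * t = t * g⁻¹ := by
        have : Commute g t := B.gt
        exact this.inv_left.eq
      calc t * (g * cm a0 (κ * a * κ⁻¹) * g⁻¹) * t = (t * g) * cm a0 (κ * a * κ⁻¹) * (g⁻¹ * t) := by group
        _ = (g * t) * cm a0 (κ * a * κ⁻¹) * (t * g⁻¹) := by rw [B.gt, gt']
        _ = g * (t * cm a0 (κ * a * κ⁻¹) * t) * g⁻¹ := by group
        _ = g * cm a0 (κ * a * κ⁻¹) * g⁻¹ * (g * cm a0 (κ * a0 * κ⁻¹) * g⁻¹) := by rw [t1]; group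
        _ = _ := by rw [B.gX _ E.x0]
    calc t * (cm a0 (κ * a * κ⁻¹) * cm a0 (κ⁻¹ * a * κ)) * t
        = (t * cm a0 (κ * a * κ⁻¹) * t) * (t * cm a0 (κ⁻¹ * a * κ) * t) := by
          calc t * (cm a0 (κ * a * κ⁻¹) * cm a0 (κ⁻¹ * a * κ)) * t
              = t * cm a0 (κ * a * κ⁻¹) * 1 * cm a0 (κ⁻¹ * a * κ) * t := by group
            _ = t * cm a0 (κ * a * κ⁻¹) * (t * t) * cm a0 (κ⁻¹ * a * κ) * t := by rw [B.tt]
            _ = _ := by group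
      _ = cm a0 (κ * a * κ⁻¹) * cm a0 (κ * a0 * κ⁻¹) * (cm a0 (κ⁻¹ * a * κ) * cm a0 (κ * a0 * κ⁻¹)) := by
          rw [t1, t3]
      _ = cm a0 (κ * a * κ⁻¹) * (cm a0 (κ * a0 * κ⁻¹) * cm a0 (κ⁻¹ * a * κ)) * cm a0 (κ * a0 * κ⁻¹) := by group
      _ = cm a0 (κ * a * κ⁻¹) * (cm a0 (κ⁻¹ * a * κ) * cm a0 (κ * a0 * κ⁻¹)) * cm a0 (κ * a0 * κ⁻¹) := by
          rw [B.Wab _ x0W _ E.a0b']
      _ = cm a0 (κ * a * κ⁻¹) * cm a0 (κ⁻¹ * a * κ) * (cm a0 (κ * a0 * κ⁻¹) * cm a0 (κ * a0 * κ⁻¹)) := by group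
      _ = _ := by rw [B.Wsq _ x0W, mul_one]
  · rw [g1, ← mul_assoc, B.Wsq _ E.a0b, one_mul]
  · rw [t2, B.Wab _ E.a0b' _ E.a0b]

/-- A torus: transitive on `X`, commuting with `g` on `W`. -/
structure Tor (t g : G) (X W H : Subgroup G) : Prop where
  ht : ∀ h ∈ H, h * t = t * h
  hX : ∀ h ∈ H, ∀ x ∈ X, h * x * h⁻¹ ∈ X
  hW : ∀ h ∈ H, ∀ w ∈ W, h * w * h⁻¹ ∈ W
  comm : ∀ h ∈ H, ∀ w ∈ W, g * (h * w * h⁻¹) * g⁻¹ = h * (g * w * g⁻¹) * h⁻¹
  tr : ∀ x ∈ X, ∀ y ∈ X, x ≠ 1 → y ≠ 1 → ∃ h ∈ H, h * x * h⁻¹ = y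

/-- **Lemma C for `U_n`**: `g` or `t g` centralises `W`. -/
theorem cent_or {H : Subgroup G} (B : Wt t g X W) (E : El t g X W a a0 κ) (T : Tor t g X W H)
    (hne : cm a0 (κ * a0 * κ⁻¹) ≠ 1) : (∀ w ∈ W, g * w = w * g) ∨ (∀ w ∈ W, (t * g) * w = w * (t * g)) := by
  have ti : t⁻¹ = t := inv_eq_of_mul_eq_one_left B.tt
  obtain ⟨w1, hw1, w2, hw2, y, hy, e1, e2, e3, e4⟩ := exists_pair B E
  have hx := E.x0
  generalize cm a0 (κ * a0 * κ⁻¹) = x at *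
  have tmul : ∀ b c : G, t * (b * c) * t = (t * b * t) * (t * c * t) := fun b c => by
    calc t * (b * c) * t = t * b * 1 * c * t := by group
      _ = t * b * (t * t) * c * t := by rw [B.tt]
      _ = _ := by group
  have hconj : ∀ h ∈ H, ∀ w z, t * w * t = w * z → t * (h * w * h⁻¹) * t = (h * w * h⁻¹) * (h * z * h⁻¹) := by
    intro h hh w z e
    have h1 : Commute h t := T.ht h hh
    calc t * (h * w * h⁻¹) * t = (t * h) * w * (h⁻¹ * t) := by group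
      _ = (h * t) * w * (t * h⁻¹) := by rw [h1.eq, h1.inv_left.eq]
      _ = h * (t * w * t) * h⁻¹ := by group
      _ = _ := by rw [e]; group
  -- two elements of `W` with the same `[w, t]`
  have same : ∀ w ∈ W, ∀ w' ∈ W, ∀ z, t * w * t = w * z → t * w' * t = w' * z → ∃ v ∈ X, w = w' * v := by
    intro w hw w' hw' z hz hz'
    have hzW : z ∈ W := by
      obtain ⟨z', hz'', e⟩ := B.brk w hw
      have : z = z' := mul_left_cancel (hz.symm.trans e)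
      rw [this]; exact B.XW hz''
    refine ⟨w'⁻¹ * w, B.cent _ (mul_mem (inv_mem hw') hw) ?_, by group⟩
    have h1 : t * w'⁻¹ * t = (w' * z)⁻¹ := by
      rw [← hz', mul_inv_rev, mul_inv_rev, ti]; group
    rw [tmul, h1, hz]
    calc (w' * z)⁻¹ * (w * z) = z⁻¹ * (w'⁻¹ * w * z) := by group
      _ = z⁻¹ * (z * (w'⁻¹ * w)) := by rw [B.Wab _ (mul_mem (inv_mem hw') hw) _ hzW]
      _ = _ := by group
  have gmul : ∀ b c : G, g * (b * c) * g⁻¹ = (g * b * g⁻¹) * (g * c * g⁻¹) := fun b c => by group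
  have gmv : ∀ w ∈ W, ∀ w' ∈ W, ∀ v ∈ X, w = w' * v → g * w' * g⁻¹ = w' → g * w * g⁻¹ = w := by
    intro w _ w' _ v hv e h1
    rw [e, gmul, h1, B.gX v hv]
  by_cases hy1 : y = 1
  · left
    intro w hw
    rw [hy1, mul_one] at e2
    rw [← mul_inv_eq_iff_eq_mul]
    obtain ⟨z, hz, ez⟩ := B.brk w hw
    by_cases hz1 : z = 1
    · exact B.gX _ (B.cent w hw (by rw [ez, hz1, mul_one]))
    · obtain ⟨h, hh, eh⟩ := T.tr x hx z hz hne hz1
      have h1 := hconj h hh w1 x e1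
      rw [eh] at h1
      obtain ⟨v, hv, ev⟩ := same w hw _ (T.hW h hh w1 hw1) z ez h1
      exact gmv w hw _ (T.hW h hh w1 hw1) v hv ev (by rw [T.comm h hh w1 hw1, e2])
  · right
    -- `y x = 1`
    have hyx : y * x = 1 := by
      by_contra hyx
      obtain ⟨h, hh, eh⟩ := T.tr (y * x) (mul_mem hy hx) x hx hyx hne
      have h1 := hconj h hh w2 (y * x) e3
      rw [eh] at h1
      obtain ⟨v, hv, ev⟩ := same w1 hw1 _ (T.hW h hh w2 hw2) x e1 h1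
      have h2 := gmv w1 hw1 _ (T.hW h hh w2 hw2) v hv ev (by rw [T.comm h hh w2 hw2, e4])
      rw [e2] at h2
      exact hy1 (mul_eq_left.1 h2)
    have hyx' : y = x := by
      have h1 := B.Wsq x (B.XW hx)
      exact mul_right_cancel (hyx.trans h1.symm)
    rw [hyx'] at e2
    have main : ∀ w ∈ W, g * w * g⁻¹ = t * w * t := by
      intro w hw
      obtain ⟨z, hz, ez⟩ := B.brk w hw
      by_cases hz1 : z = 1
      · have h1 := B.cent w hw (by rw [ez, hz1, mul_one])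
        rw [B.gX _ h1, B.Xt _ h1]
      · obtain ⟨h, hh, eh⟩ := T.tr x hx z hz hne hz1
        have h1 := hconj h hh w1 x e1
        rw [eh] at h1
        obtain ⟨v, hv, ev⟩ := same w hw _ (T.hW h hh w1 hw1) z ez h1
        have h2 : g * (h * w1 * h⁻¹) * g⁻¹ = (h * w1 * h⁻¹) * z := by
          rw [T.comm h hh w1 hw1, e2, ← eh]; group
        rw [ez, ev, gmul, h2, B.gX v hv, mul_assoc _ z v, B.Wab z (B.XW hz) v (B.XW hv), mul_assoc _ v z]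
    intro w hw
    rw [← mul_inv_eq_iff_eq_mul]
    calc t * g * w * (t * g)⁻¹ = t * (g * w * g⁻¹) * t⁻¹ := by group
      _ = (t * t) * w * (t * t) := by rw [main w hw, ti]; group
      _ = w := by rw [B.tt, one_mul, mul_one]

end Cfsg.Agent.OddHalf.D7Out.ConstU
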