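import Cfsg.Agent.OddHalf.D7Out.FrontN
import Cfsg.Agent.OddHalf.D7Out.TransGen
import Cfsg.Agent.OddHalf.D7Out.TwChoice

/-!
# D7, the front for `K` with cyclic 2-part of `Out(K)`, family free (helper841; texts: bb ODD 8710, 11669, piece O6)

Inputs: `FrGen.KF U Z` (facts on `K`), `CycOut K` (2-groups of automorphisms have cyclic image in `Out(K)`), `Sch K`.

* `hcyc` : `T / R U` is cyclic; `not_iso` : `t` is not isolated in `Z(T)`;
* `front_T` (for a given Sylow subgroup `T` of `C(t)` with the frame `FrT`), `front` (for some `T`), `front_ctx` (from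
  `Ctx`, `Std`, `Cyc`): `v = t` (`C(K) ∩ C(t) = ⟨t⟩`), `t ~ t z` for all `z ∈ Z`, and `n ∈ N(T)`, `n² ∈ T`,
  `n t n⁻¹ = t z`, `n z = z n`, `1 ≠ z ∈ Z ∩ Z(T)`, and the `T`-formula for `C(z)`;
* `cycOut_of_hom` : `CycOut` from homomorphisms to a cyclic group.
-/

set_option autoImplicit false

namespace Cfsg.Agent.OddHalf.D7Out.FrontCyc

open Subgroup Cfsg.Agent.OddHalf.D7Out.Defs Cfsg.Agent.OddHalf.D7Out.TwChoice

variable {G : Type*} [Group G] {t v : G} {K : Subgroup G}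

/-- `T / R U` is cyclic -/
theorem hcyc {U Z T : Subgroup G} (h : CycT t v K) (E : Fr t v K U Z T) :
    ∃ s ∈ T, ∀ x ∈ T, ∃ k : ℤ, ∃ r ∈ zpowers v, ∃ u ∈ U, x = s ^ k * r * u := by
  obtain ⟨y, hy, h1⟩ := h T E.pT E.tc
  refine ⟨y, hy, fun x hx => ?_⟩
  obtain ⟨i, k, hk, r, hr, e⟩ := h1 x hx
  have hkT : k ∈ T := by
    have e' : k = (y ^ i)⁻¹ * x * r⁻¹ := by rw [e]; group
    rw [e']
    exact mul_mem (mul_mem (inv_mem (zpow_mem hy i)) hx) (inv_mem (Front.RT E hr))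
  refine ⟨i, r, hr, k, by rw [E.U_eq]; exact ⟨hkT, hk⟩, ?_⟩
  rw [e, mul_assoc, mul_assoc, Front.K_comm_R E hk hr]

/-- **(F1)**: `t` is not isolated in `Z(T)` -/
theorem not_iso [Finite G] (hG : commutator G = ⊤) {U Z T : Subgroup G} (h : CycT t v K) (E : Fr t v K U Z T) :
    ¬ Iso t T := fun hiso => TransGen.false_of_cyclic hG E hiso (hcyc h E)

/-- the output of the front -/
structure Out (t : G) (K U Z T : Subgroup G) (n z : G) : Prop where
  /-- the frame; `C(K) ∩ C(t) = ⟨t⟩` -/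
  fr : FrT t t K U Z T
  all : ∀ z ∈ Z, ∃ g : G, g * t * g⁻¹ = t * z
  sw : FrontN.Swap t Z T n z
  /-- the `T`-formula -/
  phi : ∀ {A : Type} [CommGroup A] (φ : centralizer ({z} : Set G) →* A) (h : t ∈ centralizer ({z} : Set G)),
    φ ⟨t, h⟩ = 1

/-- the front for a given `T` -/
theorem front_T [Finite G] (hG : commutator G = ⊤) {U Z T : Subgroup G} (h : CycT t v K) (E : FrT t v K U Z T) :
    v = t ∧ ∃ n z : G, Out t K U Z T n z := by
  obtain ⟨hv, hall, m, z, hsw⟩ := FrontN.front E (not_iso hG h E.toFr)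
  subst hv
  exact ⟨rfl, m, z, E, hall, hsw, fun φ hφ => Front.phi_eq_one hG E hall hsw.zZ hsw.z1 hsw.zT φ hφ⟩

/-- **The front.** -/
theorem front [Finite G] (hG : commutator G = ⊤) (S : Front.FE.Start K t v) {U Z : Subgroup ↥K}
    (F : FrGen.KF U Z) (hs : Schreier.Basic.Sch ↥K) (hc : CycOut ↥K) :
    v = t ∧ ∃ (T : Subgroup G) (n z : G), Out t K (U.map K.subtype) (Z.map K.subtype) T n z := by
  obtain ⟨T, hT⟩ := FrGen.fr S F hs
  obtain ⟨hv, m, z, h⟩ := front_T hG (cycT_of S.toStart0 hc) hT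
  exact ⟨hv, T, m, z, h⟩

/-- `CycOut` from homomorphisms to cyclic groups -/
theorem cycOut_of_hom {Y A : Type*} [Group Y] [Group A] (hA : IsCyclic A)
    (h : ∀ S : Subgroup (MulAut Y), IsPGroup 2 ↥S → ∃ f : ↥S →* A, ∀ α : ↥S, f α = 1 → ∃ x, α.1 = MulAut.conj x) :
    CycOut Y := by
  intro S hS
  obtain ⟨f, hf⟩ := h S hS
  have h1 : IsCyclic ↥f.range := inferInstance
  obtain ⟨⟨_, α, rfl⟩, hs⟩ := IsCyclic.exists_generator (α := ↥f.range)
  refine ⟨α, α.2, fun β hβ => ?_⟩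
  obtain ⟨i, hi⟩ := mem_zpowers_iff.1 (hs ⟨f ⟨β, hβ⟩, ⟨β, hβ⟩, rfl⟩)
  have hi' : f α ^ i = f ⟨β, hβ⟩ := congrArg Subtype.val hi
  obtain ⟨x, hx⟩ := hf ((α ^ i)⁻¹ * ⟨β, hβ⟩) (by rw [map_mul, map_inv, map_zpow, hi', inv_mul_cancel])
  refine ⟨i, x, ?_⟩
  have hx' : ((α : MulAut Y) ^ i)⁻¹ * β = MulAut.conj x := hx
  rw [← hx', mul_inv_cancel_left]

section Ctx

open Cfsg.Agent.OddHalf.Iface

universe u

variable {G : Type u} [Group G] {K : Subgroup G}

/-- **The front**, from the interface. -/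
theorem front_ctx (C : Ctx G) (S : Std G K) (hcyc : Cyc K) (hcen : center ↥K = ⊥) {U Z : Subgroup ↥K}
    (F : FrGen.KF U Z) (hs : Schreier.Basic.Sch ↥K) (hc : CycOut ↥K) :
    ∃ (t : G) (T : Subgroup G) (n z : G), Front.FE.Start K t t ∧
      Out t K (U.map K.subtype) (Z.map K.subtype) T n z := by
  have := C.fin
  obtain ⟨t, v, h⟩ := Cfsg.Agent.OddHalf.Front.FE.exists_start C S hcyc hcen
  obtain ⟨hv, T, m, z, hT⟩ := front (Cfsg.Agent.OddHalf.Front.FE.commutator_eq_top C) h F hs hc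
  subst hv
  exact ⟨v, T, m, z, h, hT⟩

end Ctx

end Cfsg.Agent.OddHalf.D7Out.FrontCyc
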