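import Mathlib
import Cfsg.Agent.LieRecognition.BNCox
import Cfsg.Agent.Nodes.TypeD

/-!
# Symmetries of the simply laced diagrams (helper875)

`DiagTwo M` : 2-groups of symmetries of the diagram have order at most two; `diagTwo_A`, `diagTwo_D`, `diagTwo_E6`,
`diagTwo_E7`, `diagTwo_E8`.
-/

set_option autoImplicit false

namespace Cfsg.Agent.OddHalf.D7Out.Diagram

/-- 2-groups of diagram symmetries have order at most two -/
def DiagTwo {I : Type*} (M : CoxeterMatrix I) : Prop :=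
  ∀ P : Subgroup (Equiv.Perm I), IsPGroup 2 P → (∀ σ ∈ P, ∀ i j, M (σ i) (σ j) = M i j) →
    ∀ σ ∈ P, ∀ τ ∈ P, σ ≠ 1 → τ ≠ 1 → σ = τ

section Gen

variable {I : Type*} {M : CoxeterMatrix I} {σ τ : Equiv.Perm I}

theorem sym_mul (h : ∀ i j, M (σ i) (σ j) = M i j) (h' : ∀ i j, M (τ i) (τ j) = M i j) (i j : I) :
    M ((σ * τ) i) ((σ * τ) j) = M i j := by
  rw [Equiv.Perm.mul_apply, Equiv.Perm.mul_apply, h, h']

theorem sym_inv (h : ∀ i j, M (σ i) (σ j) = M i j) (i j : I) : M (σ⁻¹ i) (σ⁻¹ j) = M i j := by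
  have h1 : ∀ k, σ (σ⁻¹ k) = k := fun k => σ.apply_symm_apply k
  rw [← h, h1, h1]

/-- a node which is the only new neighbour of a fixed node is fixed -/
theorem grow (h : ∀ i j, M (σ i) (σ j) = M i j) {S : Set I} (hS : ∀ j ∈ S, σ j = j) {s k : I} (hs : s ∈ S)
    (hk : k ∉ S) (hsk : M s k ≠ 2) (hn : ∀ j, M s j ≠ 2 → j ∈ S ∨ j = k) : σ k = k := by
  have h1 : M s (σ k) ≠ 2 := by
    have := h s k
    rw [hS s hs] at this
    rw [this]; exact hsk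
  rcases hn _ h1 with h2 | h2
  · exfalso
    have h3 := σ.injective (hS _ h2)
    rw [h3] at h2
    exact hk h2
  · exact h2

/-- rigidity at a node -/
theorem diagTwo_of {c c' : I} (h1 : ∀ σ : Equiv.Perm I, (∀ i j, M (σ i) (σ j) = M i j) → σ c = c → σ = 1)
    (h2 : ∀ σ : Equiv.Perm I, (∀ i j, M (σ i) (σ j) = M i j) → σ c = c ∨ σ c = c') : DiagTwo M := by
  intro P _ hP σ hσ τ hτ hσ1 hτ1
  have e1 := (h2 σ (hP σ hσ)).resolve_left fun e => hσ1 (h1 σ (hP σ hσ) e)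
  have e2 := (h2 τ (hP τ hτ)).resolve_left fun e => hτ1 (h1 τ (hP τ hτ) e)
  have h3 := h1 (τ⁻¹ * σ) (sym_mul (sym_inv (hP τ hτ)) (hP σ hσ)) (by
    rw [Equiv.Perm.mul_apply, e1, ← e2]
    exact τ.symm_apply_apply c)
  exact (inv_mul_eq_one.1 h3).symm

/-- a rigid diagram -/
theorem diagTwo_of_rigid (h1 : ∀ σ : Equiv.Perm I, (∀ i j, M (σ i) (σ j) = M i j) → σ = 1) : DiagTwo M :=
  fun _ _ hP σ hσ _ _ hσ1 _ => absurd (h1 σ (hP σ hσ)) hσ1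

end Gen

/-! ### Type `A` -/

open Cfsg.Agent.LieRecognition.BNCox (cA cA_apply)

theorem cA_ne_two {n : ℕ} (i j : Fin n) : cA n i j ≠ 2 ↔ (i = j ∨ (i : ℕ) + 1 = j ∨ (j : ℕ) + 1 = i) := by
  rw [cA_apply]
  unfold Cfsg.Agent.LieRecognition.CoxClass.mA
  rw [Fin.ext_iff]
  split_ifs <;> omega

theorem rigid_A {n : ℕ} (σ : Equiv.Perm (Fin (n + 1))) (h : ∀ i j, cA (n + 1) (σ i) (σ j) = cA (n + 1) i j)
    (h0 : σ 0 = 0) : σ = 1 := by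
  have key : ∀ m : ℕ, ∀ i : Fin (n + 1), (i : ℕ) ≤ m → σ i = i := by
    intro m
    induction m with
    | zero =>
      intro i hi
      have : i = 0 := Fin.ext (by simpa using hi)
      rw [this, h0]
    | succ m ih =>
      intro i hi
      rcases Nat.lt_or_ge (i : ℕ) (m + 1) with h1 | h1
      · exact ih i (by omega)
      have hi' : (i : ℕ) = m + 1 := by omega
      have hs : m < n + 1 := by have := i.2; omega
      refine grow (S := {j : Fin (n + 1) | (j : ℕ) ≤ m}) h (fun j hj => ih j hj) (s := ⟨m, hs⟩) (le_refl m) ?_ ?_ ?_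
      · intro h2
        have h2' : (i : ℕ) ≤ m := h2
        omega
      · rw [cA_ne_two]
        exact Or.inr (Or.inl hi'.symm)
      · intro j hj
        rw [cA_ne_two] at hj
        show (j : ℕ) ≤ m ∨ j = i
        rcases hj with h2 | h2 | h2
        · left
          rw [← h2]
        · right
          apply Fin.ext
          have : m + 1 = (j : ℕ) := h2
          omega
        · left
          have : (j : ℕ) + 1 = m := h2
          omega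
  ext i
  rw [key n i (by have := i.2; omega)]
  rfl

theorem diagTwo_A (n : ℕ) (hn : 2 ≤ n) : DiagTwo (cA (n + 1)) := by
  refine diagTwo_of (c := 0) (c' := Fin.last n) rigid_A fun σ h => ?_
  by_contra hcon
  push Not at hcon
  obtain ⟨h0, hl⟩ := hcon
  set m := σ 0 with hm
  have hm0 : (m : ℕ) ≠ 0 := fun e => h0 (Fin.ext e)
  have hmn : (m : ℕ) ≠ n := fun e => hl (Fin.ext e)
  have hmlt := m.2
  have key : ∀ j : Fin (n + 1), cA (n + 1) m j ≠ 2 → j ≠ m → σ.symm j = 1 := by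
    intro j hj hjm
    have h1 : cA (n + 1) 0 (σ.symm j) ≠ 2 := by
      rw [← h 0 (σ.symm j), Equiv.apply_symm_apply]
      exact hj
    rw [cA_ne_two] at h1
    rcases h1 with h2 | h2 | h2
    · exfalso
      apply hjm
      rw [hm, h2, Equiv.apply_symm_apply]
    · apply Fin.ext
      rw [← h2]
      show (0 : ℕ) + 1 = ((1 : Fin (n + 1)) : ℕ)
      rw [Fin.val_one', Nat.mod_eq_of_lt (by omega)]
    · have h3 : ((σ.symm j : Fin (n + 1)) : ℕ) + 1 = 0 := h2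
      omega
  have e1 := key ⟨m - 1, by omega⟩ (by rw [cA_ne_two]; right; right; show (m : ℕ) - 1 + 1 = m; omega)
    (fun e => by have := congrArg Fin.val e; simp only at this; omega)
  have e2 := key ⟨m + 1, by omega⟩ (by rw [cA_ne_two]; right; left; rfl)
    (fun e => by have := congrArg Fin.val e; simp only at this; omega)
  have e3 := σ.symm.injective (e1.trans e2.symm)
  have := congrArg Fin.val e3
  simp only at this
  omega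

/-! ### Type `D` -/

open Cfsg.Agent.Nodes.TypeD (M M_apply Adj)

theorem M_ne_two {n : ℕ} (i j : Fin (n + 2)) : M n i j ≠ 2 ↔ (i = j ∨ Adj i j ∨ Adj j i) := by
  rw [M_apply]
  split_ifs with h1 h2
  · simp [h1]
  · simp [h2]
  · simp [h1, h2]

/-- the neighbours -/
theorem adj_iff {n : ℕ} (i j : Fin (n + 2)) : M n i j ≠ 2 ↔ ((i : ℕ) = j ∨
    ((j : ℕ) < n + 1 ∧ (i : ℕ) + 1 = j ∨ (j : ℕ) = n + 1 ∧ (i : ℕ) + 2 = j) ∨
    ((i : ℕ) < n + 1 ∧ (j : ℕ) + 1 = i ∨ (i : ℕ) = n + 1 ∧ (j : ℕ) + 2 = i)) := by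
  rw [M_ne_two, Fin.ext_iff]
  rfl

theorem fix_chain {n : ℕ} (hn : 1 ≤ n) (σ : Equiv.Perm (Fin (n + 2))) (h : ∀ i j, M n (σ i) (σ j) = M n i j)
    (h0 : σ 0 = 0) : ∀ i : Fin (n + 2), (i : ℕ) ≤ n - 1 → σ i = i := by
  have key : ∀ m : ℕ, m ≤ n - 1 → ∀ i : Fin (n + 2), (i : ℕ) ≤ m → σ i = i := by
    intro m
    induction m with
    | zero =>
      intro _ i hi
      have : i = 0 := Fin.ext (by simpa using hi)
      rw [this, h0]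
    | succ m ih =>
      intro hm i hi
      rcases Nat.lt_or_ge (i : ℕ) (m + 1) with h1 | h1
      · exact ih (by omega) i (by omega)
      have hi' : (i : ℕ) = m + 1 := by omega
      refine grow (S := {j : Fin (n + 2) | (j : ℕ) ≤ m}) h (fun j hj => ih (by omega) j hj) (s := ⟨m, by omega⟩) (le_refl m) ?_ ?_ ?_
      · intro h2
        have h2' : (i : ℕ) ≤ m := h2
        omega
      · rw [adj_iff]
        show m = (i : ℕ) ∨ ((i : ℕ) < n + 1 ∧ m + 1 = i ∨ (i : ℕ) = n + 1 ∧ m + 2 = i) ∨ _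
        omega
      · intro j hj
        rw [adj_iff] at hj
        have hj' : m = (j : ℕ) ∨ ((j : ℕ) < n + 1 ∧ m + 1 = j ∨ (j : ℕ) = n + 1 ∧ m + 2 = j) ∨
          (m < n + 1 ∧ (j : ℕ) + 1 = m ∨ m = n + 1 ∧ (j : ℕ) + 2 = m) := hj
        show (j : ℕ) ≤ m ∨ j = i
        by_cases h2 : (j : ℕ) ≤ m
        · exact Or.inl h2
        · right
          apply Fin.ext
          omega
  exact key (n - 1) (le_refl _)

/-- a symmetry fixing the end of the long arm and an end of the fork is trivial -/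
theorem rigid_D {n : ℕ} (hn : 1 ≤ n) (σ : Equiv.Perm (Fin (n + 2))) (h : ∀ i j, M n (σ i) (σ j) = M n i j)
    (h0 : σ 0 = 0) (hl : σ (Fin.last (n + 1)) = Fin.last (n + 1)) : σ = 1 := by
  have h1 := fix_chain hn σ h h0
  have h2 : σ ⟨n, by omega⟩ = ⟨n, by omega⟩ := by
    refine grow (S := {j : Fin (n + 2) | (j : ℕ) ≤ n - 1 ∨ (j : ℕ) = n + 1}) h ?_ (s := ⟨n - 1, by omega⟩) (Or.inl (le_refl _)) ?_ ?_ ?_
    · rintro j (hj | hj)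
      · exact h1 j hj
      · have : j = Fin.last (n + 1) := Fin.ext hj
        rw [this, hl]
    · rintro (h3 | h3)
      · have : n ≤ n - 1 := h3
        omega
      · have : n = n + 1 := h3
        omega
    · rw [adj_iff]
      show n - 1 = n ∨ (n < n + 1 ∧ n - 1 + 1 = n ∨ n = n + 1 ∧ n - 1 + 2 = n) ∨ _
      omega
    · intro j hj
      rw [adj_iff] at hj
      have hj' : n - 1 = (j : ℕ) ∨ ((j : ℕ) < n + 1 ∧ n - 1 + 1 = j ∨ (j : ℕ) = n + 1 ∧ n - 1 + 2 = j) ∨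
        (n - 1 < n + 1 ∧ (j : ℕ) + 1 = n - 1 ∨ n - 1 = n + 1 ∧ (j : ℕ) + 2 = n - 1) := hj
      show ((j : ℕ) ≤ n - 1 ∨ (j : ℕ) = n + 1) ∨ j = ⟨n, _⟩
      by_cases h3 : (j : ℕ) ≤ n - 1 ∨ (j : ℕ) = n + 1
      · exact Or.inl h3
      · right
        apply Fin.ext
        show (j : ℕ) = n
        omega
  ext i
  have hi := i.2
  rcases Nat.lt_or_ge (i : ℕ) n with h3 | h3
  · rw [h1 i (by omega)]; rfl
  rcases Nat.lt_or_ge (i : ℕ) (n + 1) with h4 | h4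
  · have : i = ⟨n, by omega⟩ := Fin.ext (by show (i : ℕ) = n; omega)
    rw [this, h2]; rfl
  · have : i = Fin.last (n + 1) := Fin.ext (by show (i : ℕ) = n + 1; omega)
    rw [this, hl]; rfl

/-- two nontrivial symmetries fixing the end of the long arm are equal -/
theorem eq_of_fix {n : ℕ} (hn : 1 ≤ n) {σ τ : Equiv.Perm (Fin (n + 2))} (h : ∀ i j, M n (σ i) (σ j) = M n i j)
    (h' : ∀ i j, M n (τ i) (τ j) = M n i j) (h0 : σ 0 = 0) (h0' : τ 0 = 0) (h1 : σ ≠ 1) (h1' : τ ≠ 1) : σ = τ := by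
  have key : ∀ ν : Equiv.Perm (Fin (n + 2)), (∀ i j, M n (ν i) (ν j) = M n i j) → ν 0 = 0 → ν ≠ 1 →
      ν (Fin.last (n + 1)) = ⟨n, by omega⟩ := by
    intro ν hν hν0 hν1
    have h2 := fix_chain hn ν hν hν0 ⟨n - 1, by omega⟩ (le_refl _)
    have h3 : M n (⟨n - 1, by omega⟩ : Fin (n + 2)) (ν (Fin.last (n + 1))) ≠ 2 := by
      have h4 := hν ⟨n - 1, by omega⟩ (Fin.last (n + 1))
      rw [h2] at h4
      rw [h4, adj_iff]
      show n - 1 = n + 1 ∨ (n + 1 < n + 1 ∧ n - 1 + 1 = n + 1 ∨ n + 1 = n + 1 ∧ n - 1 + 2 = n + 1) ∨ _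
      omega
    have h5 : ν (Fin.last (n + 1)) ≠ Fin.last (n + 1) := fun e => hν1 (rigid_D hn ν hν hν0 e)
    have h6 : ¬ ((ν (Fin.last (n + 1)) : Fin (n + 2)) : ℕ) ≤ n - 1 := by
      intro h7
      have h8 := fix_chain hn ν hν hν0 _ h7
      have h9 := ν.injective h8
      rw [h9] at h7
      have : n + 1 ≤ n - 1 := h7
      omega
    have h7 : ((ν (Fin.last (n + 1)) : Fin (n + 2)) : ℕ) ≠ n + 1 := fun e => h5 (Fin.ext e)
    apply Fin.ext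
    show ((ν (Fin.last (n + 1)) : Fin (n + 2)) : ℕ) = n
    have := (ν (Fin.last (n + 1))).2
    omega
  have h2 := rigid_D hn (τ⁻¹ * σ) (sym_mul (sym_inv h') h) (by
    rw [Equiv.Perm.mul_apply, h0]
    exact (Equiv.symm_apply_eq τ).2 h0'.symm) (by
    rw [Equiv.Perm.mul_apply, key σ h h0 h1, ← key τ h' h0' h1']
    exact τ.symm_apply_apply _)
  exact (inv_mul_eq_one.1 h2).symm

/-- rank at least five: every symmetry fixes the end of the long arm -/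
theorem fix_zero {n : ℕ} (hn : 3 ≤ n) (σ : Equiv.Perm (Fin (n + 2))) (h : ∀ i j, M n (σ i) (σ j) = M n i j) :
    σ 0 = 0 := by
  -- `1` is the only neighbour of `0`
  have key0 : ∀ j : Fin (n + 2), M n (σ 0) j ≠ 2 → j ≠ σ 0 → j = σ ⟨1, by omega⟩ := by
    intro j hj hj0
    have h1 : M n 0 (σ.symm j) ≠ 2 := by
      rw [← h 0 (σ.symm j), Equiv.apply_symm_apply]
      exact hj
    rw [adj_iff] at h1
    have h1' : 0 = ((σ.symm j : Fin (n + 2)) : ℕ) ∨ (((σ.symm j : Fin (n + 2)) : ℕ) < n + 1 ∧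
        0 + 1 = ((σ.symm j : Fin (n + 2)) : ℕ) ∨ ((σ.symm j : Fin (n + 2)) : ℕ) = n + 1 ∧
        0 + 2 = ((σ.symm j : Fin (n + 2)) : ℕ)) ∨ (0 < n + 1 ∧ ((σ.symm j : Fin (n + 2)) : ℕ) + 1 = 0 ∨
        0 = n + 1 ∧ ((σ.symm j : Fin (n + 2)) : ℕ) + 2 = 0) := h1
    have h2 : σ.symm j ≠ 0 := by
      intro e
      apply hj0
      rw [← e, Equiv.apply_symm_apply]
    have h3 : ((σ.symm j : Fin (n + 2)) : ℕ) ≠ 0 := fun e => h2 (Fin.ext e)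
    have h4 : σ.symm j = ⟨1, by omega⟩ := Fin.ext (by show ((σ.symm j : Fin (n + 2)) : ℕ) = 1; omega)
    rw [← h4, Equiv.apply_symm_apply]
  by_contra h0
  have hm0 : ((σ 0 : Fin (n + 2)) : ℕ) ≠ 0 := fun e => h0 (Fin.ext e)
  have hlt := (σ 0).2
  -- `σ 0` is an end of the fork
  have hend : ((σ 0 : Fin (n + 2)) : ℕ) = n ∨ ((σ 0 : Fin (n + 2)) : ℕ) = n + 1 := by
    by_contra hcon
    push Not at hcon
    have e1 := key0 ⟨(σ 0 : Fin (n + 2)) - 1, by omega⟩ (by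
      rw [adj_iff]
      show ((σ 0 : Fin (n + 2)) : ℕ) = (σ 0 : Fin (n + 2)) - 1 ∨ _ ∨
        (((σ 0 : Fin (n + 2)) : ℕ) < n + 1 ∧ ((σ 0 : Fin (n + 2)) : ℕ) - 1 + 1 = (σ 0 : Fin (n + 2)) ∨ _)
      right; right; left
      exact ⟨by omega, by omega⟩) (fun e => by
        have := congrArg Fin.val e
        simp only at this
        omega)
    have e2 := key0 ⟨(σ 0 : Fin (n + 2)) + 1, by omega⟩ (by
      rw [adj_iff]
      show ((σ 0 : Fin (n + 2)) : ℕ) = (σ 0 : Fin (n + 2)) + 1 ∨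
        (((σ 0 : Fin (n + 2)) : ℕ) + 1 < n + 1 ∧ ((σ 0 : Fin (n + 2)) : ℕ) + 1 = (σ 0 : Fin (n + 2)) + 1 ∨ _) ∨ _
      right; left; left
      exact ⟨by omega, rfl⟩) (fun e => by
        have := congrArg Fin.val e
        simp only at this
        omega)
    have := congrArg Fin.val (e1.trans e2.symm)
    simp only at this
    omega
  -- so `σ 1` is the branch node
  have hb : σ ⟨1, by omega⟩ = ⟨n - 1, by omega⟩ := by
    symm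
    apply key0
    · rw [adj_iff]
      show ((σ 0 : Fin (n + 2)) : ℕ) = n - 1 ∨ _ ∨
        (((σ 0 : Fin (n + 2)) : ℕ) < n + 1 ∧ n - 1 + 1 = ((σ 0 : Fin (n + 2)) : ℕ) ∨
          ((σ 0 : Fin (n + 2)) : ℕ) = n + 1 ∧ n - 1 + 2 = ((σ 0 : Fin (n + 2)) : ℕ))
      right; right
      omega
    · intro e
      have := congrArg Fin.val e
      simp only at this
      omega
  -- `1` has two neighbours, the branch node has three
  have key1 : ∀ j : Fin (n + 2), M n (⟨n - 1, by omega⟩ : Fin (n + 2)) j ≠ 2 → (j : ℕ) ≠ n - 1 →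
      j = σ 0 ∨ j = σ ⟨2, by omega⟩ := by
    intro j hj hj0
    have h1 : M n (⟨1, by omega⟩ : Fin (n + 2)) (σ.symm j) ≠ 2 := by
      rw [← h ⟨1, by omega⟩ (σ.symm j), Equiv.apply_symm_apply, hb]
      exact hj
    rw [adj_iff] at h1
    have h1' : 1 = ((σ.symm j : Fin (n + 2)) : ℕ) ∨ (((σ.symm j : Fin (n + 2)) : ℕ) < n + 1 ∧
        1 + 1 = ((σ.symm j : Fin (n + 2)) : ℕ) ∨ ((σ.symm j : Fin (n + 2)) : ℕ) = n + 1 ∧
        1 + 2 = ((σ.symm j : Fin (n + 2)) : ℕ)) ∨ (1 < n + 1 ∧ ((σ.symm j : Fin (n + 2)) : ℕ) + 1 = 1 ∨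
        1 = n + 1 ∧ ((σ.symm j : Fin (n + 2)) : ℕ) + 2 = 1) := h1
    have h2 : ((σ.symm j : Fin (n + 2)) : ℕ) ≠ 1 := by
      intro e
      have e' : σ.symm j = ⟨1, by omega⟩ := Fin.ext e
      apply hj0
      rw [← Equiv.apply_symm_apply σ j, e', hb]
    have h3 : ((σ.symm j : Fin (n + 2)) : ℕ) = 0 ∨ ((σ.symm j : Fin (n + 2)) : ℕ) = 2 := by omega
    rcases h3 with h4 | h4
    · left
      have e' : σ.symm j = 0 := Fin.ext h4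
      rw [← e', Equiv.apply_symm_apply]
    · right
      have e' : σ.symm j = ⟨2, by omega⟩ := Fin.ext h4
      rw [← e', Equiv.apply_symm_apply]
  have e1 := key1 ⟨n - 2, by omega⟩ (by
    rw [adj_iff]
    show n - 1 = n - 2 ∨ _ ∨ (n - 1 < n + 1 ∧ n - 2 + 1 = n - 1 ∨ _)
    right; right; left
    exact ⟨by omega, by omega⟩) (by show n - 2 ≠ n - 1; omega)
  have e2 := key1 ⟨n, by omega⟩ (by
    rw [adj_iff]
    show n - 1 = n ∨ (n < n + 1 ∧ n - 1 + 1 = n ∨ _) ∨ _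
    right; left; left
    exact ⟨by omega, by omega⟩) (by show n ≠ n - 1; omega)
  have e3 := key1 ⟨n + 1, by omega⟩ (by
    rw [adj_iff]
    show n - 1 = n + 1 ∨ (_ ∨ n + 1 = n + 1 ∧ n - 1 + 2 = n + 1) ∨ _
    right; left; right
    exact ⟨rfl, by omega⟩) (by show n + 1 ≠ n - 1; omega)
  have hne : ∀ {a b : ℕ} (ha : a < n + 2) (hb : b < n + 2), a ≠ b → (⟨a, ha⟩ : Fin (n + 2)) ≠ ⟨b, hb⟩ :=
    fun ha hb h e => h (congrArg Fin.val e)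
  rcases e1 with e1 | e1 <;> rcases e2 with e2 | e2 <;> rcases e3 with e3 | e3
  · exact hne _ _ (by omega) (e1.trans e2.symm)
  · exact hne _ _ (by omega) (e1.trans e2.symm)
  · exact hne _ _ (by omega) (e1.trans e3.symm)
  · exact hne _ _ (by omega) (e2.trans e3.symm)
  · exact hne _ _ (by omega) (e2.trans e3.symm)
  · exact hne _ _ (by omega) (e1.trans e3.symm)
  · exact hne _ _ (by omega) (e1.trans e2.symm)
  · exact hne _ _ (by omega) (e1.trans e2.symm)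

/-- the entries of `D₄` -/
abbrev E4 (i j : Fin (2 + 2)) : ℕ := M 2 i j

/-- symmetries of `D₄` -/
abbrev Sym4 (σ : Equiv.Perm (Fin (2 + 2))) : Prop := ∀ i j : Fin (2 + 2), E4 (σ i) (σ j) = E4 i j

theorem D4_search : ∀ σ : Equiv.Perm (Fin (2 + 2)), Sym4 σ → ∀ τ : Equiv.Perm (Fin (2 + 2)), Sym4 τ → σ ≠ 1 → τ ≠ 1 → σ ≠ τ →
    σ ^ 3 = 1 ∨ τ ^ 3 = 1 ∨ ((σ * τ) ^ 3 = 1 ∧ σ * τ ≠ 1) := by
  decide +kernel

theorem diagTwo_D (n : ℕ) (hn : 2 ≤ n) : DiagTwo (M n) := by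
  rcases Nat.lt_or_ge n 3 with h3 | h3
  · obtain rfl : n = 2 := by omega
    intro P hP hs σ hσ τ hτ hσ1 hτ1
    by_contra hne
    have key : ∀ ν ∈ P, ν ^ 3 = 1 → ν = 1 := by
      intro ν hν h3
      obtain ⟨k, hk⟩ := hP ⟨ν, hν⟩
      have hk' : ν ^ 2 ^ k = 1 := congrArg Subtype.val hk
      have h1 : orderOf ν ∣ 2 ^ k := orderOf_dvd_of_pow_eq_one hk'
      have h2 : orderOf ν ∣ 3 := orderOf_dvd_of_pow_eq_one h3
      have h4 : Nat.Coprime (2 ^ k) 3 := Nat.Coprime.pow_left k (by norm_num)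
      have h5 := Nat.dvd_gcd h1 h2
      rw [h4] at h5
      exact orderOf_eq_one_iff.1 (Nat.dvd_one.1 h5)
    rcases D4_search σ (hs σ hσ) τ (hs τ hτ) hσ1 hτ1 hne with h1 | h1 | ⟨h1, h2⟩
    · exact hσ1 (key σ hσ h1)
    · exact hτ1 (key τ hτ h1)
    · exact h2 (key _ (mul_mem hσ hτ) h1)
  · intro P _ hs σ hσ τ hτ hσ1 hτ1
    exact eq_of_fix (by omega) (hs σ hσ) (hs τ hτ) (fix_zero h3 σ (hs σ hσ)) (fix_zero h3 τ (hs τ hτ)) hσ1 hτ1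

/-! ### Type `E` -/

/-- the entries of `E₆` -/
abbrev E6 (i j : Fin 6) : ℕ := CoxeterMatrix.E₆ i j

/-- the entries of `E₇` -/
abbrev E7 (i j : Fin 7) : ℕ := CoxeterMatrix.E₇ i j

/-- the entries of `E₈` -/
abbrev E8 (i j : Fin 8) : ℕ := CoxeterMatrix.E₈ i j

set_option maxRecDepth 100000

set_option maxSynthPendingDepth 100 in
set_option synthInstance.maxHeartbeats 2000000 in
set_option synthInstance.maxSize 100000 in
theorem e6_search : ∀ s3 : Fin 6, ∀ s1 : Fin 6, (E6 s3 s1 = E6 3 1) → ∀ s2 : Fin 6, (E6 s3 s2 = E6 3 2 ∧ E6 s1 s2 = E6 1 2) → ∀ s4 : Fin 6, (E6 s3 s4 = E6 3 4 ∧ E6 s1 s4 = E6 1 4 ∧ E6 s2 s4 = E6 2 4) → ∀ s0 : Fin 6, (E6 s3 s0 = E6 3 0 ∧ E6 s1 s0 = E6 1 0 ∧ E6 s2 s0 = E6 2 0 ∧ E6 s4 s0 = E6 4 0) → ∀ s5 : Fin 6, (E6 s3 s5 = E6 3 5 ∧ E6 s1 s5 = E6 1 5 ∧ E6 s2 s5 = E6 2 5 ∧ E6 s4 s5 = E6 4 5 ∧ E6 s0 s5 = E6 0 5) → (s0 = 0 ∧ s1 = 1 ∧ s2 = 2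 ∧ s3 = 3 ∧ s4 = 4 ∧ s5 = 5) ∨ (s0 = 5 ∧ s1 = 1 ∧ s2 = 4 ∧ s3 = 3 ∧ s4 = 2 ∧ s5 = 0) := by
  decide +kernel

set_option maxSynthPendingDepth 100 in
set_option synthInstance.maxHeartbeats 2000000 in
set_option synthInstance.maxSize 100000 in
theorem e7_search : ∀ s3 : Fin 7, ∀ s1 : Fin 7, (E7 s3 s1 = E7 3 1) → ∀ s2 : Fin 7, (E7 s3 s2 = E7 3 2 ∧ E7 s1 s2 = E7 1 2) → ∀ s4 : Fin 7, (E7 s3 s4 = E7 3 4 ∧ E7 s1 s4 = E7 1 4 ∧ E7 s2 s4 = E7 2 4) → ∀ s0 : Fin 7, (E7 s3 s0 = E7 3 0 ∧ E7 s1 s0 = E7 1 0 ∧ E7 s2 s0 = E7 2 0 ∧ E7 s4 s0 = E7 4 0) → ∀ s5 : Fin 7, (E7 s3 s5 = E7 3 5 ∧ E7 s1 s5 = E7 1 5 ∧ E7 s2 s5 = E7 2 5 ∧ E7 s4 s5 = E7 4 5 ∧ E7 s0 s5 = E7 0 5) → ∀ s6 : Fin 7, (E7 s3 s6 = E7 3 6 ∧ E7 s1 s6 = E7 1 6 ∧ E7 s2 s6 = E7 2 6 ∧ E7 s4 s6 = E7 4 6 ∧ E7 s0 s6 = E7 0 6 ∧ E7 s5 s6 = E7 5 6) → (s0 = 0 ∧ s1 = 1 ∧ s2 = 2 ∧ s3 = 3 ∧ s4 = 4 ∧ s5 = 5 ∧ s6 = 6) := by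
  decide +kernel

set_option maxSynthPendingDepth 100 in
set_option synthInstance.maxHeartbeats 2000000 in
set_option synthInstance.maxSize 100000 in
theorem e8_search : ∀ s3 : Fin 8, ∀ s1 : Fin 8, (E8 s3 s1 = E8 3 1) → ∀ s2 : Fin 8, (E8 s3 s2 = E8 3 2 ∧ E8 s1 s2 = E8 1 2) → ∀ s4 : Fin 8, (E8 s3 s4 = E8 3 4 ∧ E8 s1 s4 = E8 1 4 ∧ E8 s2 s4 = E8 2 4) → ∀ s0 : Fin 8, (E8 s3 s0 = E8 3 0 ∧ E8 s1 s0 = E8 1 0 ∧ E8 s2 s0 = E8 2 0 ∧ E8 s4 s0 = E8 4 0) → ∀ s5 : Fin 8, (E8 s3 s5 = E8 3 5 ∧ E8 s1 s5 = E8 1 5 ∧ E8 s2 s5 = E8 2 5 ∧ E8 s4 s5 = E8 4 5 ∧ E8 s0 s5 = E8 0 5) → ∀ s6 : Fin 8, (E8 s3 s6 = E8 3 6 ∧ E8 s1 s6 = E8 1 6 ∧ E8 s2 s6 = E8 2 6 ∧ E8 s4 s6 = E8 4 6 ∧ E8 s0 s6 = E8 0 6 ∧ E8 s5 s6 = E8 5 6) → ∀ s7 : Fin 8, (E8 s3 s7 = E8 3 7 ∧ E8 s1 s7 = E8 1 7 ∧ E8 s2 s7 = E8 2 7 ∧ E8 s4 s7 = E8 4 7 ∧ E8 s0 s7 = E8 0 7 ∧ E8 s5 s7 = E8 5 7 ∧ E8 s6 s7 = E8 6 7) → (s0 = 0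 ∧ s1 = 1 ∧ s2 = 2 ∧ s3 = 3 ∧ s4 = 4 ∧ s5 = 5 ∧ s6 = 6 ∧ s7 = 7) := by
  decide +kernel


theorem diagTwo_E6 : DiagTwo CoxeterMatrix.E₆ := by
  have key : ∀ σ : Equiv.Perm (Fin 6), (∀ i j, CoxeterMatrix.E₆ (σ i) (σ j) = CoxeterMatrix.E₆ i j) →
      (σ 0 = 0 ∧ σ 1 = 1 ∧ σ 2 = 2 ∧ σ 3 = 3 ∧ σ 4 = 4 ∧ σ 5 = 5) ∨
        (σ 0 = 5 ∧ σ 1 = 1 ∧ σ 2 = 4 ∧ σ 3 = 3 ∧ σ 4 = 2 ∧ σ 5 = 0) := fun σ h =>
    e6_search (σ 3) (σ 1) (h _ _) (σ 2) ⟨h _ _, h _ _⟩ (σ 4) ⟨h _ _, h _ _, h _ _⟩ (σ 0)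
      ⟨h _ _, h _ _, h _ _, h _ _⟩ (σ 5) ⟨h _ _, h _ _, h _ _, h _ _, h _ _⟩
  refine diagTwo_of (c := 0) (c' := 5) (fun σ h h0 => ?_) fun σ h => (key σ h).imp (fun h1 => h1.1) fun h1 => h1.1
  rcases key σ h with ⟨-, h1, h2, h3, h4, h5⟩ | ⟨h1, -⟩
  · ext i
    fin_cases i
    · exact congrArg Fin.val h0
    · exact congrArg Fin.val h1
    · exact congrArg Fin.val h2
    · exact congrArg Fin.val h3
    · exact congrArg Fin.val h4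
    · exact congrArg Fin.val h5
  · rw [h0] at h1
    exact absurd h1 (by decide)

theorem diagTwo_E7 : DiagTwo CoxeterMatrix.E₇ := by
  refine diagTwo_of_rigid fun σ h => ?_
  obtain ⟨h0, h1, h2, h3, h4, h5, h6⟩ := e7_search (σ 3) (σ 1) (h _ _) (σ 2) ⟨h _ _, h _ _⟩ (σ 4)
    ⟨h _ _, h _ _, h _ _⟩ (σ 0) ⟨h _ _, h _ _, h _ _, h _ _⟩ (σ 5) ⟨h _ _, h _ _, h _ _, h _ _, h _ _⟩ (σ 6)
    ⟨h _ _, h _ _, h _ _, h _ _, h _ _, h _ _⟩
  ext i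
  fin_cases i
  · exact congrArg Fin.val h0
  · exact congrArg Fin.val h1
  · exact congrArg Fin.val h2
  · exact congrArg Fin.val h3
  · exact congrArg Fin.val h4
  · exact congrArg Fin.val h5
  · exact congrArg Fin.val h6

theorem diagTwo_E8 : DiagTwo CoxeterMatrix.E₈ := by
  refine diagTwo_of_rigid fun σ h => ?_
  obtain ⟨h0, h1, h2, h3, h4, h5, h6, h7⟩ := e8_search (σ 3) (σ 1) (h _ _) (σ 2) ⟨h _ _, h _ _⟩ (σ 4)
    ⟨h _ _, h _ _, h _ _⟩ (σ 0) ⟨h _ _, h _ _, h _ _, h _ _⟩ (σ 5) ⟨h _ _, h _ _, h _ _, h _ _, h _ _⟩ (σ 6)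
    ⟨h _ _, h _ _, h _ _, h _ _, h _ _, h _ _⟩ (σ 7) ⟨h _ _, h _ _, h _ _, h _ _, h _ _, h _ _, h _ _⟩
  ext i
  fin_cases i
  · exact congrArg Fin.val h0
  · exact congrArg Fin.val h1
  · exact congrArg Fin.val h2
  · exact congrArg Fin.val h3
  · exact congrArg Fin.val h4
  · exact congrArg Fin.val h5
  · exact congrArg Fin.val h6
  · exact congrArg Fin.val h7

end Cfsg.Agent.OddHalf.D7Out.Diagram
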