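import Cfsg.Agent.OddHalf.D7Out.Front
import Cfsg.Agent.OddHalf.D7Out.FrGen
import Cfsg.Agent.OddHalf.D7Out.TransGen
import Cfsg.Agent.OddHalf.D7Out.TransMin
import Cfsg.Agent.OddHalf.D7Out.Diagram
import Cfsg.Agent.KFacts.RgdTau

/-!
# D7, the front: the outer part `T / R U` for a group `K` with a root group datum (helper875)

* `exists_g` : `T → Sym I × Aut F` with kernel `R U`;
* `hcyc_of` : the form of `TransGen.false_of_cyclic`;
* `false_of_small` : the isolated case is impossible if the image is cyclic.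
-/

set_option autoImplicit false
set_option linter.unusedSectionVars false

namespace Cfsg.Agent.OddHalf.D7Out.Outer

open CoxeterSystem Cfsg.Agent.ChevalleyStructure.CoxeterGeom Cfsg.Agent.Tits.Roots Cfsg.Agent.Tits.Core
  Cfsg.Agent.Tits.Exchange Cfsg.Agent.Nodes.Reps Cfsg.Agent.Nodes.BNOf Cfsg.Agent.Nodes.StabComb
  Cfsg.Agent.Nodes.Bruhat Cfsg.Agent.Nodes.OppDec Cfsg.Agent.Nodes.LeviDec Cfsg.Agent.Nodes.NormalForm
  Cfsg.Agent.KFacts.RgdOpp Cfsg.Agent.KFacts.RgdAut Cfsg.Agent.KFacts.RgdDiag Cfsg.Agent.KFacts.RgdRigid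
  Cfsg.Agent.KFacts.RgdField Cfsg.Agent.KFacts.RgdTau
open scoped commutatorElement

section Abstract

variable {G : Type*} [Group G] {t v : G} {K U Z T : Subgroup G}

/-- `T` normalizes `U` -/
theorem U_conj (E : Defs.Fr t v K U Z T) {y u : G} (hy : y ∈ T) : y * u * y⁻¹ ∈ U ↔ u ∈ U := by
  have key : ∀ y ∈ T, ∀ u ∈ U, y * u * y⁻¹ ∈ U := by
    intro y hy u hu
    rw [E.U_eq] at hu ⊢
    exact ⟨T.mul_mem (T.mul_mem hy hu.1) (T.inv_mem hy),
      (Subgroup.mem_normalizer_iff.1 (E.nK y (E.tc y hy)) u).1 hu.2⟩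
  refine ⟨fun h => ?_, key y hy u⟩
  have := key y⁻¹ (T.inv_mem hy) _ h
  have e : y⁻¹ * (y * u * y⁻¹) * y⁻¹⁻¹ = u := by group
  rwa [e] at this

/-- the kernel: `y` acts on `K` as an element of `U` iff `y ∈ R U` -/
theorem conj_iff (E : Defs.Fr t v K U Z T) {y : G} (hy : y ∈ T) {P : Subgroup ↥K} (hU : U = P.map K.subtype) :
    (∃ u ∈ P, FrGen.cjK (E.nK y (E.tc y hy)) = MulAut.conj u) ↔ ∃ r ∈ Subgroup.zpowers v, ∃ u ∈ U, y = r * u := by
  constructor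
  · rintro ⟨u, hu, e⟩
    have huU : (u : G) ∈ U := by rw [hU]; exact ⟨u, hu, rfl⟩
    have hr : y * (u : G)⁻¹ ∈ Subgroup.zpowers v := by
      apply E.cK
      · have h1 := E.tc y hy
        have h2 := Front.Kt E u.2
        have h3 : (u : G)⁻¹ * t = t * (u : G)⁻¹ := by
          rw [inv_mul_eq_iff_eq_mul, ← mul_assoc, h2, mul_inv_cancel_right]
        calc y * (u : G)⁻¹ * t = y * (t * (u : G)⁻¹) := by rw [mul_assoc, h3]
          _ = t * (y * (u : G)⁻¹) := by rw [← mul_assoc, h1, mul_assoc]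
      · intro k hk
        have h1 : (u : G)⁻¹ * k * u ∈ K := K.mul_mem (K.mul_mem (K.inv_mem u.2) hk) u.2
        have h2 : y * ((u : G)⁻¹ * k * u) * y⁻¹ = u * ((u : G)⁻¹ * k * u) * (u : G)⁻¹ :=
          congrArg Subtype.val (DFunLike.congr_fun e (⟨(u : G)⁻¹ * k * u, h1⟩ : ↥K))
        have h3 : y * ((u : G)⁻¹ * k * u) * y⁻¹ = k := by rw [h2]; group
        calc k * (y * (u : G)⁻¹) = (y * ((u : G)⁻¹ * k * u) * y⁻¹) * (y * (u : G)⁻¹) := by rw [h3]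
          _ = y * (u : G)⁻¹ * k := by group
    exact ⟨y * (u : G)⁻¹, hr, u, huU, by group⟩
  · rintro ⟨r, hr, u, hu, e⟩
    rw [hU] at hu
    obtain ⟨u, huP, rfl⟩ := hu
    refine ⟨u, huP, ?_⟩
    ext k
    show y * k * y⁻¹ = u * k * (u : G)⁻¹
    have h1 : ((u : G) * k * (u : G)⁻¹) * r = r * ((u : G) * k * (u : G)⁻¹) :=
      Front.K_comm_R E (mul_mem (mul_mem u.2 k.2) (inv_mem u.2)) hr
    have e' : y = r * (u : G) := e
    rw [e']
    calc r * (u : G) * k * (r * (u : G))⁻¹ = r * ((u : G) * k * (u : G)⁻¹) * r⁻¹ := by group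
      _ = (u : G) * k * (u : G)⁻¹ := by rw [← h1]; group

/-- the form of the hypothesis of `TransGen.false_of_cyclic` -/
theorem hcyc_of {B : Type*} [Group B] (g : ↥T →* B)
    (hg : ∀ y : ↥T, g y = 1 → ∃ r ∈ Subgroup.zpowers v, ∃ u ∈ U, (y : G) = r * u)
    {s : ↥T} (hs : ∀ y : ↥T, g y ∈ Subgroup.zpowers (g s)) :
    ∃ s ∈ T, ∀ x ∈ T, ∃ k : ℤ, ∃ r ∈ Subgroup.zpowers v, ∃ u ∈ U, x = s ^ k * r * u := by
  refine ⟨s, s.2, fun x hx => ?_⟩
  obtain ⟨k, hk⟩ := Subgroup.mem_zpowers_iff.1 (hs ⟨x, hx⟩)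
  obtain ⟨r, hr, u, hu, e⟩ := hg ((s ^ k)⁻¹ * ⟨x, hx⟩) (by
    rw [map_mul, map_inv, map_zpow, hk, inv_mul_cancel])
  refine ⟨k, r, hr, u, hu, ?_⟩
  have e' : ((s : G) ^ k)⁻¹ * x = r * u := e
  rw [mul_assoc, ← e']; group

/-- a subgroup `{1, b}` is cyclic -/
theorem exists_gen {B : Type*} [Group B] (g : ↥T →* B)
    (h2 : ∀ y y' : ↥T, g y ≠ 1 → g y' ≠ 1 → g y = g y') :
    ∃ s : ↥T, ∀ y : ↥T, g y ∈ Subgroup.zpowers (g s) := by
  by_cases h : ∃ s : ↥T, g s ≠ 1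
  · obtain ⟨s, hs⟩ := h
    refine ⟨s, fun y => ?_⟩
    by_cases hy : g y = 1
    · rw [hy]; exact one_mem _
    · rw [h2 y s hy hs]; exact Subgroup.mem_zpowers _
  · push Not at h
    exact ⟨1, fun y => by rw [h y]; exact one_mem _⟩

end Abstract

variable {I W : Type*} [Fintype I] [DecidableEq I] [Group W] {M : CoxeterMatrix I}
  {cs : CoxeterSystem M W} {A : I → I → ℤ} {h : IsCartan M A}
  {G : Type*} [Group G] {K : Subgroup G} {T₀ : Subgroup ↥K} {n : I → ↥K} {X : (I → ℤ) → Subgroup ↥K}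
  {F : Type*} [Field F] {x : (I → ℤ) → F → ↥K} {χ : (I → ℤ) → ↥K → F} {hh : I → F → ↥K}
  {t v : G} {U Z T : Subgroup G}

/-- the action of `T` on `K` -/
def act (E : Defs.Fr t v K U Z T) : ↥T →* MulAut ↥K :=
  FrGen.actK (fun y hy => E.nK y (E.tc y hy))

theorem act_apply (E : Defs.Fr t v K U Z T) (y : ↥T) (k : ↥K) :
    ((act E y k : ↥K) : G) = (y : G) * k * (y : G)⁻¹ := rfl

theorem act_eq (E : Defs.Fr t v K U Z T) (y : ↥T) : act E y = FrGen.cjK (E.nK y (E.tc y y.2)) := rfl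

theorem fix_act (E : Defs.Fr t v K U Z T) {P : Subgroup ↥K} (hU : U = P.map K.subtype) (y : ↥T) :
    Fix (act E y) P := by
  intro k
  have h1 : ∀ k : ↥K, (k : G) ∈ U ↔ k ∈ P := by
    intro k
    rw [hU]
    constructor
    · rintro ⟨k', hk', e⟩
      rwa [← Subtype.ext e]
    · intro hk
      exact ⟨k, hk, rfl⟩
  rw [← h1, ← h1]
  exact U_conj E y.2

/-- **The outer part of `T`.** -/
theorem exists_g [Finite G] [Finite W] [Nonempty I] [CharP F 2] (E : Defs.Fr t v K U Z T)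
    (hU : U = (RGD.Sup X (RGD.Pos cs h)).map K.subtype) (R : RGD cs h 2 T₀ n X)
    (hG1 : RGD.Sup X {x | IsRoot cs h x} = ⊤) (C : Coords cs h T₀ n X x χ) (H : Coroots A T₀ X χ hh)
    (hconn : ∀ J : Set I, J.Nonempty → J ≠ Set.univ → ∃ a ∈ J, ∃ b, b ∉ J ∧ M a b ≠ 2)
    (hA : ∀ σ : Equiv.Perm I, (∀ i j, M (σ i) (σ j) = M i j) → ∀ i j, A (σ i) (σ j) = A i j) :
    ∃ g : ↥T →* Equiv.Perm I × (F ≃+* F), ∀ y : ↥T,
      (∃ u ∈ RGD.Sup X (RGD.Pos cs h), Tau T₀ X χ A (MulAut.conj u * act E y) (g y).1 (g y).2) ∧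
      (g y = 1 ↔ ∃ r ∈ Subgroup.zpowers v, ∃ u ∈ U, (y : G) = r * u) := by
  have : Fact (Nat.Prime 2) := ⟨Nat.prime_two⟩
  have hSp : IsPGroup 2 ↥(act E).range := by
    have h1 : IsPGroup 2 ↥(⊤ : Subgroup ↥T) := E.pT.of_equiv Subgroup.topEquiv.symm
    have h2 := h1.map (act E)
    rwa [← MonoidHom.range_eq_map] at h2
  obtain ⟨f, hf⟩ := exists_outer R hG1 C H hconn hA hSp (fun α hα => by
    obtain ⟨y, rfl⟩ := hα
    exact fix_act E hU y)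
  refine ⟨f.comp (act E).rangeRestrict, fun y => ?_⟩
  obtain ⟨h1, h2⟩ := hf ((act E).rangeRestrict y)
  refine ⟨h1, ?_⟩
  rw [MonoidHom.comp_apply, h2]
  exact conj_iff E y.2 hU

/-- 2-groups of diagram symmetries have order at most two -/
abbrev DiagTwo {I : Type*} (M : CoxeterMatrix I) : Prop := Diagram.DiagTwo M

/-- the diagram symmetries of the elements of `T` -/
theorem diag_eq [Finite W] (R : RGD cs h 2 T₀ n X) (hM : DiagTwo M) (E : Defs.Fr t v K U Z T)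
    (g : ↥T →* Equiv.Perm I × (F ≃+* F))
    (hg : ∀ y : ↥T, ∃ u ∈ RGD.Sup X (RGD.Pos cs h), Tau T₀ X χ A (MulAut.conj u * act E y) (g y).1 (g y).2)
    {y y' : ↥T} (hy : (g y).1 ≠ 1) (hy' : (g y').1 ≠ 1) : (g y).1 = (g y').1 := by
  set γ : ↥T →* Equiv.Perm I := (MonoidHom.fst _ _).comp g with hγ
  refine hM γ.range ?_ ?_ _ ⟨y, rfl⟩ _ ⟨y', rfl⟩ hy hy'
  · have h1 : IsPGroup 2 ↥(⊤ : Subgroup ↥T) := E.pT.of_equiv Subgroup.topEquiv.symm
    have h2 := h1.map γ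
    rwa [← MonoidHom.range_eq_map] at h2
  · rintro _ ⟨y, rfl⟩
    obtain ⟨u, -, hu⟩ := hg y
    exact hu.diag.matrix R

/-- **(F1)**: `t` is not isolated in `Z(T)`. -/
theorem not_iso [Finite G] [Finite W] (hG : commutator G = ⊤) (R : RGD cs h 2 T₀ n X) (hM : DiagTwo M)
    (E : Defs.FrT t v K U Z T)
    (g : ↥T →* Equiv.Perm I × (F ≃+* F))
    (hg : ∀ y : ↥T, ∃ u ∈ RGD.Sup X (RGD.Pos cs h), Tau T₀ X χ A (MulAut.conj u * act E.toFr y) (g y).1 (g y).2)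
    (hg1 : ∀ y : ↥T, g y = 1 → ∃ r ∈ Subgroup.zpowers v, ∃ u ∈ U, (y : G) = r * u)
    {B : Type*} [CommGroup B] {lf : Subgroup.centralizer ({t} : Set G) →* B}
    {hT : T ≤ Subgroup.centralizer ({t} : Set G)} (L : Defs.Fld E.toFr lf hT)
    (hlf : ∀ y : ↥T, lf ⟨y, hT y.2⟩ = 1 → (g y).2 = 1) : ¬ Defs.Iso t T := by
  intro hiso
  have h1 := TransMin.lf_eq_one hG E hiso L
  have h2 : ∀ y : ↥T, (g y).2 = 1 := fun y => hlf y (h1 y y.2)
  obtain ⟨s, hs⟩ := exists_gen g (fun y y' hy hy' => by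
    refine Prod.ext (diag_eq R hM E.toFr g hg ?_ ?_) ((h2 y).trans (h2 y').symm)
    · exact fun h3 => hy (Prod.ext h3 (h2 y))
    · exact fun h3 => hy' (Prod.ext h3 (h2 y')))
  exact TransGen.false_of_cyclic hG E.toFr hiso (hcyc_of g hg1 hs)

end Cfsg.Agent.OddHalf.D7Out.Outer
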