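import Cfsg.Agent.OddHalf.D7Out.FrOf
import Cfsg.Agent.OddHalf.D7Out.Outer
import Cfsg.Agent.KFacts.RgdSys
import Cfsg.Agent.KFacts.SLRow.Def
import Cfsg.Agent.OddHalf.SL.OfDatum

/-!
# D7, the front for simply laced `K` (helper875)

`K` a simply laced group with root elements over a field `F` of characteristic two (`Datum ⊤ q`, `ChevTwo.Sys`), the
starting position `Start K t v`: **`front`** gives a Sylow 2-subgroup `T` of `C(t)` with `T ∩ K = U`, the outer part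
`g : T → Sym I × Aut F`, `C(K) ∩ C(t) = ⟨t⟩` and `n ∈ N(T)` with `n t n⁻¹ = t z`, `z ∈ Z(T) ∩ X ρ`, `z ≠ 1`.
-/

set_option autoImplicit false
set_option linter.unusedSectionVars false

namespace Cfsg.Agent.OddHalf.D7Out.FrontSL

open CoxeterSystem Cfsg.Agent.ChevalleyStructure.CoxeterGeom Cfsg.Agent.Tits.Roots Cfsg.Agent.Tits.Core
  Cfsg.Agent.Tits.Exchange Cfsg.Agent.Nodes.Reps Cfsg.Agent.Nodes.BNOf Cfsg.Agent.Nodes.StabComb
  Cfsg.Agent.Nodes.Bruhat Cfsg.Agent.KFacts.RgdCent Cfsg.Agent.KFacts.RgdSL Cfsg.Agent.KFacts.RgdTI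
  Cfsg.Agent.KFacts.SLRow.Def Cfsg.Agent.KFacts.ChevTwo Cfsg.Agent.KFacts.RgdSys Cfsg.Agent.KFacts.RgdTau
  Cfsg.Agent.KFacts.RgdField Cfsg.Agent.OddHalf.SL.Index Cfsg.Agent.OddHalf.SL.PreOf
  Cfsg.Agent.Nodes.Coroot Cfsg.Agent.Tits.RootComb Cfsg.Agent.Nodes.Comb
open scoped commutatorElement

variable {I W : Type*} [Fintype I] [DecidableEq I] [Group W] {M : CoxeterMatrix I}
  {cs : CoxeterSystem M W} {A : I → I → ℤ} {h : IsCartan M A}
  {G : Type*} [Group G] {K : Subgroup G} {T₀ : Subgroup ↥K} {n : I → ↥K} {X : (I → ℤ) → Subgroup ↥K} {q : ℕ}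
  {F : Type*} [Field F] {e : (I → ℤ) → F → ↥K} {t v : G}

/-- the output of the front -/
structure Out (cs : CoxeterSystem M W) (h : IsCartan M A) (T₀ : Subgroup ↥K) (X : (I → ℤ) → Subgroup ↥K)
    (e : (I → ℤ) → F → ↥K) (t v : G) (ρ : I → ℤ) (T : Subgroup G) (g : ↥T →* Equiv.Perm I × (F ≃+* F))
    (m z : G) : Prop where
  root : IsRoot cs h ρ
  dom : ∀ i, 0 ≤ cpr cs h (sr i) ρ
  fr : Defs.FrT t v K ((RGD.Sup X (RGD.Pos cs h)).map K.subtype) ((X ρ).map K.subtype) T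
  gTau : ∀ y : ↥T, ∃ u ∈ RGD.Sup X (RGD.Pos cs h),
    Tau T₀ X (chS e) A (MulAut.conj u * Outer.act fr.toFr y) (g y).1 (g y).2
  gker : ∀ y : ↥T, g y = 1 ↔
    ∃ r ∈ Subgroup.zpowers v, ∃ u ∈ (RGD.Sup X (RGD.Pos cs h)).map K.subtype, (y : G) = r * u
  /-- `R = ⟨t⟩` -/
  R2 : ∀ r ∈ Subgroup.zpowers v, r = 1 ∨ r = t
  mT : m ∈ Subgroup.normalizer (T : Set G)
  zX : z ∈ (X ρ).map K.subtype
  z1 : z ≠ 1
  zT : ∀ x ∈ T, x * z = z * x
  mt : m * t * m⁻¹ = t * z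

/-- `⟨v⟩ = ⟨t⟩` -/
theorem zpowers_eq {t v : G} (htv : t ∈ Subgroup.zpowers v) (hR2 : ∀ r ∈ Subgroup.zpowers v, r = 1 ∨ r = t) :
    Subgroup.zpowers v = Subgroup.zpowers t := by
  apply le_antisymm
  · intro r hr
    rcases hR2 r hr with rfl | rfl
    · exact one_mem _
    · exact Subgroup.mem_zpowers _
  · rwa [Subgroup.zpowers_le]

/-- the frame with `v = t` -/
theorem fr_tt {t v : G} {U Z T : Subgroup G} (E : Defs.Fr t v K U Z T)
    (hR2 : ∀ r ∈ Subgroup.zpowers v, r = 1 ∨ r = t) : Defs.Fr t t K U Z T := by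
  have e := zpowers_eq E.tR hR2
  have htT : t ∈ T := Front.tT E
  exact
    { tt := E.tt
      t1 := E.t1
      pR := e ▸ E.pR
      tR := Subgroup.mem_zpowers t
      nK := E.nK
      vK := fun x hx => Front.Kt E hx
      cK := fun c h1 h2 => e ▸ E.cK c h1 h2
      KR := fun x hx hx' => E.KR x hx (e ▸ hx')
      pT := E.pT
      vT := htT
      tc := E.tc
      max := E.max
      U_eq := E.U_eq
      ZU := E.ZU
      Zc := E.Zc
      Zsq := E.Zsq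
      Z1 := E.Z1
      cU := fun x hx hc => by
        obtain ⟨r, hr, z, hz, h1⟩ := E.cU x hx hc
        exact ⟨r, e ▸ hr, z, hz, h1⟩
      nconj := E.nconj }

theorem frT_tt {t v : G} {U Z T : Subgroup G} (E : Defs.FrT t v K U Z T)
    (hR2 : ∀ r ∈ Subgroup.zpowers v, r = 1 ∨ r = t) : Defs.FrT t t K U Z T :=
  ⟨fr_tt E.toFr hR2, E.trans⟩

/-- the output with `v = t` -/
theorem Out.tt {t v : G} {ρ : I → ℤ} {T : Subgroup G} {g : ↥T →* Equiv.Perm I × (F ≃+* F)} {m z : G}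
    (O : Out cs h T₀ X e t v ρ T g m z) : Out cs h T₀ X e t t ρ T g m z where
  root := O.root
  dom := O.dom
  fr := frT_tt O.fr O.R2
  gTau := O.gTau
  gker := fun y => by rw [← zpowers_eq O.fr.tR O.R2]; exact O.gker y
  R2 := fun r hr => O.R2 r (by rw [zpowers_eq O.fr.tR O.R2]; exact hr)
  mT := O.mT
  zX := O.zX
  z1 := O.z1
  zT := O.zT
  mt := O.mt

/-- the perfect subgroup `L` of `C_K(X r)` containing `X r` -/
def HasP (cs : CoxeterSystem M W) (h : IsCartan M A) (X : (I → ℤ) → Subgroup ↥K) : Prop :=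
  ∀ r, IsRoot cs h r → ∃ L : Subgroup ↥K, ⁅L, L⁆ = L ∧ X r ≤ L ∧ ∀ y ∈ L, ∀ x ∈ X r, y * x = x * y

/-- the field part (K-facts of helper909) -/
def HasFld (cs : CoxeterSystem M W) (h : IsCartan M A) (T₀ : Subgroup ↥K) (X : (I → ℤ) → Subgroup ↥K)
    (e : (I → ℤ) → F → ↥K) (t v : G) : Prop :=
  ∀ (ρ : I → ℤ) (T : Subgroup G) (g : ↥T →* Equiv.Perm I × (F ≃+* F)), IsRoot cs h ρ →
    (∀ i, 0 ≤ cpr cs h (sr i) ρ) →
    ∀ E : Defs.Fr t v K ((RGD.Sup X (RGD.Pos cs h)).map K.subtype) ((X ρ).map K.subtype) T,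
    (∀ y : ↥T, ∃ u ∈ RGD.Sup X (RGD.Pos cs h),
      Tau T₀ X (chS e) A (MulAut.conj u * Outer.act E y) (g y).1 (g y).2) →
    ∃ (B : Type) (_ : CommGroup B) (lf : Subgroup.centralizer ({t} : Set G) →* B)
      (hT : T ≤ Subgroup.centralizer ({t} : Set G)), Defs.Fld E lf hT ∧
        ∀ y : ↥T, lf ⟨y, hT y.2⟩ = 1 → (g y).2 = 1

/-- the field part is trivial if `Aut F` has odd order, e.g. for `|F| = 2` -/
theorem hasFld_of (hF : ∀ τ : F ≃+* F, (∃ k : ℕ, τ ^ 2 ^ k = 1) → τ = 1) : HasFld cs h T₀ X e t v := by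
  intro ρ T g _ _ E _
  have h1 : ∀ y : ↥T, (g y).2 = 1 := by
    intro y
    apply hF
    obtain ⟨k, hk⟩ := E.pT y
    refine ⟨k, ?_⟩
    have h2 := congrArg Prod.snd (congrArg g hk)
    rwa [map_pow, map_one, Prod.pow_snd] at h2
  refine ⟨PUnit, inferInstance, 1, fun x hx => Subgroup.mem_centralizer_singleton_iff.2 (E.tc x hx), ?_, fun y _ =>
    h1 y⟩
  constructor
  · intro _ _; rfl
  · intro _ _; rfl
  · intro _; exact ⟨0, rfl⟩
  · intro _ _ h2; exact absurd rfl h2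
  · intro _ _ h2; exact absurd rfl h2
  · rintro _ ⟨_, h2, -⟩; exact absurd rfl h2
  · rintro _ ⟨_, h2, -⟩; exact absurd rfl h2
  · rintro _ ⟨_, h2, -⟩; exact absurd rfl h2

/-- every root system has a dominant root -/
theorem exists_dom_root [Finite W] (R : RGD cs h 2 T₀ n X) (hL : ∀ a, IsRoot cs h a → LR R a) [Nonempty I] :
    ∃ ρ, IsRoot cs h ρ ∧ ∀ i, 0 ≤ cpr cs h (sr i) ρ := by
  obtain ⟨i⟩ := ‹Nonempty I›
  obtain ⟨w, hw⟩ := (hL _ (isRoot_sr cs h i)).exists_dominant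
  exact ⟨_, (isRoot_sr cs h i).act w, hw⟩

/-- **The front.** -/
theorem front [Finite G] [Finite W] [Finite F] [CharP F 2] (hG : commutator G = ⊤) (S : Front.FE.Start K t v)
    (hs : Schreier.Basic.Sch ↥K) (D : Datum (⊤ : Subgroup ↥K) q cs h T₀ n X) (Sy : Sys D.rgd e)
    (hM : Outer.DiagTwo M) (hP : HasP cs h X) (hF : HasFld cs h T₀ X e t v) :
    ∃ ρ T g m z, Out cs h T₀ X e t v ρ T g m z := by
  have hI : Nonempty I := Fintype.card_pos_iff.1 (by have := D.three; omega)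
  have hL := OddHalf.SL.OfDatum.lr D
  obtain ⟨ρ, hρ, hd⟩ := exists_dom_root D.rgd hL
  have hsl := OddHalf.SL.PreOf.sl (cs := cs) (h := h) D.h4 D.h6
  obtain ⟨s, hsr, hsρ⟩ := exists_neg_one D.h4 D.h6 D.irr D.three hρ
  have hX2 : ∀ a, IsRoot cs h a → ∀ x ∈ X a, x * x = 1 := by
    intro a ha x hx
    obtain ⟨c, rfl⟩ := (Sy.mem_X a ha x).1 hx
    rw [← Sy.data.add a ha, CharTwo.add_self_eq_zero]
    exact Sy.data.zero ha
  obtain ⟨T, E⟩ := FrOf.fr S D.rgd D.gen hsl hL D.cent hX2 hρ hd (OddHalf.SL.OfDatum.orth' D hρ) hsr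
    (by rw [← bf_eq_cpr D.h4 D.h6 _ hρ, (roots cs h D.h4 D.h6).symm]; exact hsρ)
    (fun L hLt hLp => FrGen.perf_le S.toStart0 hs hLt hLp) (by
      obtain ⟨L, hL1, hL2, hL3⟩ := hP ρ hρ
      refine ⟨L.map K.subtype, by rw [← Subgroup.map_commutator, hL1], Subgroup.map_mono hL2, ?_⟩
      rintro _ ⟨y, hy, rfl⟩ _ ⟨x, hx, rfl⟩
      exact congrArg Subtype.val (hL3 y hy x hx))
  have hconn : ∀ J : Set I, J.Nonempty → J ≠ Set.univ → ∃ a ∈ J, ∃ b, b ∉ J ∧ M a b ≠ 2 := by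
    intro J hJ hJ'
    obtain ⟨i, hi, j, hj, hij⟩ := D.irr J hJ (Set.nonempty_compl.2 hJ')
    exact ⟨i, hi, j, hj, hij⟩
  have hA : ∀ σ : Equiv.Perm I, (∀ i j, M (σ i) (σ j) = M i j) → ∀ i j, A (σ i) (σ j) = A i j := by
    intro σ hσ i j
    refine cartan_of_laced h ?_ hσ i j
    intro i j hij
    rcases h.rel i j hij with ⟨h0, -⟩ | ⟨h0, -⟩ | ⟨h0, -⟩ | ⟨h0, -⟩
    · exact Or.inl h0
    · exact Or.inr h0
    · exact absurd h0 (D.h4 _ _)
    · exact absurd h0 (D.h6 _ _)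
  obtain ⟨g, hg⟩ := Outer.exists_g E.toFr rfl D.rgd D.gen (coords Sy D.gen) (coroots Sy D.gen D.cent) hconn hA
  obtain ⟨B, _, lf, hT, hFld, hlf⟩ := hF ρ T g hρ hd E.toFr fun y => (hg y).1
  have hni := Outer.not_iso hG D.rgd hM E g (fun y => (hg y).1) (fun y => (hg y).2.1) hFld hlf
  obtain ⟨⟨m, hm, z, hz, hz1, hzT, hmt⟩, hR2⟩ := Front.exists_swap E.toFr hni
  exact ⟨ρ, T, g, m, z, hρ, hd, E, fun y => (hg y).1, fun y => (hg y).2, hR2, hm, hz, hz1, hzT, hmt⟩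

end Cfsg.Agent.OddHalf.D7Out.FrontSL
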