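import Cfsg.Agent.OddHalf.D7Out.RingOut
import Cfsg.Agent.OddHalf.SL.OfDatum
import Cfsg.Agent.KFacts.RgdTor

/-!
# The ring `W_ρ` for simply laced types

`Hyp` : a simply laced `Datum` of `K ≤ C(t)` with abelian torus, with doubled root groups `V r` (`YData`, `Dbl`).

* `comm_eq` : `⁅u, v⁆ = m v m⁻¹` for `u ∈ X a`, `v ∈ V b`, `(a, b) = -1`;
* `K_act` : an element of `K` normalising `X r` acts on `V r` as an element of `T`; `K_cent` : `C_K(z)` centralises `V r`;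
* `card_V` : `|V r| = |X r|²`;
* `inp` : the structure `RingOut.Inp`.
-/

set_option autoImplicit false
set_option linter.unusedSectionVars false

namespace Cfsg.Agent.OddHalf.D7Out.RingSL

open CoxeterSystem Cfsg.Agent.ChevalleyStructure.CoxeterGeom Cfsg.Agent.Tits.Roots Cfsg.Agent.Tits.Core
  Cfsg.Agent.Tits.RootComb Cfsg.Agent.Nodes.Comb Cfsg.Agent.Nodes.Reps Cfsg.Agent.Nodes.BNOf
  Cfsg.Agent.Nodes.Bruhat Cfsg.Agent.Nodes.OppDec Cfsg.Agent.Nodes.Coroot Cfsg.Agent.OddHalf.SL.Index Cfsg.Agent.OddHalf.SL.OfRGD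
  Cfsg.Agent.OddHalf.SL.PreOf Cfsg.Agent.KFacts.RgdPar Cfsg.Agent.KFacts.RgdSL Cfsg.Agent.KFacts.RgdTI
  Cfsg.Agent.KFacts.RgdCent Cfsg.Agent.KFacts.RgdOdd Cfsg.Agent.KFacts.SLRow.Def Cfsg.Agent.OddHalf.SL.Defs
open scoped commutatorElement

variable {I W G : Type*} [Fintype I] [DecidableEq I] [Group W] [Group G] {M : CoxeterMatrix I}
  {cs : CoxeterSystem M W} {A : I → I → ℤ} {h : IsCartan M A} {T : Subgroup G} {n : I → G}
  {X V : (I → ℤ) → Subgroup G} {K : Subgroup G} {q : ℕ} {t : G}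

/-- The hypotheses. -/
structure Hyp (K : Subgroup G) (q : ℕ) (cs : CoxeterSystem M W) {A : I → I → ℤ} (h : IsCartan M A) (T : Subgroup G)
    (n : I → G) (X V : (I → ℤ) → Subgroup G) (t : G) : Prop where
  D : Datum K q cs h T n X
  Kt : ∀ k ∈ K, t * k = k * t
  tab : ∀ s ∈ T, ∀ u ∈ T, s * u = u * s
  Y : YData D.rgd t V
  Dl : Dbl t (Bf A) {x | IsRoot cs h x} X V

namespace Hyp

variable [Finite W] [Finite G] (H : Hyp K q cs h T n X V t)

include H

theorem rts : Roots (Bf A) {x | IsRoot cs h x} := roots cs h H.D.h4 H.D.h6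

theorem tinv : t⁻¹ = t := inv_eq_of_mul_eq_one_left H.Dl.tt

theorem V_comm {r : I → ℤ} (hr : IsRoot cs h r) {v w : G} (hv : v ∈ V r) (hw : w ∈ V r) : v * w = w * v :=
  H.Y.ab r hr v hv w hw

theorem comm_pos {r s : I → ℤ} (hr : IsRoot cs h r) (hs : IsRoot cs h s) (h0 : 0 ≤ Bf A r s) {v w : G}
    (hv : v ∈ V r) (hw : w ∈ V s) : v * w = w * v := H.Dl.pos r hr s hs h0 v hv w hw

theorem comm_neg {r s : I → ℤ} (hr : IsRoot cs h r) (hs : IsRoot cs h s) (h0 : Bf A r s = -1) {v w : G}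
    (hv : v ∈ V r) (hw : w ∈ V s) : ⁅v, w⁆ ∈ V (r + s) := H.Dl.neg r hr s hs h0 v hv w hw

/-- `V r ∩ V s = 1`. -/
theorem disj {r s : I → ℤ} (hr : IsRoot cs h r) (hs : IsRoot cs h s) (hne : r ≠ s) {v : G} (hv : v ∈ V r)
    (hv' : v ∈ V s) : v = 1 := by
  have h1 := H.Dl.brk r hr v hv
  have h2 := H.Dl.brk s hs v hv'
  have hX := X_inf_X H.D.rgd hr hs hne
  have h3 : v⁻¹ * (t * v * t) = 1 := by
    have : v⁻¹ * (t * v * t) ∈ X r ⊓ X s := ⟨h1, h2⟩
    rwa [hX, Subgroup.mem_bot] at this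
  have h4 : t * v = v * t := by
    have h5 : t * v * t = v := by
      rw [inv_mul_eq_one] at h3; exact h3.symm
    calc t * v = t * v * (t * t) := by rw [H.Dl.tt, mul_one]
      _ = (t * v * t) * t := by group
      _ = v * t := by rw [h5]
  have h6 : v ∈ X r ⊓ X s := ⟨(H.Dl.cent r hr v hv).1 h4, (H.Dl.cent s hs v hv').1 h4⟩
  rwa [hX, Subgroup.mem_bot] at h6

/-- `⁅u, v⁆ = m v m⁻¹`. -/
theorem comm_eq {a b : I → ℤ} (ha : IsRoot cs h a) (hb : IsRoot cs h b) (hab : Bf A a b = -1) {u : G} (_hu : u ∈ X a)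
    {c d m : G} (hc : c ∈ X (-a)) (hd : d ∈ X (-a)) {s : W} (hs : ∀ y, rep cs h s y = y - cpr cs h y a • a)
    (hm : Rp cs H.D.rgd.nsys s m) (he : m = c * u * d) {v : G} (hv : v ∈ V b) : ⁅u, v⁆ = m * v * m⁻¹ := by
  have hR := H.rts
  have haa := hR.two a ha
  have hbb := hR.two b hb
  have hsum : IsRoot cs h (a + b) := hR.add a ha b hb hab
  have hba : Bf A b a = -1 := by rw [hR.symm]; exact hab
  have e0 : rep cs h s b = a + b := by
    rw [hs, ← bf_eq_cpr H.D.h4 H.D.h6 b ha, hba]; module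
  have hmv : m * v * m⁻¹ ∈ V (a + b) := by
    have := H.Y.eqv s m hm b hb v hv
    rwa [e0] at this
  have hu : u ∈ V a := H.Dl.XW a ha _hu
  have hw : ⁅u, v⁆ ∈ V (a + b) := H.comm_neg ha hb hab hu hv
  have hna : 0 ≤ Bf A (-a) b := by rw [hR.neg_left, hab]; norm_num
  have hdv : d * v * d⁻¹ = v := by
    have h1 := H.comm_pos ha.neg hb hna (H.Dl.XW _ ha.neg hd) hv
    rw [h1]; group
  have hcv : c * v * c⁻¹ = v := by
    have h1 := H.comm_pos ha.neg hb hna (H.Dl.XW _ ha.neg hc) hv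
    rw [h1]; group
  have hcw : ⁅c, ⁅u, v⁆⁆ ∈ V b := by
    have h1 := H.comm_neg ha.neg hsum (by rw [hR.neg_left, hR.add_right, haa, hab]; norm_num)
      (H.Dl.XW _ ha.neg hc) hw
    have e1 : -a + (a + b) = b := by abel
    rwa [e1] at h1
  have hvw : ⁅u, v⁆ * v = v * ⁅u, v⁆ :=
    H.comm_pos hsum hb (by rw [hR.add_left, hab, hbb]; norm_num) hw hv
  have e2 : m * v * m⁻¹ = ⁅c, ⁅u, v⁆⁆ * v * ⁅u, v⁆ := by
    have h5 : m * v * m⁻¹ = c * u * (d * v * d⁻¹) * u⁻¹ * c⁻¹ := by rw [he]; group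
    have h6 : c * u * v * u⁻¹ * c⁻¹ = (c * ⁅u, v⁆ * c⁻¹) * (c * v * c⁻¹) := by
      rw [commutatorElement_def]; group
    rw [h5, hdv, h6, hcv]
    have h7 : c * ⁅u, v⁆ * c⁻¹ = ⁅c, ⁅u, v⁆⁆ * ⁅u, v⁆ := by rw [commutatorElement_def]; group
    rw [h7, mul_assoc, hvw, ← mul_assoc]
  have h8 : ⁅c, ⁅u, v⁆⁆ * v = 1 := by
    apply H.disj hb hsum ?_ (mul_mem hcw hv)
    · have : ⁅c, ⁅u, v⁆⁆ * v = m * v * m⁻¹ * ⁅u, v⁆⁻¹ := by rw [e2]; group
      rw [this]
      exact mul_mem hmv (inv_mem hw)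
    · intro h0
      exact ha.ne_zero (by simpa using h0.symm)
  rw [e2, h8, one_mul]

/-- the reflection element of `u ∈ X a` -/
theorem exists_m {a b : I → ℤ} (ha : IsRoot cs h a) (hb : IsRoot cs h b) (hab : Bf A a b = -1) {u : G}
    (hu : u ∈ X a) (hu1 : u ≠ 1) : ∃ (s : W) (m : G), (∀ y, rep cs h s y = y - cpr cs h y a • a) ∧
      Rp cs H.D.rgd.nsys s m ∧ ∀ v ∈ V b, ⁅u, v⁆ = m * v * m⁻¹ := by
  obtain ⟨s, hs, c, hc, d, hd, m, hm, he⟩ := exists_mu H.D.rgd ha hu hu1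
  exact ⟨s, m, hs, hm, fun v hv => H.comm_eq ha hb hab hu hc hd hs hm he hv⟩

theorem Tt {s : G} (hs : s ∈ T) : s * t = t * s := (H.Kt s (H.D.TK hs)).symm

theorem Xt {r : I → ℤ} (hr : IsRoot cs h r) {x : G} (hx : x ∈ X r) : x * t = t * x := (H.Kt x (H.D.XK hr hx)).symm

theorem T_V {s : G} (hs : s ∈ T) {r : I → ℤ} (hr : IsRoot cs h r) {v : G} (hv : v ∈ V r) : s * v * s⁻¹ ∈ V r := by
  have := H.Y.eqv 1 s (rp_of_mem (cs := cs) (hN := H.D.rgd.nsys) hs) r hr v hv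
  rwa [map_one, Module.End.one_apply] at this

/-- an element acting on `V r`, commuting with `t`, of odd order and centralising `X r` centralises `V r` -/
theorem cent_of_odd {r : I → ℤ} (hr : IsRoot cs h r) {g : G} (gt : g * t = t * g) (gV : ∀ v ∈ V r, g * v * g⁻¹ ∈ V r)
    (gX : ∀ x ∈ X r, g * x = x * g) {m : ℕ} (hm : Odd m) (hg : g ^ m = 1) {v : G} (hv : v ∈ V r) : g * v = v * g := by
  have hgt : t * g = g * t := gt.symm
  have gti : g⁻¹ * t = t * g⁻¹ := by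
    rw [inv_mul_eq_iff_eq_mul, ← mul_assoc, gt, mul_assoc, mul_inv_cancel, mul_one]
  set c := g * v * g⁻¹ * v⁻¹ with hc
  have hcV : c ∈ V r := mul_mem (gV v hv) (inv_mem hv)
  have hvV := H.Dl.brk r hr v hv
  -- `c` is fixed by `t`
  have h1 : v⁻¹ * (t * v * t) = g * (v⁻¹ * (t * v * t)) * g⁻¹ := by
    have := gX _ hvV
    rw [this]; group
  have h2 : g * (v⁻¹ * (t * v * t)) * g⁻¹ = (g * v * g⁻¹)⁻¹ * (t * (g * v * g⁻¹) * t) := by
    calc g * (v⁻¹ * (t * v * t)) * g⁻¹ = g * v⁻¹ * t * v * (t * g⁻¹) := by group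
      _ = g * v⁻¹ * t * v * (g⁻¹ * t) := by rw [gti]
      _ = (g * v * g⁻¹)⁻¹ * (g * t) * v * g⁻¹ * t := by group
      _ = (g * v * g⁻¹)⁻¹ * (t * g) * v * g⁻¹ * t := by rw [gt]
      _ = (g * v * g⁻¹)⁻¹ * (t * (g * v * g⁻¹) * t) := by group
  have h3 : t * v * t = v * (v⁻¹ * (t * v * t)) := by group
  have h4 : t * (g * v * g⁻¹) * t = (g * v * g⁻¹) * (v⁻¹ * (t * v * t)) := by rw [h1, h2]; group
  have tvt : t * v⁻¹ * t = (t * v * t)⁻¹ := by rw [mul_inv_rev, mul_inv_rev, H.tinv, mul_assoc]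
  have h5 : t * c * t = c := by
    have e1 : t * c * t = (t * (g * v * g⁻¹) * t) * (t * v⁻¹ * t) := by
      calc t * c * t = t * (g * v * g⁻¹) * 1 * v⁻¹ * t := by rw [hc]; group
        _ = t * (g * v * g⁻¹) * (t * t) * v⁻¹ * t := by rw [H.Dl.tt]
        _ = _ := by group
    rw [e1, tvt, h4, h3]
    have h6 := H.V_comm hr (inv_mem hv) (H.Dl.conj_t r hr v hv)
    set u := v⁻¹ * (t * v * t) with hu
    rw [hc]
    group
  have h6 : t * c = c * t := by
    calc t * c = t * c * (t * t) := by rw [H.Dl.tt, mul_one]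
      _ = (t * c * t) * t := by group
      _ = c * t := by rw [h5]
  have hcX : c ∈ X r := (H.Dl.cent r hr c hcV).1 h6
  have hcg := gX c hcX
  -- `g^k v g^-k = c^k v`
  have h7 : ∀ k : ℕ, g ^ k * v * (g ^ k)⁻¹ = c ^ k * v := by
    intro k
    induction k with
    | zero => simp
    | succ k ih =>
      have e1 : g ^ (k + 1) * v * (g ^ (k + 1))⁻¹ = g * (g ^ k * v * (g ^ k)⁻¹) * g⁻¹ := by
        rw [pow_succ']; group
      have e2 : g * v * g⁻¹ = c * v := by rw [hc]; group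
      have e3 : g * c ^ k = c ^ k * g := ((show Commute g c from hcg).pow_right k).eq
      rw [e1, ih]
      calc g * (c ^ k * v) * g⁻¹ = (g * c ^ k) * v * g⁻¹ := by group
        _ = c ^ k * (g * v * g⁻¹) := by rw [e3]; group
        _ = c ^ k * (c * v) := by rw [e2]
        _ = c ^ (k + 1) * v := by rw [pow_succ]; group
  have h8 := h7 m
  rw [hg, one_mul, inv_one, mul_one] at h8
  have h9 : c ^ m = 1 := by
    have := mul_right_cancel (a := c ^ m) (b := v) (c := 1) (by rw [one_mul]; exact h8.symm)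
    exact this
  have h10 : c = 1 := by
    obtain ⟨j, hj⟩ := hm
    rw [hj, pow_succ, pow_mul, pow_two, H.Dl.sq r hr c hcV, one_pow, one_mul] at h9
    exact h9
  have e2 : g * v * g⁻¹ = v := by
    rw [hc] at h10
    exact mul_inv_eq_one.1 h10
  calc g * v = (g * v * g⁻¹) * g := by group
    _ = v * g := by rw [e2]

/-! ### The action of `N_K(X r)` -/

theorem exists_nbr {r : I → ℤ} (hr : IsRoot cs h r) : ∃ s, IsRoot cs h s ∧ Bf A r s = -1 :=
  exists_neg_one H.D.h4 H.D.h6 H.D.irr H.D.three hr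

/-- `T` is transitive on the nontrivial elements of `X r`. -/
theorem T_trans {r : I → ℤ} (hr : IsRoot cs h r) {z z' : G} (hz : z ∈ X r) (hz1 : z ≠ 1) (hz' : z' ∈ X r)
    (hz1' : z' ≠ 1) : ∃ s ∈ T, s * z * s⁻¹ = z' := by
  obtain ⟨a, ha, hra⟩ := H.exists_nbr hr
  have hA := a2 H.D.h4 H.D.h6 ha hr (by rw [H.rts.symm]; exact hra)
  obtain ⟨s, hs, e⟩ := hA.tor_trans H.D.rgd hz hz1 hz' hz1'
  exact ⟨s, hs.1, e⟩

theorem odd_card_T : Odd (Nat.card T) := by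
  have := H.D.rgd.tcop
  exact Nat.coprime_two_right.1 this

theorem T_cent {r : I → ℤ} (hr : IsRoot cs h r) {g z : G} (hg : g ∈ T) (hz : z ∈ X r) (hz1 : z ≠ 1)
    (hgz : g * z = z * g) {v : G} (hv : v ∈ V r) : g * v = v * g := by
  have h1 : ∀ x ∈ X r, g * x = x * g := by
    intro x hx
    by_cases hx1 : x = 1
    · rw [hx1]; simp
    have h2 := Cfsg.Agent.KFacts.RgdTor.eq_of_trans (T := T) (S := {x | x ∈ X r ∧ x ≠ 1}) H.tab
      (fun v hv v' hv' => H.T_trans hr hv.1 hv.2 hv'.1 hv'.2) (s := g) (t := 1) (v0 := z) (v := x) hg (one_mem T)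
      ⟨hz, hz1⟩ ⟨hx, hx1⟩ (by rw [hgz]; group)
    have h3 : g * x * g⁻¹ = x := by rw [h2]; group
    calc g * x = (g * x * g⁻¹) * g := by group
      _ = x * g := by rw [h3]
  have h4 : g ^ Nat.card T = 1 := by
    have := pow_card_eq_one' (x := (⟨g, hg⟩ : T))
    exact congrArg Subtype.val this
  exact H.cent_of_odd hr (H.Tt hg) (fun v hv => H.T_V hg hr hv) h1 H.odd_card_T h4 hv

theorem Ge_cent {r : I → ℤ} (hr : IsRoot cs h r) {g v : G} (hg : g ∈ RGD.Sup X (Ge cs h r)) (hv : v ∈ V r) :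
    g * v = v * g := by
  have h1 : RGD.Sup X (Ge cs h r) ≤ Subgroup.centralizer {v} := by
    refine RGD.Sup_le fun a ha => ?_
    intro x hx
    rw [Subgroup.mem_centralizer_singleton_iff]
    exact (H.Y.WX r hr a ha.1 (by rw [bf_eq_cpr H.D.h4 H.D.h6 _ hr]; exact ha.2) v hv x hx).symm
  exact Subgroup.mem_centralizer_singleton_iff.1 (h1 hg)

theorem exists_mul {r : I → ℤ} {g : G} (hg : g ∈ PS T X (Ge cs h r)) :
    ∃ s ∈ T, ∃ p ∈ RGD.Sup X (Ge cs h r), g = s * p := by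
  have h2 : g ∈ ((PS T X (Ge cs h r) : Subgroup G) : Set G) := hg
  have hT : T ≤ Subgroup.normalizer (RGD.Sup X (Ge cs h r) : Set G) := H.D.rgd.T_le_normalizer fun x hx => hx.1
  unfold PS at h2
  rw [Subgroup.coe_mul_of_left_le_normalizer_right _ _ hT, Set.mem_mul] at h2
  obtain ⟨s, hs, p, hp, e⟩ := h2
  exact ⟨s, hs, p, hp, e.symm⟩

/-- An element of `K` normalising `X r` acts on `V r` as an element of `T`. -/
theorem K_act {r : I → ℤ} (hr : IsRoot cs h r) {k : G} (hk : k ∈ K) (hkX : k ∈ Subgroup.normalizer (X r : Set G)) :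
    ∃ s ∈ T, ∀ v ∈ V r, k * v * k⁻¹ = s * v * s⁻¹ := by
  have h1 : k ∈ PS T X (Ge cs h r) := by
    rw [← (Cfsg.Agent.OddHalf.SL.OfDatum.lr H.D r hr).normalizer, H.D.GG_eq]
    exact ⟨hkX, hk⟩
  obtain ⟨s, hs, p, hp, rfl⟩ := H.exists_mul h1
  refine ⟨s, hs, fun v hv => ?_⟩
  have h2 := H.Ge_cent hr hp hv
  calc s * p * v * (s * p)⁻¹ = s * (p * v) * p⁻¹ * s⁻¹ := by group
    _ = s * v * s⁻¹ := by rw [h2]; group

/-- `C_K(z)` centralises `V r`, `z ∈ X r`. -/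
theorem K_cent {r : I → ℤ} (hr : IsRoot cs h r) {k z : G} (hk : k ∈ K) (hz : z ∈ X r) (hz1 : z ≠ 1)
    (hkz : k * z = z * k) {v : G} (hv : v ∈ V r) : k * v = v * k := by
  obtain ⟨s, hs, hsz, p, hp, rfl⟩ := ((Cfsg.Agent.OddHalf.SL.OfDatum.lr H.D r hr).mem_centralizer (by rw [H.D.GG_eq]; exact hk) hz hz1).1 hkz
  have h1 := H.T_cent hr hs hz hz1 hsz hv
  have h2 := H.Ge_cent hr hp hv
  rw [mul_assoc, h2, ← mul_assoc, h1, mul_assoc]

/-! ### The group `D` -/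

/-- `{a : (a, r) ≥ 1}` -/
def Rad1 (_ : Hyp K q cs h T n X V t) (r : I → ℤ) : Set (I → ℤ) := {a | IsRoot cs h a ∧ 1 ≤ Bf A a r}

/-- `⟨V a : (a, r) ≥ 1⟩` -/
def DD (H : Hyp K q cs h T n X V t) (r : I → ℤ) : Subgroup G := RGD.Sup V (H.Rad1 r)

/-- `⟨X a : (a, r) = 0⟩` -/
def PP (_ : Hyp K q cs h T n X V t) (r : I → ℤ) : Subgroup G := RGD.Sup X {a | IsRoot cs h a ∧ Bf A a r = 0}

theorem V_le_DD {r a : I → ℤ} (ha : IsRoot cs h a) (h1 : 1 ≤ Bf A a r) : V a ≤ H.DD r :=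
  RGD.le_Sup (X := V) (S := H.Rad1 r) ⟨ha, h1⟩

theorem DD_cent {r : I → ℤ} (hr : IsRoot cs h r) {v x : G} (hv : v ∈ V r) (hx : x ∈ H.DD r) : v * x = x * v := by
  have h1 : H.DD r ≤ Subgroup.centralizer {v} := by
    refine RGD.Sup_le fun a ha => ?_
    intro x hx
    rw [Subgroup.mem_centralizer_singleton_iff]
    exact H.comm_pos ha.1 hr (by have := ha.2; omega) hx hv
  exact (Subgroup.mem_centralizer_singleton_iff.1 (h1 hx)).symm

/-- The commutator map into a central subgroup. -/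
def comS {D Z : Subgroup G} (hZ : ∀ v ∈ Z, ∀ x ∈ D, v * x = x * v) (y : G) : Subgroup G where
  carrier := {x | x ∈ D ∧ ⁅x, y⁆ ∈ Z}
  one_mem' := ⟨one_mem _, by rw [commutatorElement_one_left]; exact one_mem _⟩
  mul_mem' := by
    rintro a b ⟨ha, ha'⟩ ⟨hb, hb'⟩
    refine ⟨mul_mem ha hb, ?_⟩
    have e : ⁅a * b, y⁆ = (a * ⁅b, y⁆ * a⁻¹) * ⁅a, y⁆ := by
      simp only [commutatorElement_def]; group
    have e2 : a * ⁅b, y⁆ * a⁻¹ = ⁅b, y⁆ := by rw [← hZ _ hb' a ha]; group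
    rw [e, e2]
    exact mul_mem hb' ha'
  inv_mem' := by
    rintro a ⟨ha, ha'⟩
    refine ⟨inv_mem ha, ?_⟩
    have e : ⁅a⁻¹, y⁆ = a⁻¹ * ⁅a, y⁆⁻¹ * a := by
      simp only [commutatorElement_def]; group
    have e2 : a⁻¹ * ⁅a, y⁆⁻¹ * a = ⁅a, y⁆⁻¹ := by
      have := hZ _ (inv_mem ha') a ha
      rw [mul_assoc, this]; group
    rw [e, e2]
    exact inv_mem ha'

theorem DD_comm {r : I → ℤ} (hr : IsRoot cs h r) {x y : G} (hx : x ∈ H.DD r) (hy : y ∈ H.DD r) : ⁅x, y⁆ ∈ V r := by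
  have hR := H.rts
  have hZ : ∀ v ∈ V r, ∀ x ∈ H.DD r, v * x = x * v := fun v hv x hx => H.DD_cent hr hv hx
  have key : ∀ a ∈ H.Rad1 r, ∀ b ∈ H.Rad1 r, ∀ x ∈ V a, ∀ y ∈ V b, ⁅x, y⁆ ∈ V r := by
    intro a ha b hb x hx y hy
    by_cases h0 : 0 ≤ Bf A a b
    · have := H.comm_pos ha.1 hb.1 h0 hx hy
      rw [commutatorElement_eq_one_iff_mul_comm.2 this]
      exact one_mem _
    · have h1 := hR.ge ha.1 hb.1
      by_cases h2 : Bf A a b = -1
      · have h3 := H.comm_neg ha.1 hb.1 h2 hx hy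
        have h4 : a + b = r := by
          refine hR.eq _ (hR.add a ha.1 b hb.1 h2) r hr ?_
          have h5 := hR.le _ (hR.add a ha.1 b hb.1 h2) r hr
          have h6 := hR.add_left a b r
          have h7 := ha.2
          have h8 := hb.2
          omega
        rwa [h4] at h3
      · exfalso
        have h3 : a = -b := hR.eq_neg ha.1 hb.1 (by omega)
        have h7 := ha.2
        have h8 := hb.2
        rw [h3, hR.neg_left] at h7
        omega
  have k1 : ∀ b ∈ H.Rad1 r, ∀ y ∈ V b, ∀ x ∈ H.DD r, ⁅x, y⁆ ∈ V r := by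
    intro b hb y hy x hx
    have h1 : H.DD r ≤ comS hZ y := RGD.Sup_le fun a ha x hx => ⟨H.V_le_DD ha.1 ha.2 hx, key a ha b hb x hx y hy⟩
    exact (h1 hx).2
  have h1 : H.DD r ≤ comS hZ x := RGD.Sup_le fun b hb y hy => ⟨H.V_le_DD hb.1 hb.2 hy, by
    rw [← commutatorElement_inv]
    exact inv_mem (k1 b hb y hy x hx)⟩
  rw [← commutatorElement_inv]
  exact inv_mem (h1 hy).2

theorem DD_cr {r : I → ℤ} (hr : IsRoot cs h r) {x y y' : G} (hx : x ∈ H.DD r) (hy : y ∈ H.DD r) (hy' : y' ∈ H.DD r) :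
    ⁅x, y * y'⁆ = ⁅x, y⁆ * ⁅x, y'⁆ := by
  have e : ⁅x, y * y'⁆ = ⁅x, y⁆ * (y * ⁅x, y'⁆ * y⁻¹) := by
    simp only [commutatorElement_def]; group
  rw [e, ← H.DD_cent hr (H.DD_comm hr hx hy') hy]
  group

theorem nonneg_of_ne {r s b : I → ℤ} (hr : IsRoot cs h r) (hs : IsRoot cs h s) (hsr : Bf A s r = 1)
    (hb : IsRoot cs h b) (hbr : 1 ≤ Bf A b r) (hne : b ≠ r - s) : 0 ≤ Bf A b s := by
  have hR := H.rts
  by_contra hcon
  have h1 := hR.ge hb hs
  have hrs : IsRoot cs h (r - s) := hR.sub_mem hr hs (by rw [hR.symm]; exact hsr)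
  have h2 := hR.le _ hb _ hrs
  rw [hR.sub_right] at h2
  by_cases h3 : Bf A b s = -2
  · have h4 := hR.eq_neg hb hs h3
    rw [h4, hR.neg_left, hsr] at hbr
    omega
  · apply hne
    apply hR.eq _ hb _ hrs
    rw [hR.sub_right]
    omega

/-- `D = V (r - s) C_D(V s)` -/
theorem DD_dec {r s : I → ℤ} (hr : IsRoot cs h r) (hs : IsRoot cs h s) (hsr : Bf A s r = 1) {y : G}
    (hy : y ∈ H.DD r) : ∃ y' ∈ V (r - s), ∀ x ∈ V s, ⁅x, y⁆ = ⁅x, y'⁆ := by
  have hR := H.rts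
  have hrs : IsRoot cs h (r - s) := hR.sub_mem hr hs (by rw [hR.symm]; exact hsr)
  have hsD : V s ≤ H.DD r := H.V_le_DD hs hsr.ge
  have hrD : V (r - s) ≤ H.DD r := H.V_le_DD hrs (by rw [hR.sub_left, hR.two r hr, hsr]; norm_num)
  let M : Subgroup G :=
    { carrier := {y | y ∈ H.DD r ∧ ∃ y' ∈ V (r - s), ∀ x ∈ V s, ⁅x, y⁆ = ⁅x, y'⁆}
      one_mem' := ⟨one_mem _, 1, one_mem _, fun _ _ => rfl⟩
      mul_mem' := by
        rintro a b ⟨ha, a', ha', ea⟩ ⟨hb, b', hb', eb⟩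
        refine ⟨mul_mem ha hb, a' * b', mul_mem ha' hb', fun x hx => ?_⟩
        rw [H.DD_cr hr (hsD hx) ha hb, H.DD_cr hr (hsD hx) (hrD ha') (hrD hb'), ea x hx, eb x hx]
      inv_mem' := by
        rintro a ⟨ha, a', ha', ea⟩
        refine ⟨inv_mem ha, a'⁻¹, inv_mem ha', fun x hx => ?_⟩
        have key : ∀ b ∈ H.DD r, ⁅x, b⁻¹⁆ = ⁅x, b⁆⁻¹ := by
          intro b hb
          have := H.DD_cr hr (hsD hx) (inv_mem hb) hb
          rw [inv_mul_cancel, commutatorElement_one_right] at this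
          exact eq_inv_of_mul_eq_one_left this.symm
        rw [key a ha, key a' (hrD ha'), ea x hx] }
  have h1 : H.DD r ≤ M := by
    refine RGD.Sup_le fun b hb y hy => ⟨H.V_le_DD hb.1 hb.2 hy, ?_⟩
    by_cases hne : b = r - s
    · exact ⟨y, by rw [← hne]; exact hy, fun _ _ => rfl⟩
    · refine ⟨1, one_mem _, fun x hx => ?_⟩
      rw [commutatorElement_one_right, commutatorElement_eq_one_iff_mul_comm]
      have h2 := H.nonneg_of_ne hr hs hsr hb.1 hb.2 hne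
      exact (H.comm_pos hb.1 hs h2 hy hx).symm
  exact (h1 hy).2

theorem PP_V {r : I → ℤ} (hr : IsRoot cs h r) {p v : G} (hp : p ∈ H.PP r) (hv : v ∈ V r) : p * v = v * p := by
  have h1 : H.PP r ≤ Subgroup.centralizer {v} := by
    refine RGD.Sup_le fun a ha => ?_
    intro x hx
    rw [Subgroup.mem_centralizer_singleton_iff]
    exact (H.Y.WX r hr a ha.1 ha.2.ge v hv x hx).symm
  exact Subgroup.mem_centralizer_singleton_iff.1 (h1 hp)

theorem PP_D {r : I → ℤ} {p x : G} (hp : p ∈ H.PP r) (hx : x ∈ H.DD r) : p * x * p⁻¹ ∈ H.DD r := by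
  have hR := H.rts
  have key : ∀ a, IsRoot cs h a → Bf A a r = 0 → ∀ u ∈ X a, ∀ x ∈ H.DD r, u * x * u⁻¹ ∈ H.DD r := by
    intro a ha ha0 u hu x hx
    have h1 : H.DD r ≤ (H.DD r).comap (MulAut.conj u).toMonoidHom := by
      refine RGD.Sup_le fun b hb v hv => ?_
      show u * v * u⁻¹ ∈ H.DD r
      have hvD := H.V_le_DD hb.1 hb.2 hv
      by_cases h0 : 0 ≤ Bf A a b
      · have := H.comm_pos ha hb.1 h0 (H.Dl.XW a ha hu) hv
        rw [this, mul_assoc, mul_inv_cancel, mul_one]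
        exact hvD
      · have h1 := hR.ge ha hb.1
        by_cases h2 : Bf A a b = -1
        · have h3 := H.comm_neg ha hb.1 h2 (H.Dl.XW a ha hu) hv
          have h4 : u * v * u⁻¹ = ⁅u, v⁆ * v := by rw [commutatorElement_def]; group
          rw [h4]
          refine mul_mem (H.V_le_DD (hR.add a ha b hb.1 h2) ?_ h3) hvD
          rw [hR.add_left, ha0, zero_add]
          exact hb.2
        · exfalso
          have h3 : a = -b := hR.eq_neg ha hb.1 (by omega)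
          rw [h3, hR.neg_left] at ha0
          have := hb.2
          omega
    exact h1 hx
  have h2 : H.PP r ≤ Subgroup.normalizer (H.DD r : Set G) := by
    refine RGD.Sup_le fun a ha u hu => ?_
    rw [Subgroup.mem_normalizer_iff]
    intro x
    constructor
    · exact key a ha.1 ha.2 u hu x
    · intro hx'
      have h3 := key a ha.1 ha.2 u⁻¹ (inv_mem hu) _ hx'
      have e : u⁻¹ * (u * x * u⁻¹) * u⁻¹⁻¹ = x := by group
      rwa [e] at h3
  exact (Subgroup.mem_normalizer_iff.1 (h2 hp) x).1 hx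

/-- `V (a + b)` is generated by commutators. -/
theorem V_add_le {a b : I → ℤ} (ha : IsRoot cs h a) (hb : IsRoot cs h b) (hab : Bf A a b = -1) {w : G}
    (hw : w ∈ V (a + b)) : ∃ u ∈ X a, ∃ v ∈ V b, ⁅u, v⁆ = w := by
  have hR := H.rts
  obtain ⟨u, hu, hu1⟩ := Cfsg.Agent.KFacts.RgdTor.exists_ne H.D.rgd ha
  obtain ⟨s, m, hs, hm, e⟩ := H.exists_m ha hb hab hu hu1
  have hba : Bf A b a = -1 := by rw [hR.symm]; exact hab
  have e0 : rep cs h s b = a + b := by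
    rw [hs, ← bf_eq_cpr H.D.h4 H.D.h6 b ha, hba]; module
  have h1 : m⁻¹ * w * m ∈ V b := by
    have h2 := H.Y.eqv s⁻¹ m⁻¹ hm.inv (a + b) (hR.add a ha b hb hab) w hw
    rw [← e0, rep_inv_apply, inv_inv] at h2
    exact h2
  refine ⟨u, hu, _, h1, ?_⟩
  rw [e _ h1]; group

theorem DD_gen {r s : I → ℤ} (hr : IsRoot cs h r) (hs : IsRoot cs h s) (hsr : Bf A s r = 1) {S : Subgroup G}
    (hA : V s ≤ S) (hB : V (r - s) ≤ S) (hV : V r ≤ S) (hP : ∀ p ∈ H.PP r, ∀ x ∈ S, p * x * p⁻¹ ∈ S) :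
    H.DD r ≤ S := by
  have hR := H.rts
  have hrs : IsRoot cs h (r - s) := hR.sub_mem hr hs (by rw [hR.symm]; exact hsr)
  have hrsr : Bf A (r - s) r = 1 := by rw [hR.sub_left, hR.two r hr, hsr]; norm_num
  have step : ∀ c, IsRoot cs h c → Bf A c r = 1 → V c ≤ S → ∀ b, IsRoot cs h b → Bf A b r = 1 → Bf A b c = 1 →
      V b ≤ S := by
    intro c hc hcr hcS b hb hbr hbc w hw
    have ha : IsRoot cs h (b - c) := hR.sub_mem hb hc hbc
    have hac : Bf A (b - c) c = -1 := by rw [hR.sub_left, hR.two c hc, hbc]; norm_num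
    have e0 : b - c + c = b := by abel
    obtain ⟨u, hu, v, hv, e⟩ := H.V_add_le ha hc hac (w := w) (by rw [e0]; exact hw)
    have huP : u ∈ H.PP r := RGD.le_Sup (X := X) (S := {a | IsRoot cs h a ∧ Bf A a r = 0})
      ⟨ha, by rw [hR.sub_left, hbr, hcr]; norm_num⟩ hu
    rw [← e, commutatorElement_def]
    exact mul_mem (hP u huP v (hcS hv)) (inv_mem (hcS hv))
  refine RGD.Sup_le fun b hb => ?_
  have hb2 := hR.le b hb.1 r hr
  by_cases h2 : Bf A b r = 2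
  · rw [hR.eq b hb.1 r hr h2]; exact hV
  have hbr : Bf A b r = 1 := by have := hb.2; omega
  by_cases h3 : b = s
  · rw [h3]; exact hA
  by_cases h4 : b = r - s
  · rw [h4]; exact hB
  have h5 := H.nonneg_of_ne hr hs hsr hb.1 hb.2 h4
  have h6 := H.nonneg_of_ne hr hrs hrsr hb.1 hb.2 (by
    intro h7
    apply h3
    rw [h7]; abel)
  rw [hR.sub_right] at h6
  have h7 : Bf A b s = 0 ∨ Bf A b s = 1 := by omega
  rcases h7 with h7 | h7
  · exact step (r - s) hrs hrsr hB b hb.1 hbr (by rw [hR.sub_right]; omega)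
  · exact step s hs hsr hA b hb.1 hbr h7

/-! ### The instance of `Inp` -/

/-- the torus elements centralising `V (r - s)` -/
def TA (_ : Hyp K q cs h T n X V t) (r s : I → ℤ) : Subgroup G := T ⊓ Subgroup.centralizer (V (r - s) : Set G)

/-- A torus element moving `z` to `z'` and centralising `V c`, where `(c, r) = 1`. -/
theorem exists_tor {r c : I → ℤ} (hr : IsRoot cs h r) (hc : IsRoot cs h c) (hcr : Bf A c r = 1) {z z' : G}
    (hz : z ∈ X r) (hz1 : z ≠ 1) (hz' : z' ∈ X r) (hz1' : z' ≠ 1) :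
    ∃ s ∈ T, s * z * s⁻¹ = z' ∧ ∀ y ∈ V c, s * y = y * s := by
  have hR := H.rts
  have hrc : IsRoot cs h (r - c) := hR.sub_mem hr hc (by rw [hR.symm]; exact hcr)
  obtain ⟨m, hm, hmr, hmc⟩ := three H.D.h4 H.D.h6 H.D.irr H.D.three r hr (r - c) hrc (by
    rw [hR.sub_right, hR.two r hr, hR.symm, hcr]; norm_num)
  have hmc' : Bf A m c = 0 := by
    rw [hR.sub_right] at hmc; omega
  have hA := a2 H.D.h4 H.D.h6 (hR.neg_mem m hm : IsRoot cs h (-m)) hr (by rw [hR.neg_left, hmr])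
  obtain ⟨s, hs, e⟩ := hA.tor_trans H.D.rgd hz hz1 hz' hz1'
  refine ⟨s, hs.1, e, fun y hy => ?_⟩
  have h1 : X (-m) ⊔ X (- -m) ≤ Subgroup.centralizer {y} := by
    rw [neg_neg]
    refine sup_le ?_ ?_
    · intro x hx
      rw [Subgroup.mem_centralizer_singleton_iff]
      exact (H.Y.WX c hc (-m) (hR.neg_mem m hm) (by rw [hR.neg_left, hmc']; norm_num) y hy x hx).symm
    · intro x hx
      rw [Subgroup.mem_centralizer_singleton_iff]
      exact (H.Y.WX c hc m hm hmc'.ge y hy x hx).symm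
  exact Subgroup.mem_centralizer_singleton_iff.1 (h1 hs.2)

/-- **The instance of `RingOut.Inp`.** -/
theorem inp {r s : I → ℤ} (hr : IsRoot cs h r) (hs : IsRoot cs h s) (hsr : Bf A s r = 1) {x1 y1 z : G}
    (hx1 : x1 ∈ X s) (hy1 : y1 ∈ X (r - s)) (hz : ⁅x1, y1⁆ = z) (hz1 : z ≠ 1) :
    RingOut.Inp (H.DD r) (V r) (V s) (V (r - s)) (H.PP r) (H.TA r s) t z x1 y1 := by
  have hR := H.rts
  have hrr := hR.two r hr
  have hss := hR.two s hs
  have hrs1 : Bf A r s = 1 := by rw [hR.symm]; exact hsr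
  have hrs : IsRoot cs h (r - s) := hR.sub_mem hr hs hrs1
  have hrsr : Bf A (r - s) r = 1 := by rw [hR.sub_left, hrr, hsr]; norm_num
  have hsrs : Bf A s (r - s) = -1 := by rw [hR.sub_right, hsr, hss]; norm_num
  have hrss : Bf A (r - s) s = -1 := by rw [hR.symm]; exact hsrs
  have esum : s + (r - s) = r := by abel
  have esum' : r - s + s = r := by abel
  have hx11 : x1 ≠ 1 := by
    rintro rfl
    apply hz1
    rw [← hz, commutatorElement_one_left]
  have hy11 : y1 ≠ 1 := by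
    rintro rfl
    apply hz1
    rw [← hz, commutatorElement_one_right]
  have hzX : z ∈ X r := by
    rw [← hz]
    have := (a2 H.D.h4 H.D.h6 hs hrs hsrs).comm_mem H.D.rgd hx1 hy1
    rwa [esum] at this
  obtain ⟨w, m, hw, hm, em⟩ := H.exists_m hrs hs hrss hy1 hy11
  obtain ⟨w', m', hw', hm', em'⟩ := H.exists_m hs hrs hsrs hx1 hx11
  have ew : rep cs h w s = r := by
    rw [hw, ← bf_eq_cpr H.D.h4 H.D.h6 s hrs, hsrs]; module
  have ew' : rep cs h w' (r - s) = r := by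
    rw [hw', ← bf_eq_cpr H.D.h4 H.D.h6 (r - s) hs, hrss]; module
  have sqV : ∀ v ∈ V r, v⁻¹ = v := fun v hv => inv_eq_of_mul_eq_one_left (H.Dl.sq r hr v hv)
  have hxs : ∀ x ∈ V s, ⁅x, y1⁆ = m * x * m⁻¹ := by
    intro x hx
    have h1 := em x hx
    have h2 : m * x * m⁻¹ ∈ V r := by
      rw [← h1]
      have := H.comm_neg hrs hs hrss (H.Dl.XW _ hrs hy1) hx
      rwa [esum'] at this
    rw [← commutatorElement_inv, h1, sqV _ h2]
  exact
    { tt := H.Dl.tt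
      V_le := H.V_le_DD hr (by rw [hrr]; norm_num)
      V_sq := H.Dl.sq r hr
      V_cent := fun v hv x hx => H.DD_cent hr hv hx
      comm := fun x hx y hy => H.DD_comm hr hx hy
      V_t := H.Dl.conj_t r hr
      z_mem := H.Dl.XW r hr hzX
      z_ne := hz1
      A_le := H.V_le_DD hs hsr.ge
      B_le := H.V_le_DD hrs hrsr.ge
      A_t := H.Dl.conj_t s hs
      B_t := H.Dl.conj_t (r - s) hrs
      x1A := H.Dl.XW s hs hx1
      y1B := H.Dl.XW (r - s) hrs hy1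
      x1t := H.Xt hs hx1
      y1t := H.Xt hrs hy1
      xy := hz
      onA := by
        intro v hv
        have h1 : m⁻¹ * v * m ∈ V s := by
          have h2 := H.Y.eqv w⁻¹ m⁻¹ hm.inv r hr v hv
          rw [← ew, rep_inv_apply, inv_inv] at h2
          exact h2
        refine ⟨_, h1, ?_⟩
        rw [hxs _ h1]; group
      onB := by
        intro v hv
        have h1 : m'⁻¹ * v * m' ∈ V (r - s) := by
          have h2 := H.Y.eqv w'⁻¹ m'⁻¹ hm'.inv r hr v hv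
          rw [← ew', rep_inv_apply, inv_inv] at h2
          exact h2
        refine ⟨_, h1, ?_⟩
        rw [em' _ h1]; group
      injA := by
        intro x hx h1 y _
        rw [hxs x hx] at h1
        have h2 : x = 1 := by
          have : x = m⁻¹ * (m * x * m⁻¹) * m := by group
          rw [this, h1]; group
        rw [h2, commutatorElement_one_left]
      injB := by
        intro y hy h1 x _
        rw [em' y hy] at h1
        have h2 : y = 1 := by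
          have : y = m'⁻¹ * (m' * y * m'⁻¹) * m' := by group
          rw [this, h1]; group
        rw [h2, commutatorElement_one_right]
      TA_t := fun g hg => H.Tt hg.1
      TA_A := fun g hg x hx => H.T_V hg.1 hs hx
      TA_B := fun g hg y hy => (Subgroup.mem_centralizer_iff.1 hg.2 y hy).symm
      TA_V := fun g hg v hv => H.T_V hg.1 hr hv
      TB := by
        intro g hg
        have h1 : g * z * g⁻¹ ∈ X r := Cfsg.Agent.KFacts.RgdTor.tor_mem H.D.rgd hr hg.1 hzX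
        have h2 : g * z * g⁻¹ ≠ 1 := by
          intro h3
          apply hz1
          have : z = g⁻¹ * (g * z * g⁻¹) * g := by group
          rw [this, h3]; group
        obtain ⟨g', hg', e, hc⟩ := H.exists_tor hr hs hsr hzX hz1 h1 h2
        refine ⟨g', hc, fun y hy => H.T_V hg' hrs hy, fun v hv => ?_⟩
        have h3 : g⁻¹ * g' ∈ T := mul_mem (inv_mem hg.1) hg'
        have h4 : g⁻¹ * g' * z = z * (g⁻¹ * g') := by
          have : g' * z = g * z * g⁻¹ * g' := by rw [← e]; group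
          rw [mul_assoc, this]; group
        have h5 := H.T_cent hr h3 hzX hz1 h4 hv
        calc g' * v * g'⁻¹ = g * (g⁻¹ * g' * v) * g'⁻¹ := by group
          _ = g * v * g⁻¹ := by rw [h5]; group
      trans := by
        intro v hv hvt hv1
        have hvX : v ∈ X r := (H.Dl.cent r hr v hv).1 hvt.symm
        obtain ⟨g, hg, e, hc⟩ := H.exists_tor hr hrs hrsr hzX hz1 hvX hv1
        exact ⟨g, ⟨hg, Subgroup.mem_centralizer_iff.2 fun y hy => (hc y hy).symm⟩, e⟩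
      theta := by
        obtain ⟨θ, hθ, e⟩ := H.Dl.surj r hr z hzX
        refine ⟨θ, hθ, ?_⟩
        rw [← e]; group
      P_V := fun p hp v hv => H.PP_V hr hp hv
      P_D := fun p hp x hx => H.PP_D hp hx
      gen := fun S _ hA hB hV hP => H.DD_gen hr hs hsr hA hB hV hP
      dec := fun y hy => H.DD_dec hr hs hsr hy
      dec' := by
        intro x hx
        obtain ⟨x', hx', e⟩ := H.DD_dec hr hrs hrsr hx
        have e0 : r - (r - s) = s := by abel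
        rw [e0] at hx'
        refine ⟨x', hx', fun y hy => ?_⟩
        rw [← commutatorElement_inv, e y hy, commutatorElement_inv] }

/-! ### Weyl group: pairs of roots at `120°` -/

theorem exists_w {r s : I → ℤ} (hr : IsRoot cs h r) (hs : IsRoot cs h s) : ∃ w, rep cs h w r = s := by
  have h2 : 2 ≤ Fintype.card I := by have := H.D.three; omega
  refine ind H.D.h4 H.D.h6 H.D.irr h2 (P := fun s => ∃ w, rep cs h w r = s) hr ⟨1, by
    rw [map_one, Module.End.one_apply]⟩ ?_ hs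
  rintro _ s _ hs hrs ⟨w, rfl⟩
  have hR := H.rts
  have hr' : IsRoot cs h (rep cs h w r) := hr.act w
  obtain ⟨v, i, e⟩ := hR.sub_mem hr' hs hrs
  refine ⟨(v * cs.simple i * v⁻¹)⁻¹ * w, ?_⟩
  have hv : ∀ y, rep cs h (v * cs.simple i * v⁻¹) y = y - cpr cs h y (rep cs h w r - s) • (rep cs h w r - s) := by
    intro y
    rw [rep_mul_apply, rep_mul_apply, rep_simple_eq, map_sub, rep_apply_inv, map_smul,
      ← cpr_rep_sr (cs := cs) (h := h), ← e]
  rw [rep_mul_apply]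
  have h3 := rep_sub H.D.h4 H.D.h6 hr' hs hrs hv
  rw [← h3, rep_inv_apply]

theorem bf_w (w : W) (x y : I → ℤ) : Bf A (rep cs h w x) (rep cs h w y) = Bf A x y :=
  bf_rep H.D.h4 H.D.h6 w x y

/-- a reflection -/
theorem exists_refl {a : I → ℤ} (ha : IsRoot cs h a) : ∃ w : W, ∀ y, rep cs h w y = y - Bf A y a • a := by
  obtain ⟨v, i, e⟩ := id ha
  refine ⟨v * cs.simple i * v⁻¹, fun y => ?_⟩
  rw [bf_eq_cpr H.D.h4 H.D.h6 y ha, rep_mul_apply, rep_mul_apply, rep_simple_eq, map_sub, rep_apply_inv, map_smul,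
    ← cpr_rep_sr (cs := cs) (h := h), ← e]

/-- The stabiliser of `r` has at most two orbits on `{b : (b, r) = 1}`. -/
theorem pair_conj {r s b : I → ℤ} (hr : IsRoot cs h r) (hs : IsRoot cs h s) (hsr : Bf A s r = 1)
    (hb : IsRoot cs h b) (hbr : Bf A b r = 1) :
    (∃ w, rep cs h w s = b ∧ rep cs h w r = r) ∨ ∃ w, rep cs h w (r - s) = b ∧ rep cs h w r = r := by
  have hR := H.rts
  have hrs : IsRoot cs h (r - s) := hR.sub_mem hr hs (by rw [hR.symm]; exact hsr)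
  have hrsr : Bf A (r - s) r = 1 := by rw [hR.sub_left, hR.two r hr, hsr]; norm_num
  have step : ∀ c, IsRoot cs h c → Bf A c r = 1 → Bf A b c = 1 → ∃ w, rep cs h w c = b ∧ rep cs h w r = r := by
    intro c hc hcr hbc
    have ha : IsRoot cs h (b - c) := hR.sub_mem hb hc hbc
    obtain ⟨w, hw⟩ := H.exists_refl ha
    refine ⟨w, ?_, ?_⟩
    · rw [hw, hR.sub_right, hR.two c hc, hR.symm c b, hbc]; module
    · rw [hw, hR.sub_right, hR.symm r b, hR.symm r c, hbr, hcr]; module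
  by_cases h3 : b = s
  · left; exact ⟨1, by rw [h3, map_one, Module.End.one_apply], by rw [map_one, Module.End.one_apply]⟩
  by_cases h4 : b = r - s
  · right; exact ⟨1, by rw [h4, map_one, Module.End.one_apply], by rw [map_one, Module.End.one_apply]⟩
  have h5 := H.nonneg_of_ne hr hs hsr hb hbr.ge h4
  have h6 := H.nonneg_of_ne hr hrs hrsr hb hbr.ge (by
    intro h7
    apply h3
    rw [h7]; abel)
  rw [hR.sub_right] at h6
  have h7 : Bf A b s = 0 ∨ Bf A b s = 1 := by omega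
  rcases h7 with h7 | h7
  · right; exact step (r - s) hrs hrsr (by rw [hR.sub_right]; omega)
  · left; exact step s hs hsr h7

/-- Two orbits on the ordered pairs of roots at `120°`. -/
theorem pair_conj' {r s b c : I → ℤ} (hr : IsRoot cs h r) (hs : IsRoot cs h s) (hsr : Bf A s r = 1)
    (hb : IsRoot cs h b) (hc : IsRoot cs h c) (hbc : Bf A b c = -1) :
    (∃ w, rep cs h w s = b ∧ rep cs h w (r - s) = c) ∨ ∃ w, rep cs h w (r - s) = b ∧ rep cs h w s = c := by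
  have hR := H.rts
  have hsum : IsRoot cs h (b + c) := hR.add b hb c hc hbc
  obtain ⟨w, hw⟩ := H.exists_w hr hsum
  have e1 : Bf A (rep cs h w⁻¹ b) r = 1 := by
    rw [← H.bf_w w, rep_apply_inv, hw, hR.add_right, hR.two b hb, hbc]; norm_num
  rcases H.pair_conj hr hs hsr (hb.act w⁻¹) e1 with ⟨v, h1, h2⟩ | ⟨v, h1, h2⟩
  · left
    refine ⟨w * v, ?_, ?_⟩
    · rw [rep_mul_apply, h1, rep_apply_inv]
    · rw [rep_mul_apply, map_sub, h2, h1, map_sub, hw, rep_apply_inv]; abel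
  · right
    refine ⟨w * v, ?_, ?_⟩
    · rw [rep_mul_apply, h1, rep_apply_inv]
    · have e2 : s = r - (r - s) := by abel
      rw [rep_mul_apply]
      conv_lhs => rw [e2]
      rw [map_sub, h2, h1, map_sub, hw, rep_apply_inv]; abel

/-- a root at `60°` -/
theorem exists_one {r : I → ℤ} (hr : IsRoot cs h r) : ∃ s, IsRoot cs h s ∧ Bf A s r = 1 := by
  have hR := H.rts
  obtain ⟨a, ha, hra⟩ := H.exists_nbr hr
  exact ⟨-a, ha.neg, by rw [hR.neg_left, hR.symm, hra]; norm_num⟩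

/-- an element of `X r` is a commutator of elements of `X s` and `X (r - s)` -/
theorem exists_xy {r s : I → ℤ} (hr : IsRoot cs h r) (hs : IsRoot cs h s) (hsr : Bf A s r = 1) {z : G}
    (hz : z ∈ X r) : ∃ x1 ∈ X s, ∃ y1 ∈ X (r - s), ⁅x1, y1⁆ = z := by
  have hR := H.rts
  have hrs : IsRoot cs h (r - s) := hR.sub_mem hr hs (by rw [hR.symm]; exact hsr)
  have hA := a2 H.D.h4 H.D.h6 hs hrs (by rw [hR.sub_right, hsr, hR.two s hs]; norm_num)
  obtain ⟨u, hu, hu1⟩ := Cfsg.Agent.KFacts.RgdTor.exists_ne H.D.rgd hs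
  have e : s + (r - s) = r := by abel
  obtain ⟨v, hv, e⟩ := hA.comm_surj H.D.rgd hu hu1 (w := z) (by rw [e]; exact hz)
  exact ⟨u, hu, v, hv, e⟩

/-! ### The output -/

/-- case A -/
structure CaseA (_ : Hyp K q cs h T n X V t) (r : I → ℤ) (A' : Subgroup G) : Prop where
  le : A' ≤ V r
  inf : ∀ a ∈ A', t * a * t ∈ A' → a = 1
  card : Nat.card A' * Nat.card A' = Nat.card (V r)
  nrm : ∀ k ∈ K, cj k (X r) = X r → cj k A' ≤ A'
  br : ∀ b, IsRoot cs h b → ∀ c, IsRoot cs h c → Bf A b c = -1 → ∀ k ∈ K, cj k (X r) = X b → ∀ l ∈ K,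
    cj l (X r) = X c → ∀ a ∈ A', ∀ a' ∈ A',
      (k * a * k⁻¹) * (l * (t * a' * t) * l⁻¹) = (l * (t * a' * t) * l⁻¹) * (k * a * k⁻¹)

/-- an element of `T` acting on `V r` as a given element of `K` normalising `X r`, centralising `V (r - s)` -/
theorem K_act' {r s : I → ℤ} (hr : IsRoot cs h r) (hs : IsRoot cs h s) (hsr : Bf A s r = 1) {k : G} (hk : k ∈ K)
    (hkX : cj k (X r) = X r) : ∃ g ∈ H.TA r s, ∀ v ∈ V r, k * v * k⁻¹ = g * v * g⁻¹ := by
  have hR := H.rts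
  have hrs : IsRoot cs h (r - s) := hR.sub_mem hr hs (by rw [hR.symm]; exact hsr)
  have hrsr : Bf A (r - s) r = 1 := by rw [hR.sub_left, hR.two r hr, hsr]; norm_num
  obtain ⟨u, hu, e⟩ := H.K_act hr hk (Cfsg.Agent.Nodes.Reps.mem_normalizer_iff_cj.2 hkX)
  obtain ⟨z, hz, hz1⟩ := Cfsg.Agent.KFacts.RgdTor.exists_ne H.D.rgd hr
  have h1 : u * z * u⁻¹ ∈ X r := Cfsg.Agent.KFacts.RgdTor.tor_mem H.D.rgd hr hu hz
  have h2 : u * z * u⁻¹ ≠ 1 := by
    intro h3
    apply hz1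
    have : z = u⁻¹ * (u * z * u⁻¹) * u := by group
    rw [this, h3]; group
  obtain ⟨g, hg, e', hc⟩ := H.exists_tor hr hrs hrsr hz hz1 h1 h2
  refine ⟨g, ⟨hg, Subgroup.mem_centralizer_iff.2 fun y hy => (hc y hy).symm⟩, fun v hv => ?_⟩
  rw [e v hv]
  have h3 : u⁻¹ * g ∈ T := mul_mem (inv_mem hu) hg
  have h4 : u⁻¹ * g * z = z * (u⁻¹ * g) := by
    have : g * z = u * z * u⁻¹ * g := by rw [← e']; group
    rw [mul_assoc, this]; group
  have h5 := H.T_cent hr h3 hz hz1 h4 hv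
  calc u * v * u⁻¹ = u * (v * (u⁻¹ * g)) * g⁻¹ := by group
    _ = u * (u⁻¹ * g * v) * g⁻¹ := by rw [h5]
    _ = g * v * g⁻¹ := by group

theorem rp_K {w : W} {k : G} (hk : Rp cs H.D.rgd.nsys w k) : k ∈ K := by
  rw [← H.D.GG_eq]
  exact NN_le_GG H.D.rgd ⟨w, hk⟩

theorem Kt' {k : G} (hk : k ∈ K) (a : G) : k * (t * a * t) * k⁻¹ = t * (k * a * k⁻¹) * t := by
  have h1 := H.Kt k hk
  have h2 := H.Kt k⁻¹ (inv_mem hk)
  calc k * (t * a * t) * k⁻¹ = (k * t) * a * (t * k⁻¹) := by group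
    _ = (t * k) * a * (k⁻¹ * t) := by rw [h1, h2]
    _ = t * (k * a * k⁻¹) * t := by group

/-- **Case A.** -/
theorem caseA {r s : I → ℤ} (hr : IsRoot cs h r) (hs : IsRoot cs h s) (hsr : Bf A s r = 1) {x1 y1 z : G}
    (hx1 : x1 ∈ X s) (hy1 : y1 ∈ X (r - s)) (hz : ⁅x1, y1⁆ = z) (hz1 : z ≠ 1) {e : ↥(V r)}
    (E : RingOut.Inp.Idem (H.inp hr hs hsr hx1 hy1 hz hz1) e) :
    H.CaseA r ((H.inp hr hs hsr hx1 hy1 hz hz1).Ae e) := by
  have hR := H.rts
  set J := H.inp hr hs hsr hx1 hy1 hz hz1 with hJ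
  have hss := hR.two s hs
  have hrr := hR.two r hr
  have hrs : IsRoot cs h (r - s) := hR.sub_mem hr hs (by rw [hR.symm]; exact hsr)
  have hsrs : Bf A s (r - s) = -1 := by rw [hR.sub_right, hsr, hss]; norm_num
  have hrss : Bf A (r - s) s = -1 := by rw [hR.symm]; exact hsrs
  have esum : s + (r - s) = r := by abel
  have esum' : r - s + s = r := by abel
  have hx11 : x1 ≠ 1 := by
    rintro rfl
    apply hz1
    rw [← hz, commutatorElement_one_left]
  have hy11 : y1 ≠ 1 := by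
    rintro rfl
    apply hz1
    rw [← hz, commutatorElement_one_right]
  obtain ⟨w, m, hw, hm, em⟩ := H.exists_m hrs hs hrss hy1 hy11
  obtain ⟨w', m', hw', hm', em'⟩ := H.exists_m hs hrs hsrs hx1 hx11
  have ew : rep cs h w s = r := by
    rw [hw, ← bf_eq_cpr H.D.h4 H.D.h6 s hrs, hsrs]; module
  have ew' : rep cs h w' (r - s) = r := by
    rw [hw', ← bf_eq_cpr H.D.h4 H.D.h6 (r - s) hs, hrss]; module
  have hxs : ∀ x ∈ V s, m * x * m⁻¹ = ⁅x, y1⁆ := by
    intro x hx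
    have h1 := em x hx
    have h2 : m * x * m⁻¹ ∈ V r := by
      rw [← h1]
      have := H.comm_neg hrs hs hrss (H.Dl.XW _ hrs hy1) hx
      rwa [esum'] at this
    rw [← commutatorElement_inv, h1]
    exact (inv_eq_of_mul_eq_one_left (H.Dl.sq r hr _ h2)).symm
  have nrm : ∀ k ∈ K, cj k (X r) = X r → cj k (J.Ae e) ≤ J.Ae e := by
    intro k hk hkX a ha
    rw [mem_cj] at ha
    obtain ⟨g, hg, eg⟩ := H.K_act' hr hs hsr hk hkX
    have h1 := E.scalar hg eg ha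
    have h2 : k * (k⁻¹ * a * k) * k⁻¹ = a := by group
    rwa [h2] at h1
  -- the two base pairs
  have b1 : ∀ a ∈ J.Ae e, ∀ b ∈ J.Ae e, (m⁻¹ * a * m) * (m'⁻¹ * (t * b * t) * m') =
      (m'⁻¹ * (t * b * t) * m') * (m⁻¹ * a * m) := by
    intro a ha b hb
    have h1 : t * (t * b * t) * t = b := by
      calc t * (t * b * t) * t = (t * t) * b * (t * t) := by group
        _ = b := by rw [H.Dl.tt]; group
    exact E.commute hxs (fun y hy => (em' y hy).symm) (Or.inl ⟨ha, by rw [h1]; exact hb, J.V_t b (J.Ae_le e hb)⟩)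
  have b2 : ∀ a ∈ J.Ae e, ∀ b ∈ J.Ae e, (m'⁻¹ * a * m') * (m⁻¹ * (t * b * t) * m) =
      (m⁻¹ * (t * b * t) * m) * (m'⁻¹ * a * m') := by
    intro a ha b hb
    have h1 : t * (t * b * t) * t = b := by
      calc t * (t * b * t) * t = (t * t) * b * (t * t) := by group
        _ = b := by rw [H.Dl.tt]; group
    exact (E.commute hxs (fun y hy => (em' y hy).symm)
      (Or.inr ⟨by rw [h1]; exact hb, J.V_t b (J.Ae_le e hb), ha⟩)).symm
  -- transport
  have tr : ∀ {k k0 g : G} {b c : I → ℤ} {w0 w1 : W}, k ∈ K → cj k (X r) = X b → Rp cs H.D.rgd.nsys w0 k0 →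
      rep cs h w0 c = r → IsRoot cs h c → Rp cs H.D.rgd.nsys w1 g → rep cs h w1 c = b → ∀ a ∈ J.Ae e,
      ∃ a' ∈ J.Ae e, k * a * k⁻¹ = g * (k0⁻¹ * a' * k0) * g⁻¹ := by
    intro k k0 g b c w0 w1 hk hkX hk0 hw0 hc hg hw1 a ha
    have hgK := H.rp_K hg
    have hk0K := H.rp_K hk0
    set k2 := k0 * g⁻¹ * k with hk2
    have h2 : cj k2 (X r) = X r := by
      rw [hk2, cj_mul, cj_mul, hkX, ← hw1, H.D.rgd.conj_rp hg.inv (hc.act _), rep_inv_apply,
        H.D.rgd.conj_rp hk0 hc, hw0]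
    have h3 := nrm k2 (mul_mem (mul_mem hk0K (inv_mem hgK)) hk) h2
    refine ⟨k2 * a * k2⁻¹, h3 (conj_mem_cj.2 ha), ?_⟩
    rw [hk2]; group
  refine ⟨J.Ae_le e, fun a ha ha' => E.inf ha ha', E.card, nrm, ?_⟩
  intro b hb c hc hbc k hk hkX l hl hlX a ha a' ha'
  rcases H.pair_conj' hr hs hsr hb hc hbc with ⟨v, h1, h2⟩ | ⟨v, h1, h2⟩
  · obtain ⟨g, hg⟩ := exists_rp cs H.D.rgd.nsys v
    obtain ⟨a1, ha1, e1⟩ := tr hk hkX hm ew hs hg h1 a ha
    obtain ⟨a2, ha2, e2⟩ := tr hl hlX hm' ew' hrs hg h2 a' ha'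
    have hgK := H.rp_K hg
    have hm'K := H.rp_K hm'
    rw [H.Kt' hl, e1, e2, ← H.Kt' hgK]
    have e3 : t * (m'⁻¹ * a2 * m') * t = m'⁻¹ * (t * a2 * t) * m' := by
      have := H.Kt' (inv_mem hm'K) a2
      rw [inv_inv] at this
      exact this.symm
    rw [e3]
    have h5 := b1 a1 ha1 a2 ha2
    calc g * (m⁻¹ * a1 * m) * g⁻¹ * (g * (m'⁻¹ * (t * a2 * t) * m') * g⁻¹)
        = g * ((m⁻¹ * a1 * m) * (m'⁻¹ * (t * a2 * t) * m')) * g⁻¹ := by group
      _ = g * ((m'⁻¹ * (t * a2 * t) * m') * (m⁻¹ * a1 * m)) * g⁻¹ := by rw [h5]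
      _ = _ := by group
  · obtain ⟨g, hg⟩ := exists_rp cs H.D.rgd.nsys v
    obtain ⟨a1, ha1, e1⟩ := tr hk hkX hm' ew' hrs hg h1 a ha
    obtain ⟨a2, ha2, e2⟩ := tr hl hlX hm ew hs hg h2 a' ha'
    have hgK := H.rp_K hg
    have hmK := H.rp_K hm
    rw [H.Kt' hl, e1, e2, ← H.Kt' hgK]
    have e3 : t * (m⁻¹ * a2 * m) * t = m⁻¹ * (t * a2 * t) * m := by
      have := H.Kt' (inv_mem hmK) a2
      rw [inv_inv] at this
      exact this.symm
    rw [e3]
    have h5 := b2 a1 ha1 a2 ha2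
    calc g * (m'⁻¹ * a1 * m') * g⁻¹ * (g * (m⁻¹ * (t * a2 * t) * m) * g⁻¹)
        = g * ((m'⁻¹ * a1 * m') * (m⁻¹ * (t * a2 * t) * m)) * g⁻¹ := by group
      _ = g * ((m⁻¹ * (t * a2 * t) * m) * (m'⁻¹ * a1 * m')) * g⁻¹ := by rw [h5]
      _ = _ := by group

/-- **The dichotomy.** `S` is a group containing `t`, normalising `V r` and `D = ⟨V a : (a, r) ≥ 1⟩` and centralising
`z ∈ X r`. -/
theorem dichotomy {r : I → ℤ} (hr : IsRoot cs h r) {z : G} (hz : z ∈ X r) (hz1 : z ≠ 1) {S : Subgroup G}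
    (ht : t ∈ S) (SD : ∀ g ∈ S, ∀ x ∈ H.DD r, g * x * g⁻¹ ∈ H.DD r) (SV : ∀ g ∈ S, ∀ v ∈ V r, g * v * g⁻¹ ∈ V r)
    (Sz : ∀ g ∈ S, g * z = z * g) : (∃ A' : Subgroup G, H.CaseA r A') ∨
      ∃ (C : Type) (_ : CommGroup C) (θ : S →* C), (∀ x, θ x = 1 ↔ ∀ v ∈ V r, (x : G) * v = v * x) ∧
        θ ⟨t, ht⟩ ≠ 1 ∧ ∀ x, θ (x * x) = 1 → θ x = 1 ∨ θ x = θ ⟨t, ht⟩ := by
  obtain ⟨s, hs, hsr⟩ := H.exists_one hr
  obtain ⟨x1, hx1, y1, hy1, e⟩ := H.exists_xy hr hs hsr hz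
  rcases (H.inp hr hs hsr hx1 hy1 e hz1).idem_or_field with ⟨f, E⟩ | hf
  · left
    exact ⟨_, H.caseA hr hs hsr hx1 hy1 e hz1 E⟩
  · right
    exact RingOut.Inp.Act.exists_theta (h := H.inp hr hs hsr hx1 hy1 e hz1) ⟨SD, SV, Sz⟩ ht hf

/-- An element of `C(t)` permuting the root groups `X a`, `(a, r) ≥ 1`, and their doubles normalises `D`. -/
theorem DD_conj {r : I → ℤ} {g : G} (hg : ∀ a, IsRoot cs h a → 1 ≤ Bf A a r → ∃ b, IsRoot cs h b ∧ 1 ≤ Bf A b r ∧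
    ∀ v ∈ V a, g * v * g⁻¹ ∈ V b) : ∀ x ∈ H.DD r, g * x * g⁻¹ ∈ H.DD r := by
  have h1 : H.DD r ≤ (H.DD r).comap (MulAut.conj g).toMonoidHom := by
    refine RGD.Sup_le fun a ha v hv => ?_
    obtain ⟨b, hb, hbr, e⟩ := hg a ha.1 ha.2
    exact H.V_le_DD hb hbr (e v hv)
  exact fun x hx => h1 hx

end Hyp

end Cfsg.Agent.OddHalf.D7Out.RingSL
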