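import Cfsg.Agent.OddHalf.D7Out.FrontSL
import Cfsg.Agent.OddHalf.D7Ex.KTwo

/-!
# Perfect subgroups of `C_K(X r)` containing `X r` (helper875)

`hasP_big` : `q > 2`; `hasP_two` : `q = 2`, every root orthogonal to `r` has a neighbour orthogonal to `r`.
-/

set_option autoImplicit false
set_option linter.unusedSectionVars false

namespace Cfsg.Agent.OddHalf.D7Out.HasPOf

open CoxeterSystem Cfsg.Agent.ChevalleyStructure.CoxeterGeom Cfsg.Agent.Tits.Roots Cfsg.Agent.Tits.Core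
  Cfsg.Agent.Tits.RootComb Cfsg.Agent.Nodes.Reps Cfsg.Agent.Nodes.BNOf Cfsg.Agent.Nodes.Coroot
  Cfsg.Agent.OddHalf.SL.Index Cfsg.Agent.OddHalf.SL.OfRGD Cfsg.Agent.KFacts.SLRow.Def
  Cfsg.Agent.OddHalf.D7Ex Cfsg.Agent.OddHalf.SL.PreOf

variable {I W : Type*} [Fintype I] [DecidableEq I] [Group W] {M : CoxeterMatrix I}
  {cs : CoxeterSystem M W} {A : I → I → ℤ} {h : IsCartan M A}
  {G : Type*} [Group G] {K : Subgroup G} {T₀ : Subgroup ↥K} {n : I → ↥K} {X : (I → ℤ) → Subgroup ↥K} {q : ℕ}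

theorem hasP_of [Finite G] [Finite W] (D : Datum (⊤ : Subgroup ↥K) q cs h T₀ n X)
    (hp : ∀ r, IsRoot cs h r → PR (Bf A) {x | IsRoot cs h x} X r ≤
      ⁅PR (Bf A) {x | IsRoot cs h x} X r, PR (Bf A) {x | IsRoot cs h x} X r⁆) : FrontSL.HasP cs h X := by
  intro r hr
  have hR := roots cs h D.h4 D.h6
  refine ⟨PR (Bf A) {x | IsRoot cs h x} X r, le_antisymm ?_ (hp r hr), le_PR X hr (by rw [hR.two r hr]; norm_num),
    fun y hy x hx => ((KData.rg D).XP hr hx hy).symm⟩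
  rw [Subgroup.commutator_le]
  intro a ha b hb
  rw [commutatorElement_def]
  exact mul_mem (mul_mem (mul_mem ha hb) (inv_mem ha)) (inv_mem hb)

theorem hasP_big [Finite G] [Finite W] (D : Datum (⊤ : Subgroup ↥K) q cs h T₀ n X) (hq : 2 < q) :
    FrontSL.HasP cs h X := hasP_of D fun _ hr => KData.perf D hq hr

theorem hasP_two [Finite G] [Finite W] (D : Datum (⊤ : Subgroup ↥K) 2 cs h T₀ n X)
    (hirr : ∀ r, IsRoot cs h r → ∀ b, IsRoot cs h b → Bf A b r = 0 →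
      ∃ d, IsRoot cs h d ∧ Bf A d r = 0 ∧ Bf A b d = 1) : FrontSL.HasP cs h X :=
  hasP_of D fun r hr => KTwo.perfTwo D hr (hirr r hr)

end Cfsg.Agent.OddHalf.D7Out.HasPOf
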