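import Cfsg.Agent.OddHalf.D7Out.HasFldOf
import Cfsg.Agent.OddHalf.D7Out.HasPOf
import Cfsg.Agent.OddHalf.D7Out.FrGen
import Cfsg.Agent.OddHalf.D7End.Main
import Cfsg.Agent.OddHalf.D7Ex.OfFront
import Cfsg.Agent.KFacts.SLRow.Tab

/-!
# D7 for simply laced `K`: the middle (helper875)

`K` simply laced with coordinates (`Datum ⊤ q`, `ChevTwo.Sys`), the starting position `Start K t v`, `G` perfect:
front (`FrontSL.front`), existence of the doubled root group (`HasEx`), growth (`HasGr`) and end (`D7End.Main.false_of`).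

* `false_of` : `HasP`, `HasEx`, `HasGr` give a contradiction;
* `hasEx_big` : `q > 2`.
-/

set_option autoImplicit false
set_option linter.unusedSectionVars false

namespace Cfsg.Agent.OddHalf.D7Out.MainSL

open CoxeterSystem Cfsg.Agent.ChevalleyStructure.CoxeterGeom Cfsg.Agent.Tits.Roots Cfsg.Agent.Tits.Core
  Cfsg.Agent.Tits.Exchange Cfsg.Agent.Nodes.Reps Cfsg.Agent.Nodes.BNOf Cfsg.Agent.Nodes.StabComb
  Cfsg.Agent.Nodes.Bruhat Cfsg.Agent.KFacts.RgdCent Cfsg.Agent.KFacts.RgdSL Cfsg.Agent.KFacts.RgdTI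
  Cfsg.Agent.KFacts.SLRow.Def Cfsg.Agent.KFacts.ChevTwo Cfsg.Agent.KFacts.RgdSys Cfsg.Agent.KFacts.RgdTau
  Cfsg.Agent.KFacts.RgdField Cfsg.Agent.OddHalf.SL.Index Cfsg.Agent.OddHalf.SL.PreOf
  Cfsg.Agent.Nodes.Coroot Cfsg.Agent.Tits.RootComb Cfsg.Agent.Nodes.Comb Cfsg.Agent.OddHalf.D7End
  Cfsg.Agent.OddHalf.D7Ex Cfsg.Agent.OddHalf.SL
open scoped commutatorElement

variable {I W : Type*} [Fintype I] [DecidableEq I] [Group W] {M : CoxeterMatrix I}
  {cs : CoxeterSystem M W} {A : I → I → ℤ} {h : IsCartan M A}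
  {G : Type*} [Group G] {K : Subgroup G} {T₀ : Subgroup ↥K} {n : I → ↥K} {X : (I → ℤ) → Subgroup ↥K} {q : ℕ}
  {F : Type*} [Field F] {e : (I → ℤ) → F → ↥K} {t v : G}

/-- existence of the doubled root group at the highest root -/
def HasEx [Finite W] [Finite G] (D : Datum (⊤ : Subgroup ↥K) q cs h T₀ n X) (e : (I → ℤ) → F → ↥K) (t v : G) : Prop :=
  ∀ (ρ : I → ℤ) (T : Subgroup G) (g : ↥T →* Equiv.Perm I × (F ≃+* F)) (m z : G),
    FrontSL.Out cs h T₀ X e t v ρ T g m z → KFull.CT t K → ∃ V, Base0.Base0 (OutBase.dm D).rgd t ρ V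

/-- growth -/
def HasGr [Finite W] [Finite G] (D : Datum (⊤ : Subgroup ↥K) q cs h T₀ n X) (t : G) : Prop :=
  ∀ (ρ : I → ℤ) (V : Subgroup G), KFull.CT t K → Base0.Base0 (OutBase.dm D).rgd t ρ V →
    ∃ V', Defs.Dbl t (Bf A) {x | IsRoot cs h x} (fun r => (X r).map K.subtype) V'

/-- **The middle.** -/
theorem false_of [Finite G] [Finite W] [Finite F] [CharP F 2] (hG : commutator G = ⊤) (S : Front.FE.Start K t v)
    (hs : Schreier.Basic.Sch ↥K) (D : Datum (⊤ : Subgroup ↥K) q cs h T₀ n X) (Sy : Sys D.rgd e)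
    (hM : Outer.DiagTwo M) (hP : FrontSL.HasP cs h X) (hEx : HasEx D e t v) (hGr : HasGr D t) : False := by
  obtain ⟨ρ, T, g, m, z, O⟩ := FrontSL.front hG S hs D Sy hM hP (HasFldOf.hasFld D Sy hM)
  have perf : ∀ P : Subgroup G, ⁅P, P⁆ = P → (∀ x ∈ P, x * t = t * x) → P ≤ K := fun P h1 h2 =>
    FrGen.perf_le S.toStart0 hs h2 h1
  have C : KFull.CT t K := OfFront.ct O fun P h1 h2 => perf P h2 h1
  obtain ⟨V₀, B⟩ := hEx ρ T g m z O C
  obtain ⟨V, Db⟩ := hGr ρ V₀ C B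
  exact D7End.Main.false_of hG S.simple D Sy hM O hP perf Db fun r hr c hct hc =>
    KFull.k1 D C hr hct.symm fun a ha h1 x hx => hc a ha h1 x hx

/-- existence for `q > 2` -/
theorem hasEx_big [Finite G] [Finite W] (D : Datum (⊤ : Subgroup ↥K) q cs h T₀ n X) (Sy : Sys D.rgd e) (hq : 2 < q)
    (hT : 4 ≤ Fintype.card I ∨ ∀ ρ, IsRoot cs h ρ → (∀ i, 0 ≤ cpr cs h (sr i) ρ) →
      ∃ β g k, Tor (Bf A) {x | IsRoot cs h x} (fun x => (X x).map K.subtype) ρ (T₀.map K.subtype) β g k) :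
    HasEx D e t v := by
  intro ρ T g m z O C
  exact OfFront.exists_base0 D O C (fun a ha b hb => Cfsg.Agent.KFacts.SLRow.Tab.comm_T Sy D.cent ha hb) hq
    (hT.imp_right fun h1 => h1 ρ O.root O.dom)

end Cfsg.Agent.OddHalf.D7Out.MainSL
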