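import Cfsg.Agent.OddHalf.D7Out.Defs
import Cfsg.Agent.OddHalf.TFormula

/-!
# D7, the front: (F2) and (F3) (helper875; text: bb ODD 8710)

* `exists_swap`: if `t` is not isolated in `Z(T)` then `R = {1, t}` and some `n ∈ N_G(T)` moves `t` to `t z`,
  `1 ≠ z ∈ Z ∩ Z(T)`;
* `conj_all`: then `t` is conjugate to `t z` for all `z ∈ Z`;
* `phi_eq_one`: the `T`-formula: for `1 ≠ z ∈ Z ∩ Z(T)` every homomorphism from `C_G(z)` to an abelian group kills `t`.
-/

set_option autoImplicit false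

namespace Cfsg.Agent.OddHalf.D7Out.Front

open Subgroup Cfsg.Agent.OddHalf.D7Out.Defs

variable {G : Type*} [Group G]

theorem isPGroup_zpowers {y : G} (h : y * y = 1) : IsPGroup 2 (zpowers y) := by
  rintro ⟨a, ha⟩
  obtain ⟨i, rfl⟩ := mem_zpowers_iff.1 ha
  refine ⟨1, Subtype.ext ?_⟩
  show (y ^ i) ^ (2 ^ 1) = 1
  rw [pow_one, pow_two, ← zpow_add, ← two_mul, zpow_mul]
  have : y ^ (2 : ℤ) = 1 := by
    rw [show (2 : ℤ) = 1 + 1 by norm_num, zpow_add, zpow_one, h]
  rw [this, one_zpow]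

/-- two subgroups which are maximal among the `2`-subgroups of `C` are conjugate in `C` -/
theorem exists_conj_of_max [Finite G] {C P Q : Subgroup G} (hP : IsPGroup 2 P) (hPC : P ≤ C)
    (hPm : ∀ R : Subgroup G, IsPGroup 2 R → P ≤ R → R ≤ C → R ≤ P) (hQ : IsPGroup 2 Q) (hQC : Q ≤ C)
    (hQm : ∀ R : Subgroup G, IsPGroup 2 R → Q ≤ R → R ≤ C → R ≤ Q) :
    ∃ c ∈ C, ∀ x : G, x ∈ Q ↔ c⁻¹ * x * c ∈ P := by
  have mk : ∀ {P : Subgroup G}, IsPGroup 2 P → P ≤ C →
      (∀ R : Subgroup G, IsPGroup 2 R → P ≤ R → R ≤ C → R ≤ P) →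
      ∃ S : Sylow 2 C, ∀ x : C, x ∈ (S : Subgroup C) ↔ (x : G) ∈ P := by
    intro P hP hPC hPm
    refine ⟨⟨P.subgroupOf C, hP.comap_of_injective C.subtype C.subtype_injective, ?_⟩, fun x => Iff.rfl⟩
    intro R hR hle
    apply le_antisymm _ hle
    have h1 : R.map C.subtype ≤ P := by
      apply hPm _ (hR.map C.subtype)
      · intro y hy
        exact ⟨⟨y, hPC hy⟩, hle (by exact hy), rfl⟩
      · rintro _ ⟨y, -, rfl⟩
        exact y.2
    intro y hy
    exact h1 ⟨y, hy, rfl⟩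
  obtain ⟨S1, h1⟩ := mk hP hPC hPm
  obtain ⟨S2, h2⟩ := mk hQ hQC hQm
  obtain ⟨c, hc⟩ := MulAction.exists_smul_eq C S1 S2
  refine ⟨c, c.2, fun x => ?_⟩
  have key : ∀ x : C, x ∈ (S2 : Subgroup C) ↔ c⁻¹ * x * c ∈ (S1 : Subgroup C) := by
    intro x
    rw [← hc]
    constructor
    · intro h
      obtain ⟨y, hy, hyx⟩ := h
      have hyx' : c * y * c⁻¹ = x := hyx
      rw [← hyx']
      have e : c⁻¹ * (c * y * c⁻¹) * c = y := by group
      rw [e]; exact hy
    · intro h
      refine ⟨c⁻¹ * x * c, h, ?_⟩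
      show c * (c⁻¹ * x * c) * c⁻¹ = x
      group
  constructor
  · intro hx
    have h3 := (key ⟨x, hQC hx⟩).1 ((h2 _).2 hx)
    exact (h1 _).1 h3
  · intro hx
    have hxC : x ∈ C := by
      have h4 : (c : G) * ((c : G)⁻¹ * x * (c : G)) * (c : G)⁻¹ ∈ C :=
        C.mul_mem (C.mul_mem c.2 (hPC hx)) (C.inv_mem c.2)
      have e : ∀ d : G, d * (d⁻¹ * x * d) * d⁻¹ = x := fun d => by group
      rwa [e] at h4
    exact (h2 ⟨x, hxC⟩).1 ((key ⟨x, hxC⟩).2 ((h1 _).2 hx))

section

variable {t v : G} {K U Z T : Subgroup G}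

theorem K_comm_R (F : Fr t v K U Z T) {x r : G} (hx : x ∈ K) (hr : r ∈ zpowers v) : x * r = r * x := by
  have h1 : v ∈ centralizer (K : Set G) := mem_centralizer_iff.2 fun x hx => F.vK x hx
  exact mem_centralizer_iff.1 ((zpowers_le.2 h1) hr) x hx

theorem Kt (F : Fr t v K U Z T) {x : G} (hx : x ∈ K) : x * t = t * x := K_comm_R F hx F.tR

theorem ZK (F : Fr t v K U Z T) : Z ≤ K := fun z hz => by
  have := F.ZU hz
  rw [F.U_eq] at this
  exact this.2

theorem UK (F : Fr t v K U Z T) : U ≤ K := by rw [F.U_eq]; exact inf_le_right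

theorem UT (F : Fr t v K U Z T) : U ≤ T := by rw [F.U_eq]; exact inf_le_left

theorem RT (F : Fr t v K U Z T) : zpowers v ≤ T := zpowers_le.2 F.vT

theorem tT (F : Fr t v K U Z T) : t ∈ T := RT F F.tR

/-- `t` is the only involution of `R` -/
theorem eq_t [Finite G] (F : Fr t v K U Z T) {r : G} (hr : r ∈ zpowers v) (hrr : r * r = 1) : r = 1 ∨ r = t := by
  classical
  by_contra hne
  push Not at hne
  have : Fintype ↥(zpowers v) := Fintype.ofFinite _
  have h1 := IsCyclic.card_pow_eq_one_le (α := ↥(zpowers v)) (n := 2) two_pos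
  have h2 : ({1, ⟨t, F.tR⟩, ⟨r, hr⟩} : Finset ↥(zpowers v)) ⊆
      Finset.univ.filter (fun a : ↥(zpowers v) => a ^ 2 = 1) := by
    intro a ha
    rw [Finset.mem_insert, Finset.mem_insert, Finset.mem_singleton] at ha
    rw [Finset.mem_filter]
    refine ⟨Finset.mem_univ _, ?_⟩
    rcases ha with rfl | rfl | rfl
    · exact one_pow 2
    · exact Subtype.ext (by rw [Subgroup.coe_pow, pow_two]; exact F.tt)
    · exact Subtype.ext (by rw [Subgroup.coe_pow, pow_two]; exact hrr)
  have h3 := Finset.card_le_card h2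
  have h4 : ({1, ⟨t, F.tR⟩, ⟨r, hr⟩} : Finset ↥(zpowers v)).card = 3 := by
    rw [Finset.card_eq_three]
    refine ⟨1, ⟨t, F.tR⟩, ⟨r, hr⟩, ?_, ?_, ?_, rfl⟩
    · intro h; exact F.t1 (congrArg Subtype.val h).symm
    · intro h; exact hne.1 (congrArg Subtype.val h).symm
    · intro h; exact hne.2 (congrArg Subtype.val h).symm
  rw [h4] at h3
  omega

/-- every nontrivial subgroup of `R` contains `t` -/
theorem t_mem_zpowers [Finite G] (F : Fr t v K U Z T) {r : G} (hr : r ∈ zpowers v) (hr1 : r ≠ 1) :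
    t ∈ zpowers r := by
  have hle : zpowers r ≤ zpowers v := zpowers_le.2 hr
  have hp : IsPGroup 2 (zpowers r) := F.pR.to_le hle
  obtain ⟨n, hn⟩ := IsPGroup.iff_card.1 hp
  rw [Nat.card_zpowers] at hn
  have hn0 : n ≠ 0 := by
    rintro rfl
    rw [pow_zero, orderOf_eq_one_iff] at hn
    exact hr1 hn
  obtain ⟨m, rfl⟩ := Nat.exists_eq_succ_of_ne_zero hn0
  have h1 : r ^ (2 ^ m) * r ^ (2 ^ m) = 1 := by
    rw [← pow_add, ← two_mul, ← pow_succ', ← hn, pow_orderOf_eq_one]
  have h2 : r ^ (2 ^ m) ≠ 1 := by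
    intro h
    have h1 := orderOf_dvd_of_pow_eq_one h
    rw [hn] at h1
    have h2 := Nat.le_of_dvd (pow_pos two_pos m) h1
    rw [pow_succ] at h2
    have := pow_pos (two_pos (α := ℕ)) m
    omega
  rcases eq_t F (hle (pow_mem (mem_zpowers r) _)) h1 with h | h
  · exact absurd h h2
  · rw [← h]; exact pow_mem (mem_zpowers r) _

/-- an element of `2`-power order commuting with `T` lies in `T` -/
theorem mem_T (F : Fr t v K U Z T) {y : G} (hp : IsPGroup 2 (zpowers y)) (hc : ∀ x ∈ T, x * y = y * x) : y ∈ T := by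
  have hle : zpowers y ≤ normalizer (T : Set G) := by
    rw [zpowers_le, mem_normalizer_iff]
    intro x
    constructor
    · intro hx
      have : y * x * y⁻¹ = x := by rw [← hc x hx]; group
      rw [this]; exact hx
    · intro hx
      have h3 := hc _ hx
      have h4 : x = y * x * y⁻¹ := by
        have h5 : y * x = y * (y * x * y⁻¹) := by rw [← h3]; group
        exact mul_left_cancel h5
      rw [h4]; exact hx
  have h1 : IsPGroup 2 ((zpowers y ⊔ T : Subgroup G)) := hp.to_sup_of_normal_right' F.pT hle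
  have h2 : ∀ x ∈ zpowers y ⊔ T, x * t = t * x := by
    have : zpowers y ⊔ T ≤ centralizer ({t} : Set G) := by
      rw [sup_le_iff, zpowers_le]
      exact ⟨mem_centralizer_singleton_iff.2 (hc t (tT F)).symm, fun x hx =>
        mem_centralizer_singleton_iff.2 (F.tc x hx)⟩
    intro x hx
    exact mem_centralizer_singleton_iff.1 (this hx)
  exact F.max _ h1 le_sup_right h2 ((le_sup_left : zpowers y ≤ _) (mem_zpowers y))

/-- the involutions of `Z(T)` -/
theorem center_cases [Finite G] (F : Fr t v K U Z T) {y : G} (hc : ∀ x ∈ T, x * y = y * x) (hyy : y * y = 1) :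
    ∃ z ∈ Z, (∀ x ∈ T, x * z = z * x) ∧ (y = z ∨ y = t * z) := by
  have hy : y ∈ T := mem_T F (isPGroup_zpowers hyy) hc
  obtain ⟨r, hr, z, hz, rfl⟩ := F.cU y hy fun u hu => (hc u (UT F hu)).symm
  have hzr := K_comm_R F (ZK F hz) hr
  have hrr : r * r = 1 := by
    have h1 : r * z * (r * z) = r * r * (z * z) := by
      calc r * z * (r * z) = r * (z * r) * z := by group
        _ = r * r * (z * z) := by rw [hzr]; group
    rw [h1, F.Zsq z hz, mul_one] at hyy
    exact hyy
  have hcr : ∀ x ∈ T, x * r = r * x := by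
    intro x hx
    rcases eq_t F hr hrr with h | h
    · rw [h, mul_one, one_mul]
    · rw [h]; exact F.tc x hx
  refine ⟨z, hz, ?_, ?_⟩
  · intro x hx
    have h1 := hc x hx
    have h2 := hcr x hx
    have h3 : r * (x * z) = r * (z * x) := by
      calc r * (x * z) = (r * x) * z := by group
        _ = x * (r * z) := by rw [← h2]; group
        _ = r * (z * x) := by rw [h1]; group
    exact mul_left_cancel h3
  · rcases eq_t F hr hrr with h | h
    · left; rw [h, one_mul]
    · right; rw [h]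

/-- `T` normalises `R` -/
theorem conj_R (F : Fr t v K U Z T) {x r : G} (hx : x * t = t * x) (hr : r ∈ zpowers v) : x * r * x⁻¹ ∈ zpowers v := by
  have hv : x * v * x⁻¹ ∈ zpowers v := by
    apply F.cK
    · have hvt : v * t = t * v := by
        obtain ⟨j, hj⟩ := mem_zpowers_iff.1 F.tR
        rw [← hj, ← zpow_one_add, ← zpow_add_one, add_comm]
      have hxt : x⁻¹ * t = t * x⁻¹ := by
        rw [inv_mul_eq_iff_eq_mul, ← mul_assoc, hx, mul_inv_cancel_right]
      calc x * v * x⁻¹ * t = x * v * (x⁻¹ * t) := by group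
        _ = x * (v * t) * x⁻¹ := by rw [hxt]; group
        _ = x * t * v * x⁻¹ := by rw [hvt]; group
        _ = t * (x * v * x⁻¹) := by rw [hx]; group
    · intro k hk
      have hxN := F.nK x hx
      have h1 : x⁻¹ * k * x ∈ K := by
        apply (mem_normalizer_iff.1 hxN (x⁻¹ * k * x)).2
        have e : x * (x⁻¹ * k * x) * x⁻¹ = k := by group
        rw [e]; exact hk
      have h2 := F.vK _ h1
      calc k * (x * v * x⁻¹) = x * (x⁻¹ * k * x * v) * x⁻¹ := by group
        _ = x * (v * (x⁻¹ * k * x)) * x⁻¹ := by rw [h2]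
        _ = x * v * x⁻¹ * k := by group
  obtain ⟨j, rfl⟩ := mem_zpowers_iff.1 hr
  have e : x * v ^ j * x⁻¹ = (x * v * x⁻¹) ^ j := by
    rw [conj_zpow]
  rw [e]
  exact zpow_mem hv j

/-- **(F2)**: if `t` is not isolated in `Z(T)`, then some `n ∈ N(T)` moves `t` to `t z`, `z ∈ Z ∩ Z(T)`, and `R` has
order two. -/
theorem exists_swap [Finite G] (F : Fr t v K U Z T) (hni : ¬ Iso t T) :
    (∃ n ∈ normalizer (T : Set G), ∃ z ∈ Z, z ≠ 1 ∧ (∀ x ∈ T, x * z = z * x) ∧ n * t * n⁻¹ = t * z) ∧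
      ∀ r ∈ zpowers v, r = 1 ∨ r = t := by
  obtain ⟨g, hgT, hgc, hgt⟩ : ∃ g : G, g * t * g⁻¹ ∈ T ∧ (∀ x ∈ T, x * (g * t * g⁻¹) = g * t * g⁻¹ * x) ∧
      g * t * g⁻¹ ≠ t := by
    unfold Iso at hni
    push Not at hni
    exact hni
  have hgg : g * t * g⁻¹ * (g * t * g⁻¹) = 1 := by
    calc g * t * g⁻¹ * (g * t * g⁻¹) = g * (t * t) * g⁻¹ := by group
      _ = 1 := by rw [F.tt]; group
  obtain ⟨z, hz, hzc, h | h⟩ := center_cases F hgc hgg
  · exact absurd h (F.nconj z hz g)
  have hz1 : z ≠ 1 := by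
    rintro rfl
    rw [mul_one] at h
    exact hgt h
  -- the normaliser element
  obtain ⟨n, hnN, hnt⟩ : ∃ n ∈ normalizer (T : Set G), n * t * n⁻¹ = t * z := by
    set u : G := g * t * g⁻¹ with hu
    set Tg : Subgroup G := T.map (MulAut.conj g).toMonoidHom with hTg
    have hmem : ∀ x : G, x ∈ Tg ↔ g⁻¹ * x * g ∈ T := by
      intro x
      constructor
      · rintro ⟨y, hy, rfl⟩
        show g⁻¹ * (g * y * g⁻¹) * g ∈ T
        have e : g⁻¹ * (g * y * g⁻¹) * g = y := by group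
        rw [e]; exact hy
      · intro hx
        refine ⟨g⁻¹ * x * g, hx, ?_⟩
        show g * (g⁻¹ * x * g) * g⁻¹ = x
        group
    have hcomm : ∀ x : G, x * u = u * x ↔ g⁻¹ * x * g * t = t * (g⁻¹ * x * g) := by
      intro x
      rw [hu]
      constructor
      · intro hx
        calc g⁻¹ * x * g * t = g⁻¹ * (x * (g * t * g⁻¹)) * g := by group
          _ = g⁻¹ * (g * t * g⁻¹ * x) * g := by rw [hx]
          _ = t * (g⁻¹ * x * g) := by group
      · intro hx
        calc x * (g * t * g⁻¹) = g * (g⁻¹ * x * g * t) * g⁻¹ := by group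
          _ = g * (t * (g⁻¹ * x * g)) * g⁻¹ := by rw [hx]
          _ = g * t * g⁻¹ * x := by group
    have hpTg : IsPGroup 2 Tg := F.pT.map _
    have hTgC : Tg ≤ centralizer ({u} : Set G) := fun x hx =>
      mem_centralizer_singleton_iff.2 ((hcomm x).2 (F.tc _ ((hmem x).1 hx)))
    have hTgm : ∀ R : Subgroup G, IsPGroup 2 R → Tg ≤ R → R ≤ centralizer ({u} : Set G) → R ≤ Tg := by
      intro R hR hle hRC
      have h1 := F.max (R.map (MulAut.conj g⁻¹).toMonoidHom) (hR.map _) ?_ ?_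
      · intro x hx
        rw [hmem]
        exact h1 ⟨x, hx, by show g⁻¹ * x * g⁻¹⁻¹ = _; rw [inv_inv]⟩
      · intro x hx
        refine ⟨g * x * g⁻¹, hle ((hmem _).2 ?_), ?_⟩
        · have e : g⁻¹ * (g * x * g⁻¹) * g = x := by group
          rw [e]; exact hx
        · show g⁻¹ * (g * x * g⁻¹) * g⁻¹⁻¹ = x
          group
      · rintro _ ⟨x, hx, rfl⟩
        have h2 := (hcomm x).1 (mem_centralizer_singleton_iff.1 (hRC hx))
        show g⁻¹ * x * g⁻¹⁻¹ * t = t * (g⁻¹ * x * g⁻¹⁻¹)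
        rwa [inv_inv]
    have hcard : Nat.card Tg = Nat.card T :=
      (Nat.card_congr (T.equivMapOfInjective _ (MulAut.conj g).injective).toEquiv).symm
    have hTC : T ≤ centralizer ({u} : Set G) := fun x hx => mem_centralizer_singleton_iff.2 (hgc x hx)
    -- `T` is maximal as well, by order
    have hTm : ∀ R : Subgroup G, IsPGroup 2 R → T ≤ R → R ≤ centralizer ({u} : Set G) → R ≤ T := by
      intro R hR hle hRC
      set C : Subgroup G := centralizer ({u} : Set G) with hC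
      let S : Sylow 2 C :=
        { toSubgroup := Tg.subgroupOf C
          isPGroup' := hpTg.comap_of_injective C.subtype C.subtype_injective
          is_maximal' := by
            intro P hP hPle
            apply le_antisymm _ hPle
            have h1 : P.map C.subtype ≤ Tg := by
              apply hTgm _ (hP.map C.subtype)
              · intro y hy
                exact ⟨⟨y, hTgC hy⟩, hPle (by exact hy), rfl⟩
              · rintro _ ⟨y, -, rfl⟩
                exact y.2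
            intro y hy
            exact h1 ⟨y, hy, rfl⟩ }
      obtain ⟨P, hP⟩ := (hR.comap_of_injective C.subtype C.subtype_injective).exists_le_sylow
      have h1 : Nat.card (R.subgroupOf C) = Nat.card R := Nat.card_congr (subgroupOfEquivOfLe hRC).toEquiv
      have h2 : Nat.card (Tg.subgroupOf C) = Nat.card Tg := Nat.card_congr (subgroupOfEquivOfLe hTgC).toEquiv
      have h3 : Nat.card P = Nat.card S := by rw [P.card_eq_multiplicity, S.card_eq_multiplicity]
      have h4 : Nat.card (R.subgroupOf C) ≤ Nat.card P := Nat.card_le_card_of_injective _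
        (inclusion_injective hP)
      have h5 : Nat.card S = Nat.card (Tg.subgroupOf C) := rfl
      exact (Subgroup.eq_of_le_of_card_ge hle (by omega)).ge
    obtain ⟨c, hc, hcx⟩ := exists_conj_of_max hpTg hTgC hTgm F.pT hTC hTm
    refine ⟨c * g, ?_, ?_⟩
    · rw [mem_normalizer_iff]
      intro x
      rw [hcx (c * g * x * (c * g)⁻¹), hmem]
      have e : g⁻¹ * (c⁻¹ * (c * g * x * (c * g)⁻¹) * c) * g = x := by group
      rw [e]
    · have h1 := mem_centralizer_singleton_iff.1 hc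
      calc c * g * t * (c * g)⁻¹ = c * (g * t * g⁻¹) * c⁻¹ := by group
        _ = c * u * c⁻¹ := by rw [hu]
        _ = u := by rw [h1]; group
        _ = t * z := h
  refine ⟨⟨n, hnN, z, hz, hz1, hzc, hnt⟩, ?_⟩
  -- `|R| = 2`
  intro r hr
  by_contra hne
  push Not at hne
  -- `r0 ^ 2 = t`
  obtain ⟨r0, hr0, hr0t⟩ : ∃ r0 ∈ zpowers v, r0 * r0 = t := by
    have hrr : r * r ≠ 1 := fun h => by
      rcases eq_t F hr h with h' | h'
      · exact hne.1 h'
      · exact hne.2 h'
    have h1 := t_mem_zpowers F (mul_mem hr hr) hrr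
    obtain ⟨j, hj⟩ := mem_zpowers_iff.1 h1
    refine ⟨r ^ j, zpow_mem hr j, ?_⟩
    rw [← hj, ← zpow_add, ← two_mul, zpow_mul]
    congr 1
    rw [show (2 : ℤ) = 1 + 1 by norm_num, zpow_add, zpow_one]
  have hr0T : r0 ∈ T := RT F hr0
  set y : G := n * r0 * n⁻¹ with hy
  have hyT : y ∈ T := (mem_normalizer_iff.1 hnN r0).1 hr0T
  have hyy : y * y = t * z := by
    rw [hy, ← hnt]
    calc n * r0 * n⁻¹ * (n * r0 * n⁻¹) = n * (r0 * r0) * n⁻¹ := by group
      _ = n * t * n⁻¹ := by rw [hr0t]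
  have hycU : ∀ u ∈ U, y * u = u * y := by
    intro u hu
    -- `c = [u, y] ∈ K ∩ n R n⁻¹`
    have huT := UT F hu
    have h1 : n⁻¹ * u * n ∈ T := by
      apply (mem_normalizer_iff.1 hnN _).2
      have e : n * (n⁻¹ * u * n) * n⁻¹ = u := by group
      rw [e]; exact huT
    have h2 : n⁻¹ * u * n * r0 * (n⁻¹ * u * n)⁻¹ ∈ zpowers v := conj_R F (F.tc _ h1) hr0
    set r1 : G := n⁻¹ * u * n * r0 * (n⁻¹ * u * n)⁻¹ * r0⁻¹ with hr1
    have hr1R : r1 ∈ zpowers v := mul_mem h2 (inv_mem hr0)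
    have hc1 : u * y * u⁻¹ * y⁻¹ = n * r1 * n⁻¹ := by
      rw [hy, hr1]; group
    have hcK : u * y * u⁻¹ * y⁻¹ ∈ K := by
      have h3 := F.nK y (F.tc y hyT)
      have h4 := (mem_normalizer_iff.1 h3 u⁻¹).1 (K.inv_mem (UK F hu))
      have e : u * y * u⁻¹ * y⁻¹ = u * (y * u⁻¹ * y⁻¹) := by group
      rw [e]
      exact K.mul_mem (UK F hu) h4
    have hr11 : r1 = 1 := by
      by_contra hr11
      obtain ⟨j, hj⟩ := mem_zpowers_iff.1 (t_mem_zpowers F hr1R hr11)
      have h5 : t * z ∈ K := by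
        rw [← hnt, ← hj]
        have e : n * r1 ^ j * n⁻¹ = (u * y * u⁻¹ * y⁻¹) ^ j := by
          rw [hc1, conj_zpow]
        rw [e]
        exact zpow_mem hcK j
      have h6 : t ∈ K := by
        have := K.mul_mem h5 (K.inv_mem (ZK F hz))
        rwa [mul_inv_cancel_right] at this
      exact F.t1 (F.KR t h6 F.tR)
    rw [hr11, mul_one, mul_inv_cancel, mul_inv_eq_one, mul_inv_eq_iff_eq_mul] at hc1
    exact hc1.symm
  obtain ⟨r', hr', z', hz', hyr⟩ := F.cU y hyT hycU
  have hzr := K_comm_R F (ZK F hz') hr'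
  have h1 : y * y = r' * r' := by
    rw [hyr]
    calc r' * z' * (r' * z') = r' * (z' * r') * z' := by group
      _ = r' * r' * (z' * z') := by rw [hzr]; group
      _ = r' * r' := by rw [F.Zsq z' hz', mul_one]
  have h2 : z = t * (r' * r') := by
    rw [← h1, hyy, ← mul_assoc, F.tt, one_mul]
  apply hz1
  apply F.KR z (ZK F hz)
  rw [h2]
  exact mul_mem F.tR (mul_mem hr' hr')

/-- `t` is conjugate to `t z` for all `z ∈ Z` -/
theorem conj_all (F : FrT t v K U Z T) {z : G} (hz : z ∈ Z) (hz1 : z ≠ 1) {n : G} (hn : n * t * n⁻¹ = t * z) :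
    ∀ z' ∈ Z, ∃ g : G, g * t * g⁻¹ = t * z' := by
  intro z' hz'
  by_cases h1 : z' = 1
  · exact ⟨1, by rw [h1]; group⟩
  obtain ⟨k, hk, hkz⟩ := F.trans z hz z' hz' hz1 h1
  refine ⟨k * n, ?_⟩
  calc k * n * t * (k * n)⁻¹ = k * (n * t * n⁻¹) * k⁻¹ := by group
    _ = (k * t) * z * k⁻¹ := by rw [hn]; group
    _ = t * (k * z * k⁻¹) := by rw [Kt F.toFr hk]; group
    _ = t * z' := by rw [hkz]

/-- **(F3)**: the `T`-formula -/
theorem phi_eq_one [Finite G] (hG : commutator G = ⊤) (F : FrT t v K U Z T)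
    (hall : ∀ z' ∈ Z, ∃ g : G, g * t * g⁻¹ = t * z') {z : G} (hz : z ∈ Z) (hz1 : z ≠ 1)
    (hzT : ∀ x ∈ T, x * z = z * x) {A : Type*} [CommGroup A] (φ : centralizer ({z} : Set G) →* A)
    (htz : t ∈ centralizer ({z} : Set G)) : φ ⟨t, htz⟩ = 1 := by
  classical
  have := Fintype.ofFinite (G ⧸ centralizer ({z} : Set G))
  obtain ⟨f, hf, s, hs, hprod⟩ := TFormula.transfer_eq_prod (centralizer ({z} : Set G)) φ t F.tt T F.pT F.tc
  have hsm : ∀ x g : G, x • (g : G ⧸ centralizer ({z} : Set G)) = g ↔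
      x * (g * z * g⁻¹) = g * z * g⁻¹ * x := by
    intro x g
    rw [MulAction.Quotient.smul_mk, smul_eq_mul, QuotientGroup.eq, mem_centralizer_singleton_iff]
    constructor
    · intro h
      have h1 : g⁻¹ * x⁻¹ * g * z = z * (g⁻¹ * x⁻¹ * g) := by
        have e : (x * g)⁻¹ * g = g⁻¹ * x⁻¹ * g := by group
        rwa [e] at h
      calc x * (g * z * g⁻¹) = x * g * (z * (g⁻¹ * x⁻¹ * g)) * g⁻¹ * x := by group
        _ = x * g * (g⁻¹ * x⁻¹ * g * z) * g⁻¹ * x := by rw [h1]
        _ = g * z * g⁻¹ * x := by group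
    · intro h
      calc (x * g)⁻¹ * g * z = g⁻¹ * x⁻¹ * (g * z * g⁻¹ * x) * x⁻¹ * g := by group
        _ = g⁻¹ * x⁻¹ * (x * (g * z * g⁻¹)) * x⁻¹ * g := by rw [h]
        _ = z * ((x * g)⁻¹ * g) := by group
  -- conjugates of `z` centralised by `T`
  have hconj : ∀ g : G, (∀ x ∈ T, x * (g * z * g⁻¹) = g * z * g⁻¹ * x) → g * z * g⁻¹ ∈ Z := by
    intro g hg
    have hsq : g * z * g⁻¹ * (g * z * g⁻¹) = 1 := by
      calc g * z * g⁻¹ * (g * z * g⁻¹) = g * (z * z) * g⁻¹ := by group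
        _ = 1 := by rw [F.Zsq z hz]; group
    obtain ⟨z', hz', -, h | h⟩ := center_cases F.toFr hg hsq
    · rw [h]; exact hz'
    · exfalso
      obtain ⟨k, hk⟩ := hall z' hz'
      apply F.nconj z hz (g⁻¹ * k)
      calc g⁻¹ * k * t * (g⁻¹ * k)⁻¹ = g⁻¹ * (k * t * k⁻¹) * g := by group
        _ = g⁻¹ * (g * z * g⁻¹) * g := by rw [hk, h]
        _ = z := by group
  have hne : ∀ g : G, g * z * g⁻¹ ≠ 1 := by
    intro g h
    apply hz1
    rw [mul_inv_eq_one] at h
    exact mul_eq_left.1 h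
  have hval : ∀ q ∈ s, f q = φ ⟨t, htz⟩ := by
    intro q hq
    obtain ⟨g, rfl⟩ := QuotientGroup.mk_surjective q
    obtain ⟨hq1, hq2⟩ := (hs _).1 hq
    have hgT : ∀ x ∈ T, x * (g * z * g⁻¹) = g * z * g⁻¹ * x := fun x hx => (hsm x g).1 (hq2 x hx)
    obtain ⟨k, hk, hkz⟩ := F.trans z hz _ (hconj g hgT) hz1 (hne g)
    have hgk : (k : G ⧸ centralizer ({z} : Set G)) = g := by
      rw [QuotientGroup.eq, mem_centralizer_singleton_iff]
      calc k⁻¹ * g * z = k⁻¹ * (g * z * g⁻¹) * g := by group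
        _ = k⁻¹ * (k * z * k⁻¹) * g := by rw [hkz]
        _ = z * (k⁻¹ * g) := by group
    have hkt : k⁻¹ * t * k = t := by
      have := Kt F.toFr hk
      calc k⁻¹ * t * k = k⁻¹ * (t * k) := by group
        _ = t := by rw [← this]; group
    have h1 : k⁻¹ * t * k ∈ centralizer ({z} : Set G) := by rw [hkt]; exact htz
    rw [hf _ k hgk h1]
    congr 1
    exact Subtype.ext hkt
  have hodd : Odd s.card := by
    -- `s` corresponds to the nontrivial elements of `Z0 = Z ∩ C(T)`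
    set Z0 : Subgroup G := Z ⊓ centralizer (T : Set G) with hZ0
    have := Fintype.ofFinite G
    have hcard : s.card = ((Finset.univ.filter (fun g : G => g ∈ Z0)).erase 1).card := by
      apply Finset.card_bij (fun q _ => q.out * z * q.out⁻¹)
      · intro q hq
        obtain ⟨hq1, hq2⟩ := (hs _).1 hq
        have hout : (q.out : G ⧸ centralizer ({z} : Set G)) = q := QuotientGroup.out_eq' q
        have hgT : ∀ x ∈ T, x * (q.out * z * q.out⁻¹) = q.out * z * q.out⁻¹ * x := fun x hx =>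
          (hsm x q.out).1 (by rw [hout]; exact hq2 x hx)
        rw [Finset.mem_erase, Finset.mem_filter]
        exact ⟨hne _, Finset.mem_univ _, hconj _ hgT, mem_centralizer_iff.2 hgT⟩
      · intro q1 _ q2 _ h
        have h1 : (q1.out : G ⧸ centralizer ({z} : Set G)) = q2.out := by
          rw [QuotientGroup.eq, mem_centralizer_singleton_iff]
          calc q1.out⁻¹ * q2.out * z = q1.out⁻¹ * (q2.out * z * q2.out⁻¹) * q2.out := by group
            _ = q1.out⁻¹ * (q1.out * z * q1.out⁻¹) * q2.out := by rw [← h]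
            _ = z * (q1.out⁻¹ * q2.out) := by group
        rwa [QuotientGroup.out_eq', QuotientGroup.out_eq'] at h1
      · intro w hw
        rw [Finset.mem_erase, Finset.mem_filter] at hw
        obtain ⟨hw1, -, hwZ, hwC⟩ := hw
        obtain ⟨k, hk, hkz⟩ := F.trans z hz w hwZ hz1 hw1
        have hks : (k : G ⧸ centralizer ({z} : Set G)) ∈ s := by
          rw [hs]
          have hT : ∀ x ∈ T, x • (k : G ⧸ centralizer ({z} : Set G)) = k := fun x hx => by
            rw [hsm, hkz]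
            exact mem_centralizer_iff.1 hwC x hx
          exact ⟨hT t (tT F.toFr), hT⟩
        refine ⟨k, hks, ?_⟩
        set o : G := (k : G ⧸ centralizer ({z} : Set G)).out with ho
        have h1 : (k : G ⧸ centralizer ({z} : Set G)) = (o : G ⧸ centralizer ({z} : Set G)) :=
          (QuotientGroup.out_eq' _).symm
        rw [QuotientGroup.eq, mem_centralizer_singleton_iff] at h1
        rw [← hkz]
        calc o * z * o⁻¹ = k * (k⁻¹ * o * z) * o⁻¹ := by group
          _ = k * (z * (k⁻¹ * o)) * o⁻¹ := by rw [h1]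
          _ = k * z * k⁻¹ := by group
    rw [hcard, Finset.card_erase_of_mem (by
      rw [Finset.mem_filter]; exact ⟨Finset.mem_univ _, one_mem _⟩)]
    have h1 : (Finset.univ.filter (fun g : G => g ∈ Z0)).card = Nat.card Z0 := by
      rw [Nat.card_eq_fintype_card, Fintype.card_subtype]
    rw [h1]
    have hp : IsPGroup 2 Z0 := F.pT.to_le ((inf_le_left : Z0 ≤ Z).trans (F.ZU.trans (UT F.toFr)))
    obtain ⟨m, hm⟩ := IsPGroup.iff_card.1 hp
    have hm0 : m ≠ 0 := by
      rintro rfl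
      rw [pow_zero, Subgroup.card_eq_one] at hm
      have hzZ0 : z ∈ Z0 := ⟨hz, mem_centralizer_iff.2 hzT⟩
      rw [hm, mem_bot] at hzZ0
      exact hz1 hzZ0
    obtain ⟨j, rfl⟩ := Nat.exists_eq_succ_of_ne_zero hm0
    rw [hm, pow_succ]
    have := Nat.one_le_two_pow (n := j)
    exact ⟨2 ^ j - 1, by omega⟩
  have hpow : MonoidHom.transfer φ t = φ ⟨t, htz⟩ ^ s.card := by
    rw [hprod, Finset.prod_congr rfl hval, Finset.prod_const]
  have hsq : φ ⟨t, htz⟩ * φ ⟨t, htz⟩ = 1 := by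
    rw [← map_mul, ← map_one φ]
    congr 1
    exact Subtype.ext F.tt
  obtain ⟨j, hj⟩ := hodd
  rw [hj, pow_succ, pow_mul, pow_two, hsq, one_pow, one_mul] at hpow
  rw [← hpow]
  exact TFormula.hom_eq_one hG _ t

end

end Cfsg.Agent.OddHalf.D7Out.Front
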