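import Mathlib

/-!
# ODD D7, outer 2-part, `K = Ω^-_{2n}(q)`: the constant of a reflection-type element (helper991; text: helper490 #11669)

`Wl`, `Wm`, `Wd` doubled root groups with `[Wm, Wl] ≤ Wd`, `g ∈ C_G(t)` centralises the root groups: `g` or `t g`
centralises `Wd`, `Wl`, `Wm`.
-/

set_option autoImplicit false

namespace Cfsg.Agent.OddHalf.D7Out.ConstO

variable {G F : Type*} [Group G] [Field F]

/-- Three doubled root groups `Wl`, `Wm`, `Wd`, `[Wm, Wl] ≤ Wd`, and `g` trivial on the root groups. -/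
structure Tri (t g : G) (Wl Wm Wd : Subgroup G) (xl xm xd : F → G) : Prop where
  tt : t * t = 1
  /-- the root groups -/
  xlm : ∀ a, xl a ∈ Wl
  xmm : ∀ a, xm a ∈ Wm
  xdm : ∀ a, xd a ∈ Wd
  xla : ∀ a b, xl (a + b) = xl a * xl b
  xma : ∀ a b, xm (a + b) = xm a * xm b
  xda : ∀ a b, xd (a + b) = xd a * xd b
  xdi : ∀ a b, xd a = xd b → a = b
  /-- `Wd` commutes with everything -/
  dd : ∀ z ∈ Wd, ∀ y ∈ Wd, z * y = y * z
  dl : ∀ z ∈ Wd, ∀ y ∈ Wl, z * y = y * z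
  dm : ∀ z ∈ Wd, ∀ y ∈ Wm, z * y = y * z
  /-- commutators -/
  br : ∀ f ∈ Wm, ∀ w ∈ Wl, f⁻¹ * w⁻¹ * f * w ∈ Wd
  brx : ∀ a b, (xm a)⁻¹ * (xl b)⁻¹ * xm a * xl b = xd (a * b)
  /-- `w ↦ [w, t]` -/
  phl : ∀ w ∈ Wl, ∃ a, t * w * t = w * xl a
  phm : ∀ w ∈ Wm, ∃ a, t * w * t = w * xm a
  phd : ∀ w ∈ Wd, ∃ a, t * w * t = w * xd a
  surl : ∃ w ∈ Wl, t * w * t = w * xl 1
  surm : ∃ w ∈ Wm, t * w * t = w * xm 1
  /-- fixed points -/
  fixd : ∀ w ∈ Wd, t * w * t = w → ∃ a, w = xd a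
  gl : ∀ w ∈ Wl, ∃ a, g * w * g⁻¹ = w * xl a
  gm : ∀ w ∈ Wm, ∃ a, g * w * g⁻¹ = w * xm a
  txl : ∀ a, t * xl a * t = xl a
  txm : ∀ a, t * xm a * t = xm a
  txd : ∀ a, t * xd a * t = xd a
  gxl : ∀ a, g * xl a * g⁻¹ = xl a
  gxm : ∀ a, g * xm a * g⁻¹ = xm a
  gxd : ∀ a, g * xd a * g⁻¹ = xd a
  /-- torus elements -/
  tor : ∀ k : F, k ≠ 0 → ∃ h h' : G, (∀ a, h * xl a * h⁻¹ = xl (k * a)) ∧ (∀ y ∈ Wm, h * y * h⁻¹ = y) ∧
    (∀ a, h * xd a * h⁻¹ = xd (k * a)) ∧ (∀ a, h' * xm a * h'⁻¹ = xm (k * a)) ∧ (∀ y ∈ Wl, h' * y * h'⁻¹ = y) ∧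
    ∀ z ∈ Wd, h * z * h⁻¹ = h' * z * h'⁻¹

namespace Tri

variable {t g : G} {Wl Wm Wd : Subgroup G} {xl xm xd : F → G}

/-- the commutator used -/
def cm (f w : G) : G := f⁻¹ * w⁻¹ * f * w

theorem conj_cm (k f w : G) : k * cm f w * k⁻¹ = cm (k * f * k⁻¹) (k * w * k⁻¹) := by
  unfold cm; group

variable (T : Tri t g Wl Wm Wd xl xm xd)

include T

theorem cm_mem {f w : G} (hf : f ∈ Wm) (hw : w ∈ Wl) : cm f w ∈ Wd := T.br f hf w hw

theorem cm_mul_left {f f' w : G} (hf : f ∈ Wm) (hf' : f' ∈ Wm) (hw : w ∈ Wl) :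
    cm (f * f') w = cm f w * cm f' w := by
  have h1 := T.dm _ (T.cm_mem hf hw) f' hf'
  unfold cm at *
  calc (f * f')⁻¹ * w⁻¹ * (f * f') * w = f'⁻¹ * ((f⁻¹ * w⁻¹ * f * w) * w⁻¹ * f') * w := by group
    _ = f'⁻¹ * ((f⁻¹ * w⁻¹ * f * w) * f') * (f'⁻¹ * w⁻¹ * f' * w) := by group
    _ = f'⁻¹ * (f' * (f⁻¹ * w⁻¹ * f * w)) * (f'⁻¹ * w⁻¹ * f' * w) := by rw [h1]
    _ = _ := by group

theorem cm_mul_right {f w w' : G} (hf : f ∈ Wm) (hw : w ∈ Wl) (hw' : w' ∈ Wl) :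
    cm f (w * w') = cm f w * cm f w' := by
  have h1 := T.dl _ (T.cm_mem hf hw) w' hw'
  have h2 := T.dd _ (T.cm_mem hf hw) _ (T.cm_mem hf hw')
  rw [h2]
  unfold cm at *
  calc f⁻¹ * (w * w')⁻¹ * f * (w * w') = (f⁻¹ * w'⁻¹ * f) * ((f⁻¹ * w⁻¹ * f * w) * w') := by group
    _ = (f⁻¹ * w'⁻¹ * f) * (w' * (f⁻¹ * w⁻¹ * f * w)) := by rw [h1]
    _ = _ := by group

theorem cm_x (a b : F) : cm (xm a) (xl b) = xd (a * b) := T.brx a b

/-- `t`-conjugation of a commutator -/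
theorem t_cm {f w : G} (hf : f ∈ Wm) (hw : w ∈ Wl) {a b : F} (ha : t * f * t = f * xm a) (hb : t * w * t = w * xl b) :
    t * cm f w * t = cm f w * (cm f (xl b) * cm (xm a) w * xd (a * b)) := by
  have ti : t⁻¹ = t := inv_eq_of_mul_eq_one_left T.tt
  have h1 := conj_cm t f w
  rw [ti, ha, hb, T.cm_mul_left hf (T.xmm a) (mul_mem hw (T.xlm b)), T.cm_mul_right hf hw (T.xlm b),
    T.cm_mul_right (T.xmm a) hw (T.xlm b), T.cm_x] at h1
  rw [h1]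
  group

theorem t_conj {a b : G} : t * (a * b) * t = (t * a * t) * (t * b * t) := by
  calc t * (a * b) * t = t * a * 1 * b * t := by group
    _ = t * a * (t * t) * b * t := by rw [T.tt]
    _ = _ := by group

theorem t_conj_inv {a : G} : t * a⁻¹ * t = (t * a * t)⁻¹ := by
  have ti : t⁻¹ = t := inv_eq_of_mul_eq_one_left T.tt
  calc t * a⁻¹ * t = t⁻¹ * a⁻¹ * t⁻¹ := by rw [ti]
    _ = _ := by group

/-- The constant: `g z g⁻¹ = z · x_d(c β)`, `[z, t] = x_d(β)`. -/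
theorem exists_c : ∃ c : F, (∀ z ∈ Wd, ∀ β, t * z * t = z * xd β → g * z * g⁻¹ = z * xd (c * β)) ∧
    (∀ f ∈ Wm, ∀ γ, t * f * t = f * xm γ → g * f * g⁻¹ = f * xm (c * γ)) ∧
    (∀ w ∈ Wl, ∀ α, t * w * t = w * xl α → g * w * g⁻¹ = w * xl (c * α)) := by
  have ti : t⁻¹ = t := inv_eq_of_mul_eq_one_left T.tt
  obtain ⟨f1, hf1, hf1t⟩ := T.surm
  obtain ⟨c, hc⟩ := T.gm f1 hf1
  -- the elements `z = [f, xl α]`
  have keyt : ∀ f ∈ Wm, ∀ γ, t * f * t = f * xm γ → ∀ α, t * cm f (xl α) * t = cm f (xl α) * xd (γ * α) := by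
    intro f hf γ hγ α
    have h1 := conj_cm t f (xl α)
    rw [ti, hγ, T.txl, T.cm_mul_left hf (T.xmm γ) (T.xlm α), T.cm_x] at h1
    exact h1
  have keyg : ∀ f ∈ Wm, ∀ e, g * f * g⁻¹ = f * xm e → ∀ α, g * cm f (xl α) * g⁻¹ = cm f (xl α) * xd (e * α) := by
    intro f hf e he α
    rw [conj_cm, he, T.gxl, T.cm_mul_left hf (T.xmm e) (T.xlm α), T.cm_x]
  have keyt' : ∀ w ∈ Wl, ∀ α, t * w * t = w * xl α → ∀ γ, t * cm (xm γ) w * t = cm (xm γ) w * xd (γ * α) := by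
    intro w hw α hα γ
    have h1 := conj_cm t (xm γ) w
    rw [ti, hα, T.txm, T.cm_mul_right (T.xmm γ) hw (T.xlm α), T.cm_x] at h1
    exact h1
  have keyg' : ∀ w ∈ Wl, ∀ e, g * w * g⁻¹ = w * xl e → ∀ γ, g * cm (xm γ) w * g⁻¹ = cm (xm γ) w * xd (γ * e) := by
    intro w hw e he γ
    rw [conj_cm, he, T.gxm, T.cm_mul_right (T.xmm γ) hw (T.xlm e), T.cm_x]
  have hz : ∀ z ∈ Wd, ∀ β, t * z * t = z * xd β → g * z * g⁻¹ = z * xd (c * β) := by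
    intro z hz β hβ
    have h1 := keyt f1 hf1 1 hf1t β
    have h2 := keyg f1 hf1 c hc β
    have hm := T.cm_mem hf1 (T.xlm β)
    obtain ⟨a, ha⟩ := T.fixd (z * (cm f1 (xl β))⁻¹) (mul_mem hz (inv_mem hm)) (by
      rw [T.t_conj, T.t_conj_inv, hβ, h1, one_mul]; group)
    have e1 : z = xd a * cm f1 (xl β) := by rw [← ha]; group
    rw [e1]
    calc g * (xd a * cm f1 (xl β)) * g⁻¹ = (g * xd a * g⁻¹) * (g * cm f1 (xl β) * g⁻¹) := by group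
      _ = _ := by rw [T.gxd, h2, mul_assoc]
  refine ⟨c, hz, ?_, ?_⟩
  · intro f hf γ hγ
    obtain ⟨e, he⟩ := T.gm f hf
    have h1 := hz _ (T.cm_mem hf (T.xlm 1)) _ (keyt f hf γ hγ 1)
    rw [keyg f hf e he 1] at h1
    have h2 := T.xdi _ _ (mul_left_cancel h1)
    rw [mul_one, mul_one] at h2
    rw [he, h2]
  · intro w hw α hα
    obtain ⟨e, he⟩ := T.gl w hw
    have h1 := hz _ (T.cm_mem (T.xmm 1) hw) _ (keyt' w hw α hα 1)
    rw [keyg' w hw e he 1] at h1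
    have h2 := T.xdi _ _ (mul_left_cancel h1)
    rw [one_mul, one_mul] at h2
    rw [he, h2]

/-- **Lemma C for `O^-`**: `c = 0` or `c = 1`. -/
theorem main : (∀ c : F, (∀ z ∈ Wd, ∀ β, t * z * t = z * xd β → g * z * g⁻¹ = z * xd (c * β)) →
    (∀ f ∈ Wm, ∀ γ, t * f * t = f * xm γ → g * f * g⁻¹ = f * xm (c * γ)) →
    (∀ w ∈ Wl, ∀ α, t * w * t = w * xl α → g * w * g⁻¹ = w * xl (c * α)) → c = 0 ∨ c = 1) := by
  intro c hz hf hw
  by_cases h0 : c = 0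
  · exact Or.inl h0
  right
  have ti : t⁻¹ = t := inv_eq_of_mul_eq_one_left T.tt
  obtain ⟨f1, hf1, hf1t⟩ := T.surm
  obtain ⟨w1, hw1, hw1t⟩ := T.surl
  have hzm := T.cm_mem hf1 hw1
  have e1 := T.t_cm hf1 hw1 hf1t hw1t
  obtain ⟨β, hβ⟩ := T.phd _ hzm
  have e2 : xd β = cm f1 (xl 1) * cm (xm 1) w1 * xd (1 * 1) := mul_left_cancel (hβ.symm.trans e1)
  -- `g`
  have e3 := hz _ hzm β hβ
  have e4 : xd (c * β) = cm f1 (xl c) * cm (xm c) w1 * xd (c * c) := by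
    have h5 := conj_cm g f1 w1
    have h6 := hf f1 hf1 1 hf1t
    have h7 := hw w1 hw1 1 hw1t
    rw [mul_one] at h6 h7
    rw [h6, h7, T.cm_mul_left hf1 (T.xmm c) (mul_mem hw1 (T.xlm c)), T.cm_mul_right hf1 hw1 (T.xlm c),
      T.cm_mul_right (T.xmm c) hw1 (T.xlm c), T.cm_x, e3] at h5
    have h8 : cm f1 w1 * xd (c * β) = cm f1 w1 * (cm f1 (xl c) * cm (xm c) w1 * xd (c * c)) := by
      rw [h5]; group
    exact mul_left_cancel h8
  -- the torus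
  obtain ⟨h, h', t1, t2, t3, t4, t5, t6⟩ := T.tor c h0
  have e5 : xd (c * β) = cm f1 (xl c) * cm (xm c) w1 * xd c := by
    have h5 : h * xd β * h⁻¹ = (h * cm f1 (xl 1) * h⁻¹) * (h * cm (xm 1) w1 * h⁻¹) * (h * xd (1 * 1) * h⁻¹) := by
      rw [e2]; group
    rw [t3, conj_cm, t2 f1 hf1, t1, mul_one, t6 _ (T.cm_mem (T.xmm 1) hw1), conj_cm, t4, t5 w1 hw1, mul_one,
      one_mul, t3, mul_one] at h5
    exact h5
  have e6 : c * c = c := T.xdi _ _ (mul_left_cancel (e4.symm.trans e5))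
  exact mul_left_cancel₀ h0 (by rw [e6, mul_one])

/-- **`g` or `t g` centralises `Wd`, `Wl`, `Wm`.** -/
theorem cent_or : (∀ z, z ∈ Wd ∨ z ∈ Wl ∨ z ∈ Wm → g * z = z * g) ∨
    (∀ z, z ∈ Wd ∨ z ∈ Wl ∨ z ∈ Wm → (t * g) * z = z * (t * g)) := by
  have ti : t⁻¹ = t := inv_eq_of_mul_eq_one_left T.tt
  obtain ⟨c, hz, hf, hw⟩ := T.exists_c
  have hd0 : xd 0 = 1 := by
    have := T.xda 0 0
    rw [add_zero] at this
    exact left_eq_mul.1 this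
  have hm0 : xm 0 = 1 := by
    have := T.xma 0 0
    rw [add_zero] at this
    exact left_eq_mul.1 this
  have hl0 : xl 0 = 1 := by
    have := T.xla 0 0
    rw [add_zero] at this
    exact left_eq_mul.1 this
  rcases T.main c hz hf hw with rfl | rfl
  · left
    rintro z (hz' | hz' | hz')
    · obtain ⟨β, hβ⟩ := T.phd z hz'
      have := hz z hz' β hβ
      rwa [zero_mul, hd0, mul_one, mul_inv_eq_iff_eq_mul] at this
    · obtain ⟨β, hβ⟩ := T.phl z hz'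
      have := hw z hz' β hβ
      rwa [zero_mul, hl0, mul_one, mul_inv_eq_iff_eq_mul] at this
    · obtain ⟨β, hβ⟩ := T.phm z hz'
      have := hf z hz' β hβ
      rwa [zero_mul, hm0, mul_one, mul_inv_eq_iff_eq_mul] at this
  · right
    have key : ∀ z : G, g * z * g⁻¹ = t * z * t → (t * g) * z = z * (t * g) := by
      intro z h
      rw [← mul_inv_eq_iff_eq_mul]
      calc t * g * z * (t * g)⁻¹ = t * (g * z * g⁻¹) * t⁻¹ := by group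
        _ = (t * t) * z * (t * t) := by rw [h, ti]; group
        _ = z := by rw [T.tt, one_mul, mul_one]
    rintro z (hz' | hz' | hz') <;> apply key
    · obtain ⟨β, hβ⟩ := T.phd z hz'
      have := hz z hz' β hβ
      rwa [one_mul, ← hβ] at this
    · obtain ⟨β, hβ⟩ := T.phl z hz'
      have := hw z hz' β hβ
      rwa [one_mul, ← hβ] at this
    · obtain ⟨β, hβ⟩ := T.phm z hz'
      have := hf z hz' β hβ
      rwa [one_mul, ← hβ] at this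

end Tri

end Cfsg.Agent.OddHalf.D7Out.ConstO
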