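import Cfsg.Agent.OddHalf.D7Out.ConstO
import Cfsg.Agent.OddHalf.Orth.LinesTwo

/-!
# ODD D7, outer 2-part, `K = Ω(V)`: the constant of a reflection-type element (helper991; text: helper490 #11669)

`Full.cent_or`: `g ∈ C_G(t)` trivial on `X_l`, `X_m` and normalising `W_l`, `W_m`, `W_{l+m}` (`Rel`): `g` or `t g`
centralises `W_{l+m}`.
-/

set_option autoImplicit false

namespace Cfsg.Agent.OddHalf.D7Out.ConstOInst

open QuadraticMap Cfsg.Agent.LieClassical.OrthCore Cfsg.Agent.LieClassical.OrthTrans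
  Cfsg.Agent.ClassicalGeometry.OrthAutBasic Cfsg.Agent.ClassicalGeometry.OrthAutRoot Cfsg.Agent.OddHalf.Orth
  Cfsg.Agent.OddHalf.Orth.Face Cfsg.Agent.OddHalf.Orth.Star Cfsg.Agent.OddHalf.Orth.Lines
  Cfsg.Agent.OddHalf.D7Out.ConstO

variable {F V : Type*} [Field F] [AddCommGroup V] [Module F V] {Q : QuadraticForm F V}
variable {G : Type*} [Group G] {t : G} {j : ↥(E Q) →* G} {W : V → V → Subgroup G}

theorem tri [CharP F 2] [FiniteDimensional F V] (D : Full Q t j W) {u v a b : V} (h : Face.Rel Q u v a b) {g : G}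
    (hgt : g * t = t * g) (hxl : ∀ c : F, g * j (tE Q u (c • v)) * g⁻¹ = j (tE Q u (c • v)))
    (hxm : ∀ c : F, g * j (tE Q a (c • b)) * g⁻¹ = j (tE Q a (c • b)))
    (hWl : ∀ w ∈ W u v, g * w * g⁻¹ ∈ W u v) (hWm : ∀ w ∈ W a b, g * w * g⁻¹ ∈ W a b) :
    Tri t g (W u v) (W a b) (W a u) (fun c : F => j (tE Q u (c • v))) (fun c : F => j (tE Q a (c • b)))
      (fun c : F => j (tE Q a (c • u))) := by
  have hqu := h.uv.qu
  have hqa := h.ab.qu
  have tt := D.tt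
  have pv : ∀ c : F, polar Q u (c • v) = 0 := fun c => by rw [polar_smul_right, h.uv.perp, smul_zero]
  have pu : ∀ d : F, polar Q a (d • u) = 0 := fun d => by
    rw [polar_smul_right, polar_comm, h.ua.perp, smul_zero]
  have pb : ∀ d : F, polar Q a (d • b) = 0 := fun d => by rw [polar_smul_right, h.ab.perp, smul_zero]
  have ka : ∀ c : F, T Q u (c • v) a = a := fun c =>
    T_id h.uv.qu (pv c) h.ua.perp (by rw [polar_smul_left, h.va, smul_zero])
  have kb : ∀ c : F, T Q u (c • v) b = b + c • u := fun c => by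
    rw [T_perp2 h.uv.qu (pv c) h.ub, polar_smul_left, h.vb]; simp
  have kδ : ∀ c δ : F, j (tE Q u (c • v)) * j (tE Q a (δ • b)) * (j (tE Q u (c • v)))⁻¹ =
      j (tE Q a (δ • b)) * j (tE Q a ((δ * c) • u)) := by
    intro c δ
    rw [D.rconj, coe_tE, ka, map_smul, kb, D.rmul hqa (pb _) (pu _), smul_add, smul_smul]
  have invl : ∀ c : F, (j (tE Q u (c • v)))⁻¹ = j (tE Q u (c • v)) := fun c => by rw [← map_inv, tE_inv hqu (pv c)]
  have tfix : ∀ k, t * j k * t = j k := fun k => by rw [D.tj, mul_assoc, tt, mul_one]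
  have hbrx : ∀ x y : F, (j (tE Q a (x • b)))⁻¹ * (j (tE Q u (y • v)))⁻¹ * j (tE Q a (x • b)) * j (tE Q u (y • v)) =
      j (tE Q a ((x * y) • u)) := by
    intro x y
    have h1 := kδ y x
    rw [invl] at h1 ⊢
    rw [mul_assoc, mul_assoc, ← mul_assoc (j (tE Q u (y • v))), h1]; group
  have phi : ∀ {x y : V}, Ln Q x y → ∀ w ∈ W x y, ∃ c : F, t * w * t = w * j (tE Q x (c • y)) := by
    intro x y hxy w hw
    obtain ⟨c, hc⟩ := D.phi hxy hw
    exact ⟨c, by rw [← hc]; group⟩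
  have sur : ∀ {x y : V}, Ln Q x y → ∃ w ∈ W x y, t * w * t = w * j (tE Q x ((1 : F) • y)) := by
    intro x y hxy
    obtain ⟨w, hw, hc⟩ := D.surj (1 : F) hxy
    exact ⟨w, hw, by rw [← hc]; group⟩
  have fixW : ∀ {x y : V}, Ln Q x y → ∀ w ∈ W x y, t * w * t = w → ∃ c : F, w = j (tE Q x (c • y)) := by
    intro x y hxy w hw hf
    refine D.fix hxy hw ?_
    have e : t * w * t * t = w * t := by rw [hf]
    rw [mul_assoc (t * w), tt, mul_one] at e
    exact e.symm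
  have gW : ∀ {x y : V}, Ln Q x y → (∀ w ∈ W x y, g * w * g⁻¹ ∈ W x y) →
      (∀ c : F, g * j (tE Q x (c • y)) * g⁻¹ = j (tE Q x (c • y))) → ∀ w ∈ W x y,
      ∃ c : F, g * w * g⁻¹ = w * j (tE Q x (c • y)) := by
    intro x y hxy hW hx w hw
    obtain ⟨c, hc⟩ := phi hxy w hw
    have hXW := D.X_le c hxy
    have hm : w⁻¹ * (g * w * g⁻¹) ∈ W x y := mul_mem (inv_mem hw) (hW w hw)
    have hcomm := D.com hxy hXW hm
    obtain ⟨d, hd⟩ := fixW hxy _ hm (by
      have e1 : t * (w⁻¹ * (g * w * g⁻¹)) * t = (t * w * t)⁻¹ * (g * (t * w * t) * g⁻¹) := by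
        have ti : t⁻¹ = t := inv_eq_of_mul_eq_one_left tt
        have gi : g⁻¹ * t = t * g⁻¹ := by
          rw [inv_mul_eq_iff_eq_mul, ← mul_assoc, hgt, mul_assoc, mul_inv_cancel, mul_one]
        calc t * (w⁻¹ * (g * w * g⁻¹)) * t = t * w⁻¹ * g * w * (g⁻¹ * t) := by group
          _ = t * w⁻¹ * (1 * g) * w * t * g⁻¹ := by rw [gi]; group
          _ = t * w⁻¹ * ((t * t) * g) * w * t * g⁻¹ := by rw [tt]
          _ = t * w⁻¹ * t * (t * g) * w * t * g⁻¹ := by group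
          _ = t * w⁻¹ * t * (g * t) * w * t * g⁻¹ := by rw [hgt]
          _ = t⁻¹ * w⁻¹ * t⁻¹ * (g * t) * w * t * g⁻¹ := by rw [ti]
          _ = _ := by group
      rw [e1, hc]
      calc (w * j (tE Q x (c • y)))⁻¹ * (g * (w * j (tE Q x (c • y))) * g⁻¹)
          = (j (tE Q x (c • y)))⁻¹ * ((w⁻¹ * (g * w * g⁻¹)) * (g * j (tE Q x (c • y)) * g⁻¹)) := by group
        _ = (j (tE Q x (c • y)))⁻¹ * (j (tE Q x (c • y)) * (w⁻¹ * (g * w * g⁻¹))) := by rw [hx, hcomm]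
        _ = _ := by group)
    exact ⟨d, by rw [← hd]; group⟩
  refine
    { tt := tt
      xlm := fun c => D.X_le c h.uv
      xmm := fun c => D.X_le c h.ab
      xdm := fun c => D.X_le c h.ua.symm
      xla := fun x y => by rw [D.rmul hqu (pv _) (pv _), add_smul]
      xma := fun x y => by rw [D.rmul hqa (pb _) (pb _), add_smul]
      xda := fun x y => by rw [D.rmul hqa (pu _) (pu _), add_smul]
      xdi := ?_
      dd := fun z hz y hy => D.com h.ua.symm hz hy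
      dl := fun z hz y hy => D.ab (mem_Vs h.ua (D.swapW h.ua.symm hz)) (mem_Vs h.uv hy)
      dm := fun z hz y hy => D.ab (mem_Vs h.ua.symm hz) (mem_Vs h.ab hy)
      br := fun f hf w hw => c2 D h hf hw
      brx := hbrx
      phl := phi h.uv
      phm := phi h.ab
      phd := phi h.ua.symm
      surl := sur h.uv
      surm := sur h.ab
      fixd := fixW h.ua.symm
      gl := gW h.uv hWl hxl
      gm := gW h.ab hWm hxm
      txl := fun c => tfix _
      txm := fun c => tfix _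
      txd := fun c => tfix _
      gxl := hxl
      gxm := hxm
      gxd := ?_
      tor := ?_ }
  · intro x y e
    obtain ⟨c, hc⟩ := r_inj D.toDbl D.kf hqa h.ab.ne (pu x) (pu y) e
    have h1 : (y - x) • u = c • a := by rw [sub_smul, hc]; abel
    have := h.ua.coeff (a := y - x) (b := -c) (by rw [h1]; module)
    exact (sub_eq_zero.1 this.1).symm
  · intro c
    have h1 := hbrx c 1
    rw [mul_one] at h1
    rw [← h1]
    have e : g * ((j (tE Q a (c • b)))⁻¹ * (j (tE Q u ((1 : F) • v)))⁻¹ * j (tE Q a (c • b)) *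
        j (tE Q u ((1 : F) • v))) * g⁻¹ =
        (g * j (tE Q a (c • b)) * g⁻¹)⁻¹ * (g * j (tE Q u ((1 : F) • v)) * g⁻¹)⁻¹ * (g * j (tE Q a (c • b)) * g⁻¹) *
          (g * j (tE Q u ((1 : F) • v)) * g⁻¹) := by group
    rw [e, hxl, hxm]
  · intro κ hκ0
    obtain ⟨u', hH, hv', ha', hb'⟩ := rel_u' D.kf h
    obtain ⟨h0, s1, -, s2⟩ := D.kf.scal hH hκ0
    have hhv : (h0 : V ≃ₗ[F] V) v = v := s2 v h.uv.perp hv'
    have hha : (h0 : V ≃ₗ[F] V) a = a := s2 a h.ua.perp ha'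
    have hhb : (h0 : V ≃ₗ[F] V) b = b := s2 b h.ub hb'
    obtain ⟨a', hH', hb'', hu'', hv''⟩ := rel_u' D.kf (rel_symm h)
    obtain ⟨h1, r1, -, r2⟩ := D.kf.scal hH' hκ0
    have rb : (h1 : V ≃ₗ[F] V) b = b := r2 b h.ab.perp hb''
    have ru : (h1 : V ≃ₗ[F] V) u = u := r2 u h.ua.symm.perp hu''
    have rv : (h1 : V ≃ₗ[F] V) v = v := r2 v (by rw [polar_comm]; exact h.va) hv''
    have fixc : ∀ {k : ↥(E Q)} {x y : V}, Ln Q x y → (k : V ≃ₗ[F] V) x = x → (k : V ≃ₗ[F] V) y = y →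
        ∀ w ∈ W x y, j k * w * (j k)⁻¹ = w := by
      intro k x y hxy hx hy w hw
      have c0 : Commute (j k) w := D.cent hxy hw (by
        have := tE_conj k x y
        rw [hx, hy] at this
        exact mul_inv_eq_iff_eq_mul.1 this)
      rw [c0.eq, mul_inv_cancel_right]
    refine ⟨j h0, j h1, ?_, fixc h.ab hha hhb, ?_, ?_, fixc h.uv ru rv, ?_⟩
    · intro c
      rw [D.rconj, s1, map_smul, hhv, tE_smul_left κ hqu (pv _), smul_smul]
    · intro c
      rw [D.rconj, hha, map_smul, s1, smul_smul, mul_comm c κ]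
    · intro c
      rw [D.rconj, r1, map_smul, rb, tE_smul_left κ hqa (pb _), smul_smul]
    · intro z hz
      -- `h1⁻¹ h0` centralises `X_{a u}`
      have e1 : h0 * tE Q a u * h0⁻¹ = h1 * tE Q a u * h1⁻¹ := by
        have hu1 : polar Q a u = 0 := h.ua.symm.perp
        rw [tE_conj, tE_conj, hha, s1, r1, ru, tE_smul_left κ hqa hu1]
      have e2 : (h1⁻¹ * h0) * tE Q a u = tE Q a u * (h1⁻¹ * h0) := by
        rw [← mul_inv_eq_iff_eq_mul]
        calc h1⁻¹ * h0 * tE Q a u * (h1⁻¹ * h0)⁻¹ = h1⁻¹ * (h0 * tE Q a u * h0⁻¹) * h1 := by group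
          _ = tE Q a u := by rw [e1]; group
      have e3 := D.cent h.ua.symm hz e2
      rw [map_mul, map_inv] at e3
      calc j h0 * z * (j h0)⁻¹ = j h1 * (((j h1)⁻¹ * j h0) * z) * (j h0)⁻¹ := by group
        _ = j h1 * (z * ((j h1)⁻¹ * j h0)) * (j h0)⁻¹ := by rw [e3]
        _ = _ := by group

/-- **Lemma C for `O^-`**: `g` or `t g` centralises `W_{l+m}`, `W_l`, `W_m`. -/
theorem cent_or [CharP F 2] [FiniteDimensional F V] (D : Full Q t j W) {u v a b : V} (h : Face.Rel Q u v a b) {g : G}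
    (hgt : g * t = t * g) (hxl : ∀ c : F, g * j (tE Q u (c • v)) * g⁻¹ = j (tE Q u (c • v)))
    (hxm : ∀ c : F, g * j (tE Q a (c • b)) * g⁻¹ = j (tE Q a (c • b)))
    (hWl : ∀ w ∈ W u v, g * w * g⁻¹ ∈ W u v) (hWm : ∀ w ∈ W a b, g * w * g⁻¹ ∈ W a b) :
    (∀ z, z ∈ W a u ∨ z ∈ W u v ∨ z ∈ W a b → g * z = z * g) ∨
    (∀ z, z ∈ W a u ∨ z ∈ W u v ∨ z ∈ W a b → (t * g) * z = z * (t * g)) :=
  (tri D h hgt hxl hxm hWl hWm).cent_or

/-- The same for `g` acting on `V` as a linear isometry fixing `u, v, a, b`. -/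
theorem cent_or_sem [CharP F 2] [FiniteDimensional F V] (D : Full Q t j W) {u v a b : V} (h : Face.Rel Q u v a b)
    {g : G} (hgt : g * t = t * g) {M : V ≃+ V} (hM : ∀ (c : F) (x : V), M (c • x) = c • M x)
    (hact : ∀ u x, Q u = 0 → polar Q u x = 0 → g * j (tE Q u x) * g⁻¹ = j (tE Q (M u) (M x)))
    (hu : M u = u) (hv : M v = v) (ha : M a = a) (hb : M b = b)
    (hW : ∀ {x y : V}, Ln Q x y → M x = x → M y = y → ∀ w ∈ W x y, g * w * g⁻¹ ∈ W x y) :
    (∀ z, z ∈ W a u ∨ z ∈ W u v ∨ z ∈ W a b → g * z = z * g) ∨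
    (∀ z, z ∈ W a u ∨ z ∈ W u v ∨ z ∈ W a b → (t * g) * z = z * (t * g)) := by
  refine cent_or D h hgt (fun c => ?_) (fun c => ?_) (hW h.uv hu hv) (hW h.ab ha hb)
  · rw [hact u _ h.uv.qu (by rw [polar_smul_right, h.uv.perp, smul_zero]), hu, hM, hv]
  · rw [hact a _ h.ab.qu (by rw [polar_smul_right, h.ab.perp, smul_zero]), ha, hM, hb]

end Cfsg.Agent.OddHalf.D7Out.ConstOInst
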