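import Cfsg.Agent.OddHalf.D7Out.CzComp
import Cfsg.Agent.S0028

/-!
# ODD half, D7, outer 2-part: THEOREM H of helper875 (bb 8710), steps (5), (6)

`H`, `t`, `z`, `P`, `Q`, `Z`, `V` as in `CzComp`, `Qs` the doubled `Q` (`Q*`). If `H` has no component then
`O₂(H) = F*(H) = Qs`.
-/

set_option autoImplicit false
set_option linter.style.haveILetI false

namespace Cfsg.Agent.OddHalf.D7Out.Cz

open Subgroup Cfsg
open Cfsg.Agent.SignalizersComponents.Components Cfsg.Agent.SignalizersComponents.CompBasic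
open scoped commutatorElement

universe u

variable {H : Type u} [Group H]

/-- the fixed point form of the `A × B` lemma: `P` perfect, centralising the involution `t` and `C_F(t)`, `F` a
self-centralising 2-group normalised by `t` and `P`: then `P = 1` -/
theorem eq_bot_of_fix [Finite H] {t : H} {P F : Subgroup H} (tt : t * t = 1) (hP : ⁅P, P⁆ = P)
    (Pt : ∀ p ∈ P, p * t = t * p) (hF : IsPGroup 2 F) (norF : ∀ g : H, ∀ x ∈ F, g * x * g⁻¹ ∈ F)
    (selfF : ∀ g, (∀ x ∈ F, g * x = x * g) → g ∈ F) (hcen : ∀ x ∈ F, x * t = t * x → ∀ p ∈ P, x * p = p * x) :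
    P = ⊥ := by
  haveI : Fact (Nat.Prime 2) := ⟨Nat.prime_two⟩
  have hnor : ∀ g : H, g ∈ normalizer (F : Set H) := fun g =>
    le_norm (K := ⊤) (fun k _ n hn => norF k n hn) (mem_top g)
  -- odd elements of `P` are trivial
  have hodd : ∀ p ∈ P, (orderOf p).Coprime 2 → p = 1 := by
    intro p hp hpo
    have h2 : zpowers p ≤ centralizer (F : Set H) := by
      refine Cfsg.Agent.S0028.result 2 (zpowers t) (zpowers p) F ?_ ?_ hF ?_ ?_ ?_ ?_
      · rintro ⟨a, ha⟩
        obtain ⟨i, rfl⟩ := mem_zpowers_iff.1 ha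
        refine ⟨1, Subtype.ext ?_⟩
        show (t ^ i) ^ (2 ^ 1) = 1
        rw [pow_one, pow_two, ← zpow_add, ← two_mul, zpow_mul]
        have : t ^ (2 : ℤ) = 1 := by
          rw [show (2 : ℤ) = 1 + 1 by norm_num, zpow_add, zpow_one, tt]
        rw [this, one_zpow]
      · rw [Nat.card_zpowers]; exact hpo
      · rw [zpowers_le, mem_centralizer_iff]
        intro q hq
        obtain ⟨i, rfl⟩ := mem_zpowers_iff.1 hq
        exact ((show Commute p t from Pt p hp).zpow_left i).eq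
      · rw [zpowers_le]; exact hnor t
      · rw [zpowers_le]; exact hnor p
      · rintro x ⟨hx, hxt⟩
        have hxt' : x * t = t * x := (mem_centralizer_iff.1 hxt t (mem_zpowers t)).symm
        rw [mem_centralizer_iff]
        intro q hq
        have hqP : q ∈ P := (zpowers_le.2 hp) hq
        exact (hcen x hx hxt' q hqP).symm
    have h3 : p ∈ F := by
      refine selfF p fun x hx => ?_
      exact (mem_centralizer_iff.1 (h2 (mem_zpowers p)) x hx).symm
    obtain ⟨k, hk⟩ := hF ⟨p, h3⟩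
    have h4 : p ^ 2 ^ k = 1 := congrArg Subtype.val hk
    have h5 : orderOf p ∣ 2 ^ k := orderOf_dvd_of_pow_eq_one h4
    have h6 : orderOf p = 1 := Nat.Coprime.eq_one_of_dvd (hpo.pow_right k) h5
    exact orderOf_eq_one_iff.1 h6
  have hP2 : IsPGroup 2 P := by
    rw [IsPGroup.iff_card]
    refine ⟨(Nat.card P).primeFactorsList.length, ?_⟩
    refine Nat.eq_prime_pow_of_unique_prime_dvd Nat.card_pos.ne' ?_
    intro q hq hqd
    by_contra hne
    have : Fact q.Prime := ⟨hq⟩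
    obtain ⟨y, hy⟩ := exists_prime_orderOf_dvd_card' q hqd
    have h4 : (orderOf (y : H)).Coprime 2 := by
      rw [Subgroup.orderOf_coe, hy]
      exact (Nat.coprime_primes hq Nat.prime_two).2 hne
    have h5 : y = 1 := Subtype.ext (hodd y y.2 h4)
    rw [h5, orderOf_one] at hy
    exact hq.one_lt.ne hy
  refine eq_bot_of_perfect_solvable hP ?_
  haveI : Group.IsNilpotent P := hP2.isNilpotent
  infer_instance

/-- The data of THEOREM H, steps (5), (6). -/
structure DataTwo (t z : H) (P Q Z V Qs : Subgroup H) : Prop extends Data t z P Q Z V where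
  /-- some `[w, t] ∈ P - Q` (`w` in a doubled root group orthogonal to `ρ`) -/
  u_ex : ∃ w : H, w * t * w⁻¹ * t⁻¹ ∈ P ∧ w * t * w⁻¹ * t⁻¹ ∉ Q
  /-- `O₂(P) ≤ Q` -/
  pcore : ∀ Y ≤ P, IsPGroup 2 Y → (∀ p ∈ P, ∀ y ∈ Y, p * y * p⁻¹ ∈ Y) → Y ≤ Q
  /-- `O₂(C_H(t)) ≤ ⟨t⟩ Q` -/
  ccore : ∀ Y : Subgroup H, IsPGroup 2 Y → (∀ y ∈ Y, y * t = t * y) →
    (∀ c, c * t = t * c → ∀ y ∈ Y, c * y * c⁻¹ ∈ Y) → ∀ y ∈ Y, y ∈ Q ∨ t * y ∈ Q
  /-- (H4) -/
  irr : ∀ Y ≤ Q, (∀ c, c * t = t * c → ∀ y ∈ Y, c * y * c⁻¹ ∈ Y) → Y ≤ Z ∨ Y = Q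
  QQs : Q ≤ Qs
  tQs : ∀ y ∈ Qs, t * y * t⁻¹ ∈ Qs
  Qsfix : ∀ y ∈ Qs, y * t = t * y → y ∈ Q
  /-- the involutions of `t Q*` are conjugate to `t` under `Q*` -/
  free : ∀ y ∈ Qs, (t * y) * (t * y) = 1 → ∃ w ∈ Qs, t * y = w * t * w⁻¹
  /-- `W_r ≤ [W_s, X_a] X_r` with `X_a ≤ Q` -/
  QsQ : Qs ≤ normalClosure (Q : Set H)

namespace DataTwo

variable {t z : H} {P Q Z V Qs : Subgroup H}

/-- without components `O₂(H)` is self-centralising -/
theorem selfF [Finite H] (D : DataTwo t z P Q Z V Qs) (hno : ∀ E : Subgroup H, ¬ IsComponent E) :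
    centralizer (pCore 2 H : Set H) ≤ pCore 2 H := by
  haveI : Fact (Nat.Prime 2) := ⟨Nat.prime_two⟩
  have hlay : layer H = ⊥ := by
    rw [eq_bot_iff]
    exact layer_le_iff.2 fun L hL => absurd hL (hno L)
  have hfit : fittingSubgroup H = pCore 2 H :=
    SignalizersComponents.PConstrained.fittingSubgroup_eq_pCore_of_pPrimeCore_eq_bot 2 D.core
  have h1 := Lib.GenFitting.centralizer_genFitting_le (G := H)
  rwa [Lib.GenFitting.genFitting_def, hlay, hfit, bot_sup_eq] at h1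

/-- (5): `t ∉ O₂(H)` -/
theorem t_notMem (D : DataTwo t z P Q Z V Qs) : t ∉ pCore 2 H := by
  intro ht
  haveI hn : (pCore 2 H).Normal := inferInstance
  obtain ⟨w, hwP, hwQ⟩ := D.u_ex
  apply hwQ
  refine D.pcore (pCore 2 H ⊓ P) inf_le_right ((Lib.Cores.pCore_isPGroup 2).to_le inf_le_left) ?_
    (Subgroup.mem_inf.2 ⟨mul_mem (hn.conj_mem t ht w) (inv_mem ht), hwP⟩)
  intro p hp y hy
  exact Subgroup.mem_inf.2 ⟨hn.conj_mem y hy.1 p, mul_mem (mul_mem hp hy.2) (inv_mem hp)⟩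

/-- (5): `C_{O₂(H)}(t) = Q` -/
theorem fix_eq [Finite H] (D : DataTwo t z P Q Z V Qs) (hno : ∀ E : Subgroup H, ¬ IsComponent E) :
    Q ≤ pCore 2 H ∧ ∀ y ∈ pCore 2 H, y * t = t * y → y ∈ Q := by
  haveI hn : (pCore 2 H).Normal := inferInstance
  haveI : Fact (Nat.Prime 2) := ⟨Nat.prime_two⟩
  have hF2 : IsPGroup 2 (pCore 2 H) := Lib.Cores.pCore_isPGroup 2
  set F : Subgroup H := pCore 2 H with hF
  set N : Subgroup H := F ⊓ centralizer ({t} : Set H) with hN
  have hNt : ∀ y ∈ N, y * t = t * y := fun y hy => mem_centralizer_singleton_iff.1 hy.2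
  have hNn : ∀ c, c * t = t * c → ∀ y ∈ N, c * y * c⁻¹ ∈ N := by
    intro c hc y hy
    refine Subgroup.mem_inf.2 ⟨hn.conj_mem y hy.1 c, mem_centralizer_singleton_iff.2 ?_⟩
    have c1 : Commute c t := hc
    have c2 : Commute y t := hNt y hy
    exact ((c1.mul_left c2).mul_left c1.inv_left).eq
  have hNQ := D.ccore N (hF2.to_le inf_le_left) hNt hNn
  have hQN : Q ≤ N := by
    rcases D.irr (N ⊓ Q) inf_le_right (fun c hc y hy =>
      Subgroup.mem_inf.2 ⟨hNn c hc y hy.1, D.norQ c hc y hy.2⟩) with h1 | h1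
    · exfalso
      -- `[N, P] ≤ Z`
      have h2 : ⁅N, P⁆ ≤ Z := by
        rw [commutator_le]
        intro x hx p hp
        apply h1
        have hxt : Commute x t := hNt x hx
        have hpt : Commute p t := D.Pt p hp
        have e1 : ⁅x, p⁆ = x * (p * x⁻¹ * p⁻¹) := by rw [commutatorElement_def]; group
        refine Subgroup.mem_inf.2 ⟨?_, ?_⟩
        · rw [e1]
          exact mul_mem hx (hNn p hpt x⁻¹ (inv_mem hx))
        · rcases hNQ x hx with h3 | h3
          · rw [e1]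
            exact mul_mem h3 (D.norQ p hpt x⁻¹ (inv_mem h3))
          · have e2 : ⁅x, p⁆ = (t * x) * (p * (t * x)⁻¹ * p⁻¹) := by
              have hc : Commute t (x * p * x⁻¹ * p⁻¹) :=
                (((hxt.mul_left hpt).mul_left hxt.inv_left).mul_left hpt.inv_left).symm
              calc ⁅x, p⁆ = t * (x * p * x⁻¹ * p⁻¹) * t⁻¹ := by
                    rw [hc.eq, commutatorElement_def]; group
                _ = t * x * p * x⁻¹ * (p⁻¹ * t⁻¹) := by group
                _ = t * x * p * x⁻¹ * (t⁻¹ * p⁻¹) := by rw [hpt.inv_inv.eq]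
                _ = (t * x) * (p * (t * x)⁻¹ * p⁻¹) := by group
            rw [e2]
            exact mul_mem h3 (D.norQ p hpt _ (inv_mem h3))
      have h3 : ⁅⁅N, P⁆, P⁆ = ⊥ := by
        rw [commutator_eq_bot_iff_le_centralizer]
        intro y hy
        rw [mem_centralizer_iff]
        intro p hp
        exact (D.VP y (D.ZV (h2 hy)) p hp).symm
      have hPp : Group.IsPerfect P := Subgroup.isPerfect_iff.2 D.perf
      have h4 := commutator_eq_bot_of_commutator_commutator_eq_bot hPp h3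
      refine D.P_ne_bot (eq_bot_of_fix (F := F) D.tt D.perf D.Pt hF2 (fun g x hx => hn.conj_mem x hx g) ?_ ?_)
      · intro g hg
        exact D.selfF hno (mem_centralizer_iff.2 fun x hx => (hg x hx).symm)
      · intro x hx hxt p hp
        have h5 : x ∈ N := Subgroup.mem_inf.2 ⟨hx, mem_centralizer_singleton_iff.2 hxt⟩
        exact (mem_centralizer_iff.1 (commutator_eq_bot_iff_le_centralizer.1 h4 h5) p hp).symm
    · rw [← h1]; exact inf_le_left
  refine ⟨hQN.trans inf_le_left, fun y hy hyt => ?_⟩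
  rcases hNQ y (Subgroup.mem_inf.2 ⟨hy, mem_centralizer_singleton_iff.2 hyt⟩) with h1 | h1
  · exact h1
  · exfalso
    apply D.t_notMem
    have h2 := (pCore 2 H).mul_mem (hQN h1).1 ((pCore 2 H).inv_mem hy)
    rwa [mul_inv_cancel_right] at h2

/-- **(5), (6)**: if `H` has no component then `Q* = O₂(H) = F*(H)` -/
theorem two [Finite H] (D : DataTwo t z P Q Z V Qs) (hno : ∀ E : Subgroup H, ¬ IsComponent E) :
    Qs = pCore 2 H ∧ centralizer (Qs : Set H) ≤ Qs ∧ t ∉ Qs := by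
  obtain ⟨h1, h2⟩ := D.fix_eq hno
  haveI hn : (pCore 2 H).Normal := inferInstance
  have hF2 : IsPGroup 2 (pCore 2 H) := Lib.Cores.pCore_isPGroup 2
  have h3 : Qs ≤ pCore 2 H := D.QsQ.trans (normalClosure_le_normal h1)
  have h4 : pCore 2 H ≤ Qs := by
    by_contra hne
    obtain ⟨s, hs, hsQ, hf⟩ := exists_fixed_mod hF2 hne D.tt (fun s hs => hn.conj_mem s hs t) D.tQs
    have hti := D.tinv
    -- `s⁻¹ t s = t y`
    set y := t * (s⁻¹ * (t * s * t⁻¹)) * t⁻¹ with hy
    have hyQ : y ∈ Qs := D.tQs _ hf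
    have hty : t * y = s⁻¹ * t * s := by
      rw [hy, hti]
      calc t * (t * (s⁻¹ * (t * s * t)) * t) = (t * t) * s⁻¹ * t * s * (t * t) := by group
        _ = s⁻¹ * t * s := by rw [D.tt]; group
    obtain ⟨w, hw, hwt⟩ := D.free y hyQ (by
      rw [hty]
      calc s⁻¹ * t * s * (s⁻¹ * t * s) = s⁻¹ * (t * t) * s := by group
        _ = 1 := by rw [D.tt]; group)
    have h5 : (s * w) * t = t * (s * w) := by
      have h6 : s⁻¹ * t * s = w * t * w⁻¹ := hty.symm.trans hwt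
      calc s * w * t = s * (w * t * w⁻¹) * w := by group
        _ = s * (s⁻¹ * t * s) * w := by rw [h6]
        _ = t * (s * w) := by group
    have h6 := D.QQs (h2 _ (mul_mem hs (h3 hw)) h5)
    apply hsQ
    have h7 := mul_mem h6 (inv_mem hw)
    rwa [mul_inv_cancel_right] at h7
  have h5 : Qs = pCore 2 H := le_antisymm h3 h4
  refine ⟨h5, ?_, ?_⟩
  · rw [h5]
    exact D.selfF hno
  · rw [h5]
    exact D.t_notMem

end DataTwo

end Cfsg.Agent.OddHalf.D7Out.Cz
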