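import Mathlib
import Cfsg.Agent.Lib.ThompsonPQ
import Cfsg.Agent.OddOrderLocal.SylIn

/-!
# Node D7 of S1765, THEOREM H of helper875, parts (5) and (6)

`H` (= `C_G(z)`) is of characteristic 2: `F0 = O_2(H)` contains its centralizer. `t ∈ H` is an involution whose
centralizer in `H` is known: it contains the perfect group `P`, and `O_2(C_H(t)) ≤ ⟨t⟩ × Q`. Then `t ∉ F0` and
`C_{F0}(t) = Q`. If `Qs` is a doubling of `Q` contained in the normal closure of `Q`, then `F0 = Qs`.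
-/

set_option autoImplicit false

namespace Cfsg.Agent.OddHalf.D7Out.CzTwo

open Subgroup
open scoped commutatorElement

variable {G : Type*} [Group G]

/-- A perfect group `P` normalising `D` whose elements of odd order lie in `D` is contained in `D`. -/
theorem le_of_odd [Finite G] {P D : Subgroup G} (hP : ⁅P, P⁆ = P)
    (hn : ∀ p ∈ P, ∀ d ∈ D, p * d * p⁻¹ ∈ D) (ho : ∀ p ∈ P, Odd (orderOf p) → p ∈ D) : P ≤ D := by
  classical
  have hN : (D.subgroupOf P).Normal := by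
    constructor
    rintro ⟨d, hd⟩ hdD ⟨p, hp⟩
    rw [mem_subgroupOf] at hdD ⊢
    exact hn p hp d hdD
  have h2 : IsPGroup 2 (↥P ⧸ D.subgroupOf P) := by
    intro g
    obtain ⟨x, rfl⟩ := QuotientGroup.mk_surjective g
    have hx0 : orderOf x ≠ 0 := (orderOf_pos x).ne'
    refine ⟨(orderOf x).factorization 2, ?_⟩
    rw [← QuotientGroup.mk_pow, QuotientGroup.eq_one_iff, mem_subgroupOf]
    apply ho
    · exact SetLike.coe_mem _
    · have e1 : orderOf ((x ^ 2 ^ (orderOf x).factorization 2 : ↥P) : G) =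
          orderOf (x ^ 2 ^ (orderOf x).factorization 2) := Subgroup.orderOf_coe _
      rw [e1, orderOf_pow]
      have hd : 2 ^ (orderOf x).factorization 2 ∣ orderOf x := Nat.ordProj_dvd _ _
      rw [Nat.gcd_eq_right hd]
      have := Nat.not_dvd_ordCompl (n := orderOf x) Nat.prime_two hx0
      rw [← Nat.not_even_iff_odd]
      intro he
      exact this he.two_dvd
  by_contra hc
  have hnt : Nontrivial (↥P ⧸ D.subgroupOf P) := by
    rw [← not_subsingleton_iff_nontrivial]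
    intro hs
    apply hc
    have h1 : D.subgroupOf P = ⊤ := by
      rw [eq_top_iff]
      intro x _
      rw [← QuotientGroup.eq_one_iff]
      exact Subsingleton.elim _ _
    rwa [subgroupOf_eq_top] at h1
  have hnil : Group.IsNilpotent (↥P ⧸ D.subgroupOf P) := h2.isNilpotent
  have hlt := Group.IsSolvable.commutator_lt_top_of_nontrivial (↥P ⧸ D.subgroupOf P)
  apply hlt.ne
  have hcP : commutator ↥P = ⊤ := by
    rw [eq_top_iff]
    have h3 : (commutator ↥P).map P.subtype = P := by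
      rw [_root_.commutator_def, map_commutator, ← MonoidHom.range_eq_map, range_subtype, hP]
    intro x _
    have hx : (x : G) ∈ (commutator ↥P).map P.subtype := by rw [h3]; exact x.2
    obtain ⟨y, hy, hyx⟩ := hx
    have : y = x := Subtype.ext hyx
    rw [← this]; exact hy
  have h4 : (commutator ↥P).map (QuotientGroup.mk' (D.subgroupOf P)) =
      commutator (↥P ⧸ D.subgroupOf P) := by
    rw [_root_.commutator_def, _root_.commutator_def, map_commutator, ← MonoidHom.range_eq_map,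
      MonoidHom.range_eq_top.2 (QuotientGroup.mk'_surjective _)]
  rw [← h4, hcP, ← MonoidHom.range_eq_map]
  exact MonoidHom.range_eq_top.2 (QuotientGroup.mk'_surjective _)

/-- A perfect group `P` which commutes with the 2-element `t`, normalises the 2-group `F` and centralises
`C_F(t)` centralises `F`. -/
theorem le_centralizer [Finite G] {P F : Subgroup G} {t : G} (hP : ⁅P, P⁆ = P) (hF : IsPGroup 2 F)
    (tt : t * t = 1) (htP : ∀ p ∈ P, p * t = t * p) (htF : ∀ x ∈ F, t * x * t ∈ F)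
    (hPF : ∀ p ∈ P, ∀ x ∈ F, p * x * p⁻¹ ∈ F)
    (hc : ∀ x ∈ F, x * t = t * x → ∀ p ∈ P, p * x = x * p) : P ≤ centralizer (F : Set G) := by
  have tinv : t⁻¹ = t := inv_eq_of_mul_eq_one_left tt
  have hinv : ∀ p ∈ P, ∀ x ∈ F, p⁻¹ * x * p ∈ F := by
    intro p hp x hx
    simpa using hPF p⁻¹ (inv_mem hp) x hx
  apply le_of_odd hP
  · intro p hp d hd
    rw [mem_centralizer_iff] at hd ⊢
    intro x hx
    have h1 := hd (p⁻¹ * x * p) (hinv p hp x hx)
    calc x * (p * d * p⁻¹) = p * (p⁻¹ * x * p * d) * p⁻¹ := by group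
      _ = p * (d * (p⁻¹ * x * p)) * p⁻¹ := by rw [h1]
      _ = p * d * p⁻¹ * x := by group
  · intro p hp hodd
    have h2t : IsPGroup 2 (zpowers t) := by
      rw [IsPGroup.iff_card]
      rw [Nat.card_zpowers]
      have : orderOf t ∣ 2 ^ 1 := orderOf_dvd_of_pow_eq_one (by rw [pow_one, pow_two, tt])
      obtain ⟨k, -, hk⟩ := (Nat.dvd_prime_pow Nat.prime_two).1 this
      exact ⟨k, hk⟩
    have key := Cfsg.Agent.Lib.ThompsonPQ.thompson_p_times_q 2 (zpowers t) (zpowers p) F h2t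
      (by rw [Nat.card_zpowers]; exact hodd.coprime_two_right) hF
      (by
        rw [zpowers_le, mem_centralizer_iff]
        rintro _ ⟨k, rfl⟩
        exact ((Commute.zpow_left (htP p hp) k).eq))
      (by
        rw [zpowers_le, mem_normalizer_iff]
        intro x
        constructor
        · intro hx; rw [tinv]; exact htF x hx
        · intro hx
          have := htF _ hx
          rw [tinv] at this
          have e : t * (t * x * t) * t = x := by
            calc t * (t * x * t) * t = (t * t) * x * (t * t) := by group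
              _ = x := by rw [tt]; group
          rwa [e] at this)
      (by
        rw [zpowers_le, mem_normalizer_iff]
        intro x
        constructor
        · intro hx; exact hPF p hp x hx
        · intro hx
          have := hinv p hp _ hx
          have e : p⁻¹ * (p * x * p⁻¹) * p = x := by group
          rwa [e] at this)
      (by
        intro x hx'
        obtain ⟨hx, hxt⟩ := mem_inf.1 hx'
        rw [mem_centralizer_iff] at hxt
        rw [mem_centralizer_iff]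
        rintro _ ⟨k, rfl⟩
        have h1 := hxt t (mem_zpowers t)
        have h2 : Commute p x := hc x hx h1.symm p hp
        exact (h2.zpow_left k).eq)
    exact key (mem_zpowers p)

/-- The subgroup `A⟨t⟩` for an involution `t` normalising `A`. -/
def ext (A : Subgroup G) (t : G) (tt : t * t = 1) (ht : ∀ x ∈ A, t * x * t ∈ A) : Subgroup G where
  carrier := {x | x ∈ A ∨ t * x ∈ A}
  one_mem' := Or.inl (one_mem A)
  mul_mem' := by
    rintro x y (hx | hx) (hy | hy)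
    · exact Or.inl (mul_mem hx hy)
    · right
      have h := mul_mem (ht x hx) hy
      have e : t * x * t * (t * y) = t * (x * y) := by
        calc t * x * t * (t * y) = t * x * (t * t) * y := by group
          _ = t * (x * y) := by rw [tt]; group
      rwa [e] at h
    · right
      have h := mul_mem hx hy
      rwa [mul_assoc] at h
    · left
      have h := mul_mem (ht _ hx) hy
      have e : t * (t * x) * t * (t * y) = x * y := by
        calc t * (t * x) * t * (t * y) = (t * t) * x * (t * t) * y := by group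
          _ = x * y := by rw [tt]; group
      rwa [e] at h
  inv_mem' := by
    rintro x (hx | hx)
    · exact Or.inl (inv_mem hx)
    · right
      have h := ht _ (inv_mem hx)
      have e : t * (t * x)⁻¹ * t = t * x⁻¹ := by
        have tinv : t⁻¹ = t := inv_eq_of_mul_eq_one_left tt
        rw [mul_inv_rev, tinv]
        calc t * (x⁻¹ * t) * t = t * x⁻¹ * (t * t) := by group
          _ = t * x⁻¹ := by rw [tt, mul_one]
      rwa [e] at h

theorem mem_ext {A : Subgroup G} {t : G} {tt : t * t = 1} {ht : ∀ x ∈ A, t * x * t ∈ A} {x : G} :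
    x ∈ ext A t tt ht ↔ x ∈ A ∨ t * x ∈ A := Iff.rfl

theorem ext_two {A : Subgroup G} {t : G} {tt : t * t = 1} {ht : ∀ x ∈ A, t * x * t ∈ A}
    (hA : IsPGroup 2 A) : IsPGroup 2 (ext A t tt ht) := by
  rintro ⟨x, hx⟩
  have h2 : x * x ∈ A := by
    rcases mem_ext.1 hx with h | h
    · exact mul_mem h h
    · have h1 := mul_mem (ht _ h) h
      have e : t * (t * x) * t * (t * x) = x * x := by
        calc t * (t * x) * t * (t * x) = (t * t) * x * (t * t) * x := by group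
          _ = x * x := by rw [tt]; group
      rwa [e] at h1
  obtain ⟨k, hk⟩ := hA ⟨x * x, h2⟩
  refine ⟨k + 1, ?_⟩
  ext
  have hk' : (x * x) ^ 2 ^ k = 1 := by
    have := congrArg Subtype.val hk
    simpa using this
  push_cast
  rw [pow_succ', pow_mul, pow_two, hk']

/-- Let the involution `t` act on the 2-group `F`, and let `D` be a `t`-invariant subgroup which contains `C_F(t)`,
such that all involutions of `t D` are conjugate to `t` under `D`. Then `F = D`. -/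
theorem eq_of_free [Finite G] {F D : Subgroup G} {t : G} (hF2 : IsPGroup 2 F) (tt : t * t = 1)
    (htF : t ∉ F) (htn : ∀ x ∈ F, t * x * t ∈ F) (hle : D ≤ F) (ht : ∀ x ∈ D, t * x * t ∈ D)
    (hconj : ∀ x ∈ D, t * x * (t * x) = 1 → ∃ y ∈ D, y * t * y⁻¹ = t * x)
    (hfix : ∀ x ∈ F, x * t = t * x → x ∈ D) : F = D := by
  by_contra hne
  have hlt : D < F := lt_of_le_of_ne hle (Ne.symm hne)
  have hS2 : IsPGroup 2 (ext F t tt htn) := ext_two hF2
  have hlt' : ext D t tt ht < ext F t tt htn := by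
    rw [SetLike.lt_iff_le_and_exists]
    constructor
    · rintro x (hx | hx)
      · exact Or.inl (hle hx)
      · exact Or.inr (hle hx)
    · obtain ⟨x, hx, hx'⟩ := SetLike.exists_of_lt hlt
      refine ⟨x, Or.inl hx, ?_⟩
      rintro (h | h)
      · exact hx' h
      · apply htF
        have e : t = t * x * x⁻¹ := by group
        rw [e]
        exact mul_mem (hle h) (inv_mem hx)
  have hgt := Cfsg.Agent.OddOrderLocal.SylIn.exists_normalizing_gt hS2 hlt'
  obtain ⟨s, hs, hs'⟩ := SetLike.exists_of_lt hgt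
  obtain ⟨hsS, hsN⟩ := mem_inf.1 hs
  have htE : t ∈ ext D t tt ht := Or.inr (by rw [tt]; exact one_mem _)
  -- a representative in `F`
  obtain ⟨f, hf, hfN, hfE⟩ : ∃ f ∈ F, f ∈ normalizer ((ext D t tt ht : Subgroup G) : Set G) ∧
      f ∉ ext D t tt ht := by
    rcases mem_ext.1 hsS with h | h
    · exact ⟨s, h, hsN, hs'⟩
    · refine ⟨t * s, h, mul_mem (le_normalizer htE) hsN, ?_⟩
      intro hc
      apply hs'
      have := mul_mem htE hc
      rwa [← mul_assoc, tt, one_mul] at this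
  have h1 : f * t * f⁻¹ ∈ ext D t tt ht := (mem_normalizer_iff.1 hfN t).1 htE
  have h2 : t * (f * t * f⁻¹) ∈ D := by
    rcases mem_ext.1 h1 with h | h
    · exfalso
      apply htF
      have h3 : f⁻¹ * (f * t * f⁻¹) * f ∈ F := mul_mem (mul_mem (inv_mem hf) (hle h)) hf
      have e : f⁻¹ * (f * t * f⁻¹) * f = t := by group
      rwa [e] at h3
    · exact h
  obtain ⟨y, hy, hyt⟩ := hconj _ h2 (by
    calc t * (t * (f * t * f⁻¹)) * (t * (t * (f * t * f⁻¹)))
        = (t * t) * (f * t * f⁻¹) * (t * t) * (f * t * f⁻¹) := by group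
      _ = (f * t * f⁻¹) * (f * t * f⁻¹) := by rw [tt, one_mul, mul_one]
      _ = f * (t * t) * f⁻¹ := by group
      _ = 1 := by rw [tt]; group)
  have h3 : y * t * y⁻¹ = f * t * f⁻¹ := by
    rw [hyt, ← mul_assoc, tt, one_mul]
  have h4 : (y⁻¹ * f) * t = t * (y⁻¹ * f) := by
    calc (y⁻¹ * f) * t = y⁻¹ * (f * t * f⁻¹) * f := by group
      _ = y⁻¹ * (y * t * y⁻¹) * f := by rw [h3]
      _ = t * (y⁻¹ * f) := by group
  have h5 : y⁻¹ * f ∈ D := hfix _ (mul_mem (inv_mem (hle hy)) hf) h4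
  apply hfE
  left
  have e : f = y * (y⁻¹ * f) := by group
  rw [e]
  exact mul_mem hy h5

/-- The hypotheses of (5). -/
structure Env (H F0 P Q Z : Subgroup G) (t : G) : Prop where
  F_le : F0 ≤ H
  F_conj : ∀ h ∈ H, ∀ x ∈ F0, h * x * h⁻¹ ∈ F0
  F_two : IsPGroup 2 F0
  F_cent : ∀ h ∈ H, (∀ x ∈ F0, h * x = x * h) → h ∈ F0
  t_mem : t ∈ H
  tt : t * t = 1
  P_le : P ≤ H
  P_t : ∀ p ∈ P, p * t = t * p
  P_perf : ⁅P, P⁆ = P
  P_ne : P ≠ ⊥
  Q_le : Q ≤ H
  Q_t : ∀ x ∈ Q, x * t = t * x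
  Q_conj : ∀ h ∈ H, h * t = t * h → ∀ x ∈ Q, h * x * h⁻¹ ∈ Q
  Z_le : Z ≤ Q
  Z_P : ∀ z ∈ Z, ∀ p ∈ P, p * z = z * p
  Z_comm : ∀ a ∈ Z, ∀ b ∈ Z, a * b = b * a
  /-- (H2) -/
  h2 : ∀ x ∈ H, x * t = t * x → (∀ p ∈ P, p * x = x * p) → x ∈ Z ∨ t * x ∈ Z
  /-- (H3) -/
  h3 : ∀ N : Subgroup G, N ≤ H → (∀ x ∈ N, x * t = t * x) → IsPGroup 2 N →
    (∀ h ∈ H, h * t = t * h → ∀ x ∈ N, h * x * h⁻¹ ∈ N) → ∀ x ∈ N, x ∈ Q ∨ t * x ∈ Q
  /-- (H4) -/
  h4 : ∀ N : Subgroup G, N ≤ Q → (∀ h ∈ H, h * t = t * h → ∀ x ∈ N, h * x * h⁻¹ ∈ N) → N ≤ Z ∨ N = Q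
  /-- the y-trick -/
  y : ∃ w ∈ H, ∃ u, t * (w * t * w⁻¹) = u ∧ u * t = t * u ∧ u ∉ Q ∧ t * u ∉ Q

namespace Env

variable {H F0 P Q Z : Subgroup G} {t : G}

theorem tinv (E : Env H F0 P Q Z t) : t⁻¹ = t := inv_eq_of_mul_eq_one_left E.tt

/-- `C_{F0}(t)`. -/
def N (F0 : Subgroup G) (t : G) : Subgroup G := F0 ⊓ centralizer ({t} : Set G)

theorem mem_N {x : G} : x ∈ N F0 t ↔ x ∈ F0 ∧ x * t = t * x := by
  unfold N
  rw [mem_inf, mem_centralizer_singleton_iff]

theorem N_conj (E : Env H F0 P Q Z t) : ∀ h ∈ H, h * t = t * h → ∀ x ∈ N F0 t, h * x * h⁻¹ ∈ N F0 t := by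
  intro h hh ht x hx
  rw [mem_N] at hx ⊢
  refine ⟨E.F_conj h hh x hx.1, ?_⟩
  have h1 : Commute h t := ht
  have h2 : Commute x t := hx.2
  exact ((h1.mul_left h2).mul_left h1.inv_left).eq

theorem N_sub (E : Env H F0 P Q Z t) : ∀ x ∈ N F0 t, x ∈ Q ∨ t * x ∈ Q := by
  apply E.h3
  · intro x hx; exact E.F_le (mem_N.1 hx).1
  · intro x hx; exact (mem_N.1 hx).2
  · exact E.F_two.to_le (fun x hx => (mem_N.1 hx).1)
  · exact E.N_conj

theorem not_mem (E : Env H F0 P Q Z t) : t ∉ F0 := by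
  intro ht
  obtain ⟨w, hw, u, hu, hut, huQ, htu⟩ := E.y
  have h1 : u ∈ F0 := by
    rw [← hu]
    exact mul_mem ht (E.F_conj w hw t ht)
  rcases E.N_sub u (mem_N.2 ⟨h1, hut⟩) with h | h
  · exact huQ h
  · exact htu h

theorem not_all [Finite G] (E : Env H F0 P Q Z t) : ¬ ∀ x ∈ N F0 t, x ∈ Z ∨ t * x ∈ Z := by
  intro hall
  have h1 : P ≤ centralizer (F0 : Set G) := by
    apply le_centralizer E.P_perf E.F_two E.tt E.P_t
    · intro x hx
      have := E.F_conj t E.t_mem x hx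
      rwa [E.tinv] at this
    · intro p hp x hx; exact E.F_conj p (E.P_le hp) x hx
    · intro x hx hxt p hp
      rcases hall x (mem_N.2 ⟨hx, hxt⟩) with h | h
      · exact E.Z_P x h p hp
      · have h2 := E.Z_P _ h p hp
        have h3 := E.P_t p hp
        have e : x = t * (t * x) := by rw [← mul_assoc, E.tt, one_mul]
        calc p * x = p * t * (t * x) := by rw [mul_assoc, ← e]
          _ = t * (p * (t * x)) := by rw [h3, mul_assoc]
          _ = t * (t * x * p) := by rw [h2]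
          _ = x * p := by rw [← mul_assoc, ← e]
  have h2 : P ≤ F0 := by
    intro p hp
    apply E.F_cent p (E.P_le hp)
    intro x hx
    exact ((mem_centralizer_iff.1 (h1 hp)) x hx).symm
  apply E.P_ne
  have h3 : IsPGroup 2 P := E.F_two.to_le h2
  rw [← le_bot_iff]
  apply le_of_odd E.P_perf
  · intro p _ d hd
    rw [mem_bot] at hd ⊢
    rw [hd]; group
  · intro p hp ho
    rw [mem_bot]
    obtain ⟨k, hk⟩ := h3 ⟨p, hp⟩
    have hk' : p ^ 2 ^ k = 1 := by
      have := congrArg Subtype.val hk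
      simpa using this
    have hd := orderOf_dvd_of_pow_eq_one hk'
    obtain ⟨m, -, hm⟩ := (Nat.dvd_prime_pow Nat.prime_two).1 hd
    have hm0 : m = 0 := by
      by_contra h0
      rw [hm] at ho
      exact (Nat.not_odd_iff_even.2 (Nat.even_pow.2 ⟨even_two, h0⟩)) ho
    rw [hm0, pow_zero] at hm
    exact orderOf_eq_one_iff.1 hm

theorem Q_le_N [Finite G] (E : Env H F0 P Q Z t) : Q ≤ N F0 t := by
  have hc : ∀ h ∈ H, h * t = t * h → ∀ x ∈ N F0 t ⊓ Q, h * x * h⁻¹ ∈ N F0 t ⊓ Q := by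
    rintro h hh ht x ⟨hx1, hx2⟩
    exact ⟨E.N_conj h hh ht x hx1, E.Q_conj h hh ht x hx2⟩
  rcases E.h4 (N F0 t ⊓ Q) inf_le_right hc with h | h
  swap
  · rw [← h]; exact inf_le_left
  exfalso
  apply E.not_all
  intro x hx
  rcases E.N_sub x hx with h1 | h1
  · exact Or.inl (h ⟨hx, h1⟩)
  -- `x = t q`: the map `p ↦ [x, p]` is a homomorphism from `P` to `Z`
  apply E.h2 x (E.F_le (mem_N.1 hx).1) (mem_N.1 hx).2
  have hxt := (mem_N.1 hx).2
  have hz : ∀ p ∈ P, p * x * p⁻¹ * x⁻¹ ∈ Z := by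
    intro p hp
    apply h
    rw [mem_inf]
    refine ⟨mul_mem (E.N_conj p (E.P_le hp) (E.P_t p hp) x hx) (inv_mem hx), ?_⟩
    have e : p * x * p⁻¹ * x⁻¹ = (p * (t * x) * p⁻¹) * (t * x)⁻¹ := by
      have c1 : Commute t p := (E.P_t p hp).symm
      have c2 : Commute t x := hxt.symm
      have c3 : Commute t (p * x * p⁻¹ * x⁻¹) :=
        ((c1.mul_right c2).mul_right c1.inv_right).mul_right c2.inv_right
      have h5 : (p * (t * x) * p⁻¹) * (t * x)⁻¹ = (p * t) * x * p⁻¹ * x⁻¹ * t⁻¹ := by group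
      rw [h5, ← c1.eq]
      calc p * x * p⁻¹ * x⁻¹ = (p * x * p⁻¹ * x⁻¹ * t) * t⁻¹ := by group
        _ = (t * (p * x * p⁻¹ * x⁻¹)) * t⁻¹ := by rw [c3.eq]
        _ = t * p * x * p⁻¹ * x⁻¹ * t⁻¹ := by group
    rw [e]
    exact mul_mem (E.Q_conj p (E.P_le hp) (E.P_t p hp) _ h1) (inv_mem h1)
  have hf : ∀ p ∈ P, ∀ q ∈ P, (p * q) * x * (p * q)⁻¹ = (q * p) * x * (q * p)⁻¹ := by
    intro p hp q hq
    have key : ∀ a ∈ P, ∀ b ∈ P, (a * b) * x * (a * b)⁻¹ * x⁻¹ =
        (b * x * b⁻¹ * x⁻¹) * (a * x * a⁻¹ * x⁻¹) := by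
      intro a ha b hb
      have h5 := E.Z_P _ (hz b hb) a ha
      calc (a * b) * x * (a * b)⁻¹ * x⁻¹
          = (a * (b * x * b⁻¹ * x⁻¹)) * (x * a⁻¹ * x⁻¹) := by group
        _ = ((b * x * b⁻¹ * x⁻¹) * a) * (x * a⁻¹ * x⁻¹) := by rw [h5]
        _ = (b * x * b⁻¹ * x⁻¹) * (a * x * a⁻¹ * x⁻¹) := by group
    have h6 := key p hp q hq
    rw [E.Z_comm _ (hz q hq) _ (hz p hp), ← key q hq p hp] at h6
    exact mul_right_cancel h6
  have h7 : ⁅P, P⁆ ≤ centralizer ({x} : Set G) := by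
    rw [commutator_le]
    intro p hp q hq
    rw [mem_centralizer_singleton_iff, commutatorElement_def]
    have h8 := hf p⁻¹ (inv_mem hp) q⁻¹ (inv_mem hq)
    calc p * q * p⁻¹ * q⁻¹ * x
        = (p * q) * ((p⁻¹ * q⁻¹) * x * (p⁻¹ * q⁻¹)⁻¹) * (p⁻¹ * q⁻¹) := by group
      _ = (p * q) * ((q⁻¹ * p⁻¹) * x * (q⁻¹ * p⁻¹)⁻¹) * (p⁻¹ * q⁻¹) := by rw [h8]
      _ = x * (p * q * p⁻¹ * q⁻¹) := by group
  rw [E.P_perf] at h7
  intro p hp
  exact mem_centralizer_singleton_iff.1 (h7 hp)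

/-- `C_{F0}(t) = Q`. -/
theorem fix_iff [Finite G] (E : Env H F0 P Q Z t) (x : G) : x ∈ F0 ∧ x * t = t * x ↔ x ∈ Q := by
  constructor
  · intro hx
    rcases E.N_sub x (mem_N.2 hx) with h | h
    · exact h
    · exfalso
      apply E.not_mem
      have h1 : t * x ∈ F0 := (mem_N.1 (E.Q_le_N h)).1
      have e : t = t * x * x⁻¹ := by group
      rw [e]
      exact mul_mem h1 (inv_mem hx.1)
  · intro hx
    exact mem_N.1 (E.Q_le_N hx)

/-- (6) `F0 = Qs`. -/
theorem eq_of [Finite G] (E : Env H F0 P Q Z t) {Qs : Subgroup G}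
    (hgen : ∀ F : Subgroup G, Q ≤ F → (∀ h ∈ H, ∀ x ∈ F, h * x * h⁻¹ ∈ F) → Qs ≤ F)
    (hQ : Q ≤ Qs) (ht : ∀ x ∈ Qs, t * x * t ∈ Qs)
    (hconj : ∀ x ∈ Qs, t * x * (t * x) = 1 → ∃ y ∈ Qs, y * t * y⁻¹ = t * x) : F0 = Qs := by
  have hle : Qs ≤ F0 := hgen F0 (fun x hx => (mem_N.1 (E.Q_le_N hx)).1) E.F_conj
  have htn : ∀ x ∈ F0, t * x * t ∈ F0 := by
    intro x hx
    have := E.F_conj t E.t_mem x hx
    rwa [E.tinv] at this
  exact eq_of_free E.F_two E.tt E.not_mem htn hle ht hconj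
    (fun x hx hxt => hQ ((E.fix_iff x).1 ⟨hx, hxt⟩))

end Env

/-- The doubled long root groups of `Q` (helper53, #9297): `A i ≤ Q` (all the long root groups in `Q`, or enough of
them), `WA i` the double of `A i`, `W` the double of `Z`. -/
structure Fam (H Q Z W : Subgroup G) (t : G) {ι : Type*} (A WA : ι → Subgroup G) : Prop where
  /-- every `H`-invariant subgroup containing `Q` contains `W` and the `WA i` -/
  gen : ∀ F : Subgroup G, Q ≤ F → (∀ h ∈ H, ∀ x ∈ F, h * x * h⁻¹ ∈ F) → W ≤ F ∧ ∀ i, WA i ≤ F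
  A_le : ∀ i, A i ≤ WA i
  Q_le : Q ≤ Z ⊔ ⨆ i, A i
  brk : ∀ i, ∀ w ∈ WA i, w⁻¹ * (t * w * t) ∈ A i
  onto : ∀ i, ∀ a ∈ A i, ∃ w ∈ WA i, w⁻¹ * (t * w * t) = a
  comm : ∀ i j, ∀ x ∈ WA i, ∀ y ∈ WA j, ⁅x, y⁆ ∈ W
  sq : ∀ i, ∀ x ∈ WA i, x * x ∈ W
  Z_le : Z ≤ W
  W_t : ∀ w ∈ W, t * w * t ∈ W
  W_fix : ∀ w ∈ W, w * t = t * w → w ∈ Z
  W_onto : ∀ z ∈ Z, ∃ w ∈ W, w⁻¹ * (t * w * t) = z
  W_comm : ∀ w ∈ W, ∀ x ∈ W, w * x = x * w
  W_sq : ∀ w ∈ W, w * w = 1
  W_cent : ∀ w ∈ W, ∀ i, ∀ x ∈ WA i, w * x = x * w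

namespace Fam

variable {H Q Z W : Subgroup G} {t : G} {ι : Type*} {A WA : ι → Subgroup G}

/-- The doubled group `Q**`. -/
def D (W : Subgroup G) (WA : ι → Subgroup G) : Subgroup G := W ⊔ ⨆ i, WA i

theorem W_le : W ≤ D W WA := le_sup_left

theorem WA_le (i : ι) : WA i ≤ D W WA := (le_iSup WA i).trans le_sup_right

theorem W_central (S : Fam H Q Z W t A WA) : ∀ w ∈ W, ∀ x ∈ D W WA, w * x = x * w := by
  intro w hw
  have h : D W WA ≤ centralizer ({w} : Set G) := by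
    apply sup_le
    · intro x hx
      rw [mem_centralizer_singleton_iff]
      exact S.W_comm x hx w hw
    · apply iSup_le
      intro i x hx
      rw [mem_centralizer_singleton_iff]
      exact (S.W_cent w hw i x hx).symm
  intro x hx
  exact (mem_centralizer_singleton_iff.1 (h hx)).symm

/-- For `x ∈ D` the elements `y ∈ D` with `⁅x, y⁆ ∈ W` form a subgroup. -/
theorem comm_aux (S : Fam H Q Z W t A WA) (x : G) (hx : x ∈ D W WA)
    (h : ∀ i, ∀ y ∈ WA i, ⁅x, y⁆ ∈ W) : ∀ y ∈ D W WA, ⁅x, y⁆ ∈ W := by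
  have key : D W WA ≤ D W WA ⊓ (D W WA) := le_inf le_rfl le_rfl
  let M : Subgroup G :=
    { carrier := {y | y ∈ D W WA ∧ ⁅x, y⁆ ∈ W}
      one_mem' := ⟨one_mem _, by rw [commutatorElement_one_right]; exact one_mem _⟩
      mul_mem' := by
        rintro a b ⟨ha, ha'⟩ ⟨hb, hb'⟩
        refine ⟨mul_mem ha hb, ?_⟩
        have e : ⁅x, a * b⁆ = ⁅x, a⁆ * (a * ⁅x, b⁆ * a⁻¹) := by
          simp only [commutatorElement_def]; group
        have e2 : a * ⁅x, b⁆ * a⁻¹ = ⁅x, b⁆ := by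
          rw [← S.W_central _ hb' a ha]; group
        rw [e, e2]
        exact mul_mem ha' hb'
      inv_mem' := by
        rintro a ⟨ha, ha'⟩
        refine ⟨inv_mem ha, ?_⟩
        have e : ⁅x, a⁻¹⁆ = a⁻¹ * ⁅x, a⁆⁻¹ * a := by
          simp only [commutatorElement_def]; group
        have e2 : a⁻¹ * ⁅x, a⁆⁻¹ * a = ⁅x, a⁆⁻¹ := by
          have := S.W_central _ (inv_mem ha') a ha
          rw [mul_assoc, this]; group
        rw [e, e2]
        exact inv_mem ha' }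
  have hM : D W WA ≤ M := by
    apply sup_le
    · intro w hw
      refine ⟨W_le hw, ?_⟩
      have : ⁅x, w⁆ = 1 := by
        rw [commutatorElement_eq_one_iff_mul_comm]
        exact (S.W_central w hw x hx).symm
      rw [this]; exact one_mem _
    · apply iSup_le
      intro i y hy
      exact ⟨WA_le i hy, h i y hy⟩
  intro y hy
  exact (hM hy).2

theorem comm_mem (S : Fam H Q Z W t A WA) : ∀ x ∈ D W WA, ∀ y ∈ D W WA, ⁅x, y⁆ ∈ W := by
  have h1 : ∀ i, ∀ x ∈ WA i, ∀ y ∈ D W WA, ⁅x, y⁆ ∈ W := fun i x hx =>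
    S.comm_aux x (WA_le i hx) (fun j y hy => S.comm i j x hx y hy)
  intro x hx
  apply S.comm_aux x hx
  intro i y hy
  have h2 := h1 i y hy x hx
  rw [← commutatorElement_inv]
  exact inv_mem h2

theorem sq_mem (S : Fam H Q Z W t A WA) : ∀ x ∈ D W WA, x * x ∈ W := by
  let M : Subgroup G :=
    { carrier := {y | y ∈ D W WA ∧ y * y ∈ W}
      one_mem' := ⟨one_mem _, by rw [one_mul]; exact one_mem _⟩
      mul_mem' := by
        rintro a b ⟨ha, ha'⟩ ⟨hb, hb'⟩
        refine ⟨mul_mem ha hb, ?_⟩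
        have e : a * b * (a * b) = (a * a) * (a⁻¹ * (b * a * b⁻¹)) * (b * b) := by group
        have e2 : a⁻¹ * (b * a * b⁻¹) = ⁅a⁻¹, b⁆ := by
          simp only [commutatorElement_def]; group
        rw [e, e2]
        exact mul_mem (mul_mem ha' (S.comm_mem _ (inv_mem ha) _ hb)) hb'
      inv_mem' := by
        rintro a ⟨ha, ha'⟩
        refine ⟨inv_mem ha, ?_⟩
        have e : a⁻¹ * a⁻¹ = (a * a)⁻¹ := by group
        rw [e]; exact inv_mem ha' }
  have hM : D W WA ≤ M := by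
    apply sup_le
    · intro w hw
      exact ⟨W_le hw, by rw [S.W_sq w hw]; exact one_mem _⟩
    · apply iSup_le
      intro i y hy
      exact ⟨WA_le i hy, S.sq i y hy⟩
  intro x hx
  exact (hM hx).2

theorem D_t (S : Fam H Q Z W t A WA) (tt : t * t = 1) : ∀ x ∈ D W WA, t * x * t ∈ D W WA := by
  let M : Subgroup G :=
    { carrier := {y | t * y * t ∈ D W WA}
      one_mem' := by
        show t * 1 * t ∈ D W WA
        rw [mul_one, tt]; exact one_mem _
      mul_mem' := by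
        intro a b ha hb
        show t * (a * b) * t ∈ D W WA
        have e : t * (a * b) * t = (t * a * t) * (t * b * t) := by
          calc t * (a * b) * t = t * a * 1 * b * t := by group
            _ = t * a * (t * t) * b * t := by rw [tt]
            _ = (t * a * t) * (t * b * t) := by group
        rw [e]; exact mul_mem ha hb
      inv_mem' := by
        intro a ha
        show t * a⁻¹ * t ∈ D W WA
        have tinv : t⁻¹ = t := inv_eq_of_mul_eq_one_left tt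
        have e : t * a⁻¹ * t = (t * a * t)⁻¹ := by
          rw [mul_inv_rev, mul_inv_rev, tinv, mul_assoc]
        rw [e]; exact inv_mem ha }
  have hM : D W WA ≤ M := by
    apply sup_le
    · intro w hw
      exact W_le (S.W_t w hw)
    · apply iSup_le
      intro i y hy
      show t * y * t ∈ D W WA
      have h1 := S.A_le i (S.brk i y hy)
      have e : t * y * t = y * (y⁻¹ * (t * y * t)) := by group
      rw [e]
      exact WA_le i (mul_mem hy h1)
  intro x hx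
  exact hM hx

theorem Q_le_D (S : Fam H Q Z W t A WA) : Q ≤ D W WA :=
  S.Q_le.trans (sup_le (S.Z_le.trans W_le) (iSup_le fun i => (S.A_le i).trans (WA_le i)))

/-- every element of `Q` is a commutator `[d, t]` modulo `W`. -/
theorem onto_D (S : Fam H Q Z W t A WA) (tt : t * t = 1) :
    ∀ x ∈ Q, ∃ d ∈ D W WA, ∃ w ∈ W, d⁻¹ * (t * d * t) = x * w := by
  have tinv : t⁻¹ = t := inv_eq_of_mul_eq_one_left tt
  have hδ : ∀ a ∈ D W WA, a⁻¹ * (t * a * t) ∈ D W WA := fun a ha =>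
    mul_mem (inv_mem ha) (S.D_t tt a ha)
  let M : Subgroup G :=
    { carrier := {x | x ∈ D W WA ∧ ∃ d ∈ D W WA, ∃ w ∈ W, d⁻¹ * (t * d * t) = x * w}
      one_mem' := ⟨one_mem _, 1, one_mem _, 1, one_mem _, by rw [mul_one t, tt]; group⟩
      mul_mem' := by
        rintro a b ⟨ha, d, hd, w, hw, hdw⟩ ⟨hb, e, he, v, hv, hev⟩
        refine ⟨mul_mem ha hb, d * e, mul_mem hd he, ?_⟩
        have h1 : (d * e)⁻¹ * (t * (d * e) * t) =
            (e⁻¹ * (d⁻¹ * (t * d * t)) * e) * (e⁻¹ * (t * e * t)) := by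
          calc (d * e)⁻¹ * (t * (d * e) * t) = e⁻¹ * d⁻¹ * t * d * 1 * e * t := by group
            _ = e⁻¹ * d⁻¹ * t * d * (t * t) * e * t := by rw [tt]
            _ = (e⁻¹ * (d⁻¹ * (t * d * t)) * e) * (e⁻¹ * (t * e * t)) := by group
        have h2 : e⁻¹ * (a * w) * e = a * (⁅a⁻¹, e⁻¹⁆ * w) := by
          have hc := S.W_central w hw e he
          calc e⁻¹ * (a * w) * e = e⁻¹ * a * (w * e) := by group
            _ = e⁻¹ * a * (e * w) := by rw [hc]
            _ = a * (⁅a⁻¹, e⁻¹⁆ * w) := by simp only [commutatorElement_def]; group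
        have h3 : ⁅a⁻¹, e⁻¹⁆ * w ∈ W := mul_mem (S.comm_mem _ (inv_mem ha) _ (inv_mem he)) hw
        refine ⟨⁅a⁻¹, e⁻¹⁆ * w * v, mul_mem h3 hv, ?_⟩
        rw [h1, hdw, hev, h2]
        have hc := S.W_central _ h3 b hb
        calc a * (⁅a⁻¹, e⁻¹⁆ * w) * (b * v) = a * ((⁅a⁻¹, e⁻¹⁆ * w) * b) * v := by group
          _ = a * (b * (⁅a⁻¹, e⁻¹⁆ * w)) * v := by rw [hc]
          _ = a * b * (⁅a⁻¹, e⁻¹⁆ * w * v) := by group
      inv_mem' := by
        rintro a ⟨ha, d, hd, w, hw, hdw⟩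
        refine ⟨inv_mem ha, d⁻¹, inv_mem hd, ?_⟩
        -- `δ(d⁻¹) = d (t d⁻¹ t) = d (d δ(d))⁻¹ = d δ(d)⁻¹ d⁻¹`
        have h1 : d⁻¹⁻¹ * (t * d⁻¹ * t) = d * (d⁻¹ * (t * d * t))⁻¹ * d⁻¹ := by
          have e : t * d⁻¹ * t = (t * d * t)⁻¹ := by
            rw [mul_inv_rev, mul_inv_rev, tinv, mul_assoc]
          rw [e]; group
        have hwi := S.W_central _ (inv_mem hw) _ (inv_mem ha)
        refine ⟨⁅a, d⁆ * w⁻¹, mul_mem (S.comm_mem _ ha _ hd) (inv_mem hw), ?_⟩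
        rw [h1, hdw]
        have hc := S.W_central _ (inv_mem hw) d hd
        calc d * (a * w)⁻¹ * d⁻¹ = d * (w⁻¹ * a⁻¹) * d⁻¹ := by rw [mul_inv_rev]
          _ = d * (a⁻¹ * w⁻¹) * d⁻¹ := by rw [hwi]
          _ = d * a⁻¹ * (w⁻¹ * d⁻¹) := by group
          _ = d * a⁻¹ * (d⁻¹ * w⁻¹) := by
              rw [S.W_central _ (inv_mem hw) _ (inv_mem hd)]
          _ = a⁻¹ * (⁅a, d⁆ * w⁻¹) := by simp only [commutatorElement_def]; group }
  have hQM : Q ≤ M := by
    refine S.Q_le.trans (sup_le ?_ (iSup_le ?_))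
    · intro z hz
      refine ⟨W_le (S.Z_le hz), 1, one_mem _, z⁻¹, inv_mem (S.Z_le hz), ?_⟩
      rw [mul_one t, tt]; group
    · intro i a ha
      obtain ⟨w, hw, hwa⟩ := S.onto i a ha
      exact ⟨WA_le i (S.A_le i ha), w, WA_le i hw, 1, one_mem _, by rw [hwa, mul_one]⟩
  intro x hx
  exact (hQM hx).2

/-- all involutions of `t W` are conjugate to `t` under `W`. -/
theorem conj_W (S : Fam H Q Z W t A WA) (tt : t * t = 1) :
    ∀ w ∈ W, t * w * (t * w) = 1 → ∃ y ∈ W, y * t * y⁻¹ = t * w := by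
  intro w hw h
  have tinv : t⁻¹ = t := inv_eq_of_mul_eq_one_left tt
  have winv : w⁻¹ = w := inv_eq_of_mul_eq_one_left (S.W_sq w hw)
  have h1 : w * t = t * w := by
    have : t * w = (t * w)⁻¹ := eq_inv_of_mul_eq_one_left h
    rw [mul_inv_rev, tinv, winv] at this
    exact this.symm
  obtain ⟨v, hv, hvw⟩ := S.W_onto w (S.W_fix w hw h1)
  refine ⟨v⁻¹, inv_mem hv, ?_⟩
  calc v⁻¹ * t * v⁻¹⁻¹ = v⁻¹ * (t * v * t) * t⁻¹ := by group
    _ = w * t := by rw [hvw, tinv]
    _ = t * w := h1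

/-- all involutions of `t D` are conjugate to `t` under `D`. -/
theorem conj_D (S : Fam H Q Z W t A WA) (tt : t * t = 1)
    (hfix : ∀ x ∈ D W WA, x * t = t * x → x ∈ Q) :
    ∀ x ∈ D W WA, t * x * (t * x) = 1 → ∃ y ∈ D W WA, y * t * y⁻¹ = t * x := by
  intro f hf h
  have tinv : t⁻¹ = t := inv_eq_of_mul_eq_one_left tt
  -- `[f, t] = f⁻¹ f^t = f⁻² ∈ W`
  have h1 : t * f * t = f⁻¹ := by
    have : t * f * t * f = 1 := by rw [← h]; group
    exact eq_inv_of_mul_eq_one_left this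
  -- `f ∈ Q W`
  have h2 : f⁻¹ * (t * f * t) ∈ W := by
    rw [h1]
    have e : f⁻¹ * f⁻¹ = (f * f)⁻¹ := by group
    rw [e]; exact inv_mem (S.sq_mem f hf)
  have h3 : (f⁻¹ * (t * f * t)) * t = t * (f⁻¹ * (t * f * t)) := by
    have hw := S.W_sq _ h2
    have h4 : t * (f⁻¹ * (t * f * t)) * t = (f⁻¹ * (t * f * t))⁻¹ := by
      have e : t * f⁻¹ * t = (t * f * t)⁻¹ := by
        rw [mul_inv_rev, mul_inv_rev, tinv, mul_assoc]
      calc t * (f⁻¹ * (t * f * t)) * t = (t * f⁻¹ * t) * f * (t * t) := by group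
        _ = (t * f * t)⁻¹ * f := by rw [e, tt, mul_one]
        _ = (f⁻¹ * (t * f * t))⁻¹ := by group
    have h5 : (f⁻¹ * (t * f * t))⁻¹ = f⁻¹ * (t * f * t) := inv_eq_of_mul_eq_one_left hw
    rw [h5] at h4
    calc (f⁻¹ * (t * f * t)) * t = (t * (f⁻¹ * (t * f * t)) * t) * t := by rw [h4]
      _ = t * (f⁻¹ * (t * f * t)) * (t * t) := by group
      _ = t * (f⁻¹ * (t * f * t)) := by rw [tt, mul_one]
  obtain ⟨v, hv, hvw⟩ := S.W_onto _ (S.W_fix _ h2 h3)
  -- `f v⁻¹ ∈ C(t)`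
  have h6 : (f * v⁻¹) * t = t * (f * v⁻¹) := by
    have e : t * v⁻¹ * t = (t * v * t)⁻¹ := by
      rw [mul_inv_rev, mul_inv_rev, tinv, mul_assoc]
    have hcomm : v * (f⁻¹ * (t * f * t)) = (f⁻¹ * (t * f * t)) * v := S.W_comm _ hv _ h2
    have e2 : t * (f * v⁻¹) * t = f * v⁻¹ := by
      have e3 : t * v * t = v * (f⁻¹ * (t * f * t)) := by rw [← hvw]; group
      calc t * (f * v⁻¹) * t = t * f * 1 * v⁻¹ * t := by group
        _ = t * f * (t * t) * v⁻¹ * t := by rw [tt]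
        _ = (t * f * t) * (t * v⁻¹ * t) := by group
        _ = (t * f * t) * (v * (f⁻¹ * (t * f * t)))⁻¹ := by rw [e, e3]
        _ = (t * f * t) * ((f⁻¹ * (t * f * t)) * v)⁻¹ := by rw [hcomm]
        _ = (t * f * t) * v⁻¹ * (t * f * t)⁻¹ * f := by group
        _ = f * v⁻¹ := by
            -- `v` is central in `D`
            have c1 := S.W_central _ (inv_mem hv) _ (S.D_t tt f hf)
            have c2 := S.W_central _ (inv_mem hv) f hf
            rw [← c1]
            calc v⁻¹ * (t * f * t) * (t * f * t)⁻¹ * f = v⁻¹ * f := by group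
              _ = f * v⁻¹ := c2
    calc (f * v⁻¹) * t = (t * (f * v⁻¹) * t) * t := by rw [e2]
      _ = t * (f * v⁻¹) * (t * t) := by group
      _ = t * (f * v⁻¹) := by rw [tt, mul_one]
  have h7 : f * v⁻¹ ∈ Q := hfix _ (mul_mem hf (inv_mem (W_le hv))) h6
  obtain ⟨d, hd, w, hw, hdw⟩ := S.onto_D tt _ h7
  have h8 : d⁻¹ * t * d = f * (v⁻¹ * w) * t := by
    calc d⁻¹ * t * d = d⁻¹ * (t * d * t) * t⁻¹ := by group
      _ = f * (v⁻¹ * w) * t := by rw [hdw, tinv, mul_assoc f]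
  -- `t f = (d⁻¹ t d) c`
  have hc3 : (v⁻¹ * w)⁻¹ * (f * f)⁻¹ ∈ W :=
    mul_mem (inv_mem (mul_mem (inv_mem hv) hw)) (inv_mem (S.sq_mem f hf))
  have hc : t * ((v⁻¹ * w)⁻¹ * (f * f)⁻¹) * t ∈ W := S.W_t _ hc3
  have h9 : t * f = (d⁻¹ * t * d) * (t * ((v⁻¹ * w)⁻¹ * (f * f)⁻¹) * t) := by
    rw [h8]
    calc t * f = (t * f * t) * t⁻¹ := by group
      _ = f⁻¹ * t := by rw [h1, tinv]
      _ = f * (f * f)⁻¹ * t := by group
      _ = f * ((v⁻¹ * w) * ((v⁻¹ * w)⁻¹ * (f * f)⁻¹)) * t := by group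
      _ = f * (v⁻¹ * w) * (t * t) * ((v⁻¹ * w)⁻¹ * (f * f)⁻¹) * t := by rw [tt]; group
      _ = f * (v⁻¹ * w) * t * (t * ((v⁻¹ * w)⁻¹ * (f * f)⁻¹) * t) := by group
  set c := t * ((v⁻¹ * w)⁻¹ * (f * f)⁻¹) * t with hcdef
  have h10 : t * c = d * (t * f) * d⁻¹ := by
    rw [h9]
    calc t * c = t * (c * (d * d⁻¹)) := by group
      _ = t * ((c * d) * d⁻¹) := by group
      _ = t * ((d * c) * d⁻¹) := by rw [S.W_central c hc d hd]
      _ = d * (d⁻¹ * t * d * c) * d⁻¹ := by group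
  have h11 : t * c * (t * c) = 1 := by
    rw [h10]
    calc d * (t * f) * d⁻¹ * (d * (t * f) * d⁻¹) = d * (t * f * (t * f)) * d⁻¹ := by group
      _ = 1 := by rw [h]; group
  obtain ⟨y, hy, hyt⟩ := S.conj_W tt c hc h11
  refine ⟨d⁻¹ * y, mul_mem (inv_mem hd) (W_le hy), ?_⟩
  calc d⁻¹ * y * t * (d⁻¹ * y)⁻¹ = d⁻¹ * (y * t * y⁻¹) * d := by group
    _ = d⁻¹ * (d * (t * f) * d⁻¹) * d := by rw [hyt, h10]
    _ = t * f := by group

end Fam

namespace Env

variable {H F0 P Q Z : Subgroup G} {t : G}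

/-- (6') of helper53: `O_2(H) = Q**` from the doubled long root groups only. -/
theorem eq_D [Finite G] (E : Env H F0 P Q Z t) {ι : Type*} {W : Subgroup G} {A WA : ι → Subgroup G}
    (S : Fam H Q Z W t A WA) : F0 = Fam.D W WA := by
  have hQF : Q ≤ F0 := fun x hx => (mem_N.1 (E.Q_le_N hx)).1
  have hDF : Fam.D W WA ≤ F0 := by
    obtain ⟨h1, h2⟩ := S.gen F0 hQF E.F_conj
    exact sup_le h1 (iSup_le h2)
  apply E.eq_of (Qs := Fam.D W WA)
  · intro F hF hFc
    obtain ⟨h1, h2⟩ := S.gen F hF hFc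
    exact sup_le h1 (iSup_le h2)
  · exact S.Q_le_D
  · exact S.D_t E.tt
  · exact S.conj_D E.tt (fun x hx hxt => (E.fix_iff x).1 ⟨hDF hx, hxt⟩)

/-- `Z(O_2(H)) = W`. -/
theorem center_iff [Finite G] (E : Env H F0 P Q Z t) {ι : Type*} {W : Subgroup G}
    {A WA : ι → Subgroup G} (S : Fam H Q Z W t A WA)
    (ZQ : ∀ x ∈ Q, (∀ y ∈ Q, x * y = y * x) → x ∈ Z) (x : G) :
    x ∈ F0 ∧ (∀ y ∈ F0, x * y = y * x) ↔ x ∈ W := by
  have hF := E.eq_D S
  have hWF : W ≤ F0 := by rw [hF]; exact Fam.W_le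
  have hQF : Q ≤ F0 := fun x hx => (mem_N.1 (E.Q_le_N hx)).1
  constructor
  swap
  · intro hx
    refine ⟨hWF hx, ?_⟩
    intro y hy
    rw [hF] at hy
    exact S.W_central x hx y hy
  · intro hx
    have key : F0 ⊓ centralizer (F0 : Set G) = W := by
      apply eq_of_free (t := t) (E.F_two.to_le inf_le_left) E.tt (fun h => E.not_mem h.1)
      · intro y hy'
        obtain ⟨hy, hyc⟩ := mem_inf.1 hy'
        have htn : ∀ x ∈ F0, t * x * t ∈ F0 := by
          intro x hx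
          have := E.F_conj t E.t_mem x hx
          rwa [E.tinv] at this
        refine mem_inf.2 ⟨htn y hy, ?_⟩
        rw [mem_centralizer_iff] at hyc ⊢
        intro u hu
        have h1 := hyc _ (htn u hu)
        calc u * (t * y * t) = (t * t) * u * t * y * t := by rw [E.tt, one_mul]; group
          _ = t * ((t * u * t) * y) * t := by group
          _ = t * (y * (t * u * t)) * t := by rw [h1]
          _ = t * y * t * u * (t * t) := by group
          _ = t * y * t * u := by rw [E.tt, mul_one]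
      · intro w hw
        refine mem_inf.2 ⟨hWF hw, ?_⟩
        rw [mem_centralizer_iff]
        intro u hu
        rw [SetLike.mem_coe, hF] at hu
        exact (S.W_central w hw u hu).symm
      · exact S.W_t
      · exact S.conj_W E.tt
      · intro y hy' hyt
        obtain ⟨hy, hyc⟩ := mem_inf.1 hy'
        rw [mem_centralizer_iff] at hyc
        have h1 : y ∈ Q := (E.fix_iff y).1 ⟨hy, hyt⟩
        exact S.Z_le (ZQ y h1 (fun u hu => (hyc u (hQF hu)).symm))
    rw [← key]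
    exact ⟨hx.1, mem_centralizer_iff.2 (fun y hy => (hx.2 y hy).symm)⟩

/-- `H` normalises `W`. -/
theorem W_conj [Finite G] (E : Env H F0 P Q Z t) {ι : Type*} {W : Subgroup G}
    {A WA : ι → Subgroup G} (S : Fam H Q Z W t A WA)
    (ZQ : ∀ x ∈ Q, (∀ y ∈ Q, x * y = y * x) → x ∈ Z) : ∀ h ∈ H, ∀ w ∈ W, h * w * h⁻¹ ∈ W := by
  intro h hh w hw
  rw [← E.center_iff S ZQ] at hw ⊢
  refine ⟨E.F_conj h hh w hw.1, ?_⟩
  intro y hy
  have h1 : h⁻¹ * y * h ∈ F0 := by
    have := E.F_conj h⁻¹ (inv_mem hh) y hy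
    rwa [inv_inv] at this
  have h2 := hw.2 _ h1
  calc h * w * h⁻¹ * y = h * (w * (h⁻¹ * y * h)) * h⁻¹ := by group
    _ = h * ((h⁻¹ * y * h) * w) * h⁻¹ := by rw [h2]
    _ = y * (h * w * h⁻¹) := by group

end Env

end Cfsg.Agent.OddHalf.D7Out.CzTwo
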