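import Cfsg.Agent.OddHalf.D7Out.MainSL
import Cfsg.Agent.OddHalf.D7An.LocOf

/-!
# `L_{n+1}(2)`, `n ≥ 4`: existence of the doubled root group (helper875; `LocOf` of helper991, `KTwo` of helper57)

`hasEx` : `HasEx D e t v` for every datum of `K ≅ PSL_{n+1}(F)`, `|F| = 2`, with the standard root groups.
-/

set_option autoImplicit false
set_option linter.unusedSectionVars false

namespace Cfsg.Agent.OddHalf.D7Out.ExA2

open Matrix CoxeterSystem Cfsg.Agent.ChevalleyStructure.CoxeterGeom Cfsg.Agent.Tits.Roots Cfsg.Agent.Tits.Core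
  Cfsg.Agent.Tits.RootComb Cfsg.Agent.Nodes.Reps Cfsg.Agent.Nodes.BNOf Cfsg.Agent.Nodes.Coroot
  Cfsg.Agent.Nodes.RootsA Cfsg.Agent.Nodes.RGDTypeA
  Cfsg.Agent.OddHalf.SL.Index Cfsg.Agent.OddHalf.SL.OfRGD Cfsg.Agent.KFacts.SLRow.Def
  Cfsg.Agent.OddHalf.D7Ex Cfsg.Agent.OddHalf.SL.PreOf Cfsg.Agent.OddHalf.SL Cfsg.Agent.OddHalf.D7Out.MainSL
  Cfsg.Agent.OddHalf.D7An.LocOf
open Cfsg.Agent.LieRecognition.BNCox (cA)

variable {n : ℕ} {F : Type*} [Field F] {W : Type*} [Group W] {cs : CoxeterSystem (cA n) W}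
  {A : Fin n → Fin n → ℤ} {h : IsCartan (cA n) A} {G : Type*} [Group G] {K : Subgroup G} {t : G}

/-- every root orthogonal to `r` has a neighbour orthogonal to `r` -/
theorem hirr [Finite W] (cs : CoxeterSystem (cA n) W) (h : IsCartan (cA n) A) (hn : 4 ≤ n) (r : Fin n → ℤ) (hr : IsRoot cs h r) (b : Fin n → ℤ) (hb : IsRoot cs h b) (h0 : Bf A b r = 0) :
    ∃ d, IsRoot cs h d ∧ Bf A d r = 0 ∧ Bf A b d = 1 := by
  obtain ⟨x, y, hxy, rfl⟩ := exists_of_isRoot cs h hr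
  obtain ⟨i, j, hij, rfl⟩ := exists_of_isRoot cs h hb
  obtain ⟨k, hk1, hk2, hk3, hk4⟩ := exists_avoid hn x y i j
  rw [bf_rtA cs h i j hxy] at h0
  have hd : i ≠ x ∧ i ≠ y ∧ j ≠ x ∧ j ≠ y := by
    simp only [Fin.ext_iff, ne_eq] at *
    split_ifs at h0 <;> omega
  refine ⟨rtA i k, isRoot_rtA cs h hk3.symm, ?_, ?_⟩
  · rw [bf_rtA cs h i k hxy, if_neg hd.1, if_neg hd.2.1, if_neg hk1, if_neg hk2]
    norm_num
  · rw [bf_rtA cs h i j hk3.symm, if_pos rfl, if_neg hk3.symm, if_neg hij.symm, if_neg hk4.symm]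
    norm_num

theorem aux [Finite W] [Finite G] (hF : ∀ x : F, x = 0 ∨ x = 1) (hn : 4 ≤ n)
    {e : ProjectiveSpecialLinearGroup (Fin (n + 1)) F →* G} (he : Function.Injective e) (heK : ∀ g, e g ∈ K)
    {T : Subgroup G} {n' : Fin n → G} {X : (Fin n → ℤ) → Subgroup G} (hX : X = XG e)
    (D : Datum K 2 cs h T n' X) (C : KFull.CT t K) {ρ : Fin n → ℤ} (hρ : IsRoot cs h ρ) {m z : G}
    (hz : z ∈ X ρ) (hz1 : z ≠ 1) (mt : m * t * m⁻¹ = t * z) (mz : m⁻¹ * z * m ∈ X ρ) :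
    ∃ V, Base0.Base0 D.rgd t ρ V := by
  subst hX
  obtain ⟨a, b, hab, rfl⟩ := exists_of_isRoot cs h hρ
  have Fl : KTwo.Fl t K := ⟨C.tt, C.tK, C.Kt, C.nrm, C.cK⟩
  have KR := KTwo.krTwo D Fl (fun P h1 h2 => C.perf P (fun x hx =>
    Subgroup.mem_centralizer_singleton_iff.2 (h1 x hx)) h2) hρ fun b hb h0 => hirr cs h hn _ hρ b hb h0
  have hmz : m⁻¹ * z * m = z := by
    refine KTwo.eq_of_ne D hρ mz hz (fun h1 => hz1 ?_) hz1
    calc z = m * (m⁻¹ * z * m) * m⁻¹ := by group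
      _ = 1 := by rw [h1]; group
  have hX : ∀ x ∈ XG e (rtA a b), m * x * m⁻¹ ∈ XG e (rtA a b) := by
    intro x hx
    by_cases hx1 : x = 1
    · rw [hx1, mul_one, mul_inv_cancel]; exact one_mem _
    · rw [KTwo.eq_of_ne D hρ hx hz hx1 hz1]
      have h1 : m * z * m⁻¹ = z := by
        calc m * z * m⁻¹ = m * (m⁻¹ * z * m) * m⁻¹ := by rw [hmz]
          _ = z := by group
      rw [h1]; exact hz
  obtain ⟨V, O, -, -⟩ := exists_two cs h hF hn he (t := t) (fun g => (C.Kt _ (heK g)).symm) hab KR hX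
    (by rw [mt, ← mul_assoc, C.tt, one_mul]; exact hz) (by rw [mt]; exact fun h => hz1 (mul_eq_left.1 h))
  exact ⟨V, OutBase.base0 D C hρ O⟩

/-- **Existence for `L_{n+1}(2)`, `n ≥ 4`.** -/
theorem hasEx [Finite W] [Finite G] (hF : ∀ x : F, x = 0 ∨ x = 1) (hn : 4 ≤ n)
    (f : ProjectiveSpecialLinearGroup (Fin (n + 1)) F →* ↥K) (hf : Function.Injective f)
    {T₀ : Subgroup ↥K} {n₀ : Fin n → ↥K}
    (D : Datum (⊤ : Subgroup ↥K) 2 cs h T₀ n₀ (fun x => ((X F x).map (pr n F)).map f))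
    {F' : Type*} [Field F'] {e : (Fin n → ℤ) → F' → ↥K} {v : G} : HasEx D e t v := by
  intro ρ T g m z O C
  refine aux (e := K.subtype.comp f) hF hn (K.subtype_injective.comp hf) (fun g => (f g).2) ?_ (OutBase.dm D) C
    O.root O.zX O.z1 O.mt (OfFront.conj_z O.fr.toFr O.mT O.zX O.zT O.mt)
  funext x
  exact Subgroup.map_map _ _ _

end Cfsg.Agent.OddHalf.D7Out.ExA2
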