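import Mathlib

/-!
# Orders of the groups of Lie type over the field with 3 elements (helper887)

For the order formulas of the families over `F₃` : if `2 ^ m` divides the order `c`, `7 ≤ m`, then `2 ^ (3 m) < c`.
-/

set_option autoImplicit false
set_option linter.style.haveILetI false

namespace Cfsg.Agent.OddHalf.D7Out.ExitNum

open Finset

/-! ### 2-adic values -/

theorem val_even (j : ℕ) (hj : j ≠ 0) : padicValNat 2 (3 ^ (2 * j) - 1) = 3 + padicValNat 2 j := by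
  haveI : Fact (Nat.Prime 2) := ⟨Nat.prime_two⟩
  have h := padicValNat.pow_two_sub_pow (x := 3) (y := 1) (by norm_num) (by norm_num) (by norm_num)
    (n := 2 * j) (by omega) (by simp)
  rw [one_pow, padicValNat.mul (by norm_num) hj, padicValNat.self (by norm_num)] at h
  have h1 : padicValNat 2 (3 + 1) = 2 := by
    rw [show (3 + 1 : ℕ) = 2 ^ 2 by norm_num, padicValNat.prime_pow]
  have h2 : padicValNat 2 (3 - 1) = 1 := by
    rw [show (3 - 1 : ℕ) = 2 by norm_num, padicValNat.self (by norm_num)]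
  omega

/-- the exact 2-adic value from two divisibilities -/
theorem val_eq {n v : ℕ} (h1 : 2 ^ v ∣ n) (h2 : ¬ 2 ^ (v + 1) ∣ n) : padicValNat 2 n = v := by
  haveI : Fact (Nat.Prime 2) := ⟨Nat.prime_two⟩
  have hn : n ≠ 0 := by
    rintro rfl
    exact h2 (dvd_zero _)
  have h3 := (padicValNat_dvd_iff_le hn).mp h1
  have h4 : ¬ v + 1 ≤ padicValNat 2 n := fun h => h2 ((padicValNat_dvd_iff_le hn).mpr h)
  omega

theorem nine_mod (i : ℕ) : 3 ^ (2 * i + 1) % 8 = 3 := by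
  induction i with
  | zero => norm_num
  | succ i ih =>
    rw [show 2 * (i + 1) + 1 = (2 * i + 1) + 2 by ring, pow_add, Nat.mul_mod, ih]
    norm_num

theorem val_odd_sub (i : ℕ) : padicValNat 2 (3 ^ (2 * i + 1) - 1) = 1 := by
  have h := nine_mod i
  generalize 3 ^ (2 * i + 1) = x at h ⊢
  apply val_eq
  · omega
  · intro h1
    rw [show (2 : ℕ) ^ (1 + 1) = 4 by norm_num] at h1
    omega

theorem val_odd_add (i : ℕ) : padicValNat 2 (3 ^ (2 * i + 1) + 1) = 2 := by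
  have h := nine_mod i
  generalize 3 ^ (2 * i + 1) = x at h ⊢
  apply val_eq
  · rw [show (2 : ℕ) ^ 2 = 4 by norm_num]
    omega
  · intro h1
    rw [show (2 : ℕ) ^ (2 + 1) = 8 by norm_num] at h1
    omega

theorem val_even_add (i : ℕ) : padicValNat 2 (3 ^ (2 * i) + 1) = 1 := by
  have h : 3 ^ (2 * i) % 8 = 1 := by
    induction i with
    | zero => norm_num
    | succ i ih =>
      rw [show 2 * (i + 1) = (2 * i) + 2 by ring, pow_add, Nat.mul_mod, ih]
      norm_num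
  generalize 3 ^ (2 * i) = x at h ⊢
  apply val_eq
  · omega
  · intro h1
    rw [show (2 : ℕ) ^ (1 + 1) = 4 by norm_num] at h1
    omega

theorem val_factorial (n : ℕ) (hn : 1 ≤ n) : padicValNat 2 (Nat.factorial n) + 1 ≤ n := by
  haveI : Fact (Nat.Prime 2) := ⟨Nat.prime_two⟩
  have h := sub_one_mul_padicValNat_factorial (p := 2) n
  have h1 : 1 ≤ (Nat.digits 2 n).sum := by
    by_contra hcon
    have h2 : (Nat.digits 2 n).sum = 0 := by omega
    have h3 : n = 0 := by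
      rw [← Nat.ofDigits_digits 2 n]
      have h4 : ∀ d ∈ Nat.digits 2 n, d = 0 := List.sum_eq_zero_iff.mp h2
      have h5 : Nat.digits 2 n = List.replicate (Nat.digits 2 n).length 0 := List.eq_replicate_of_mem h4
      rw [h5]
      exact Nat.ofDigits_replicate_zero
    omega
  omega

/-! ### The products -/

/-- `∏_{j=1}^m (3^(2j) - 1)` -/
def PE (m : ℕ) : ℕ := ∏ i ∈ range m, (3 ^ (2 * (i + 1)) - 1)

theorem three_pow_pos (n : ℕ) : 1 ≤ 3 ^ n := Nat.one_le_pow _ _ (by norm_num)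

theorem factor_pos (n : ℕ) (hn : n ≠ 0) : 3 ^ n - 1 ≠ 0 := by
  have : 3 ^ 1 ≤ 3 ^ n := Nat.pow_le_pow_right (by norm_num) (by omega)
  omega

theorem PE_ne (m : ℕ) : PE m ≠ 0 := by
  rw [PE, Finset.prod_ne_zero_iff]
  intro i _
  exact factor_pos _ (by omega)

theorem PE_succ (m : ℕ) : PE (m + 1) = PE m * (3 ^ (2 * (m + 1)) - 1) := by
  rw [PE, prod_range_succ, ← PE]

theorem val_PE (m : ℕ) : padicValNat 2 (PE m) = 3 * m + padicValNat 2 (Nat.factorial m) := by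
  haveI : Fact (Nat.Prime 2) := ⟨Nat.prime_two⟩
  induction m with
  | zero => simp [PE]
  | succ m ih =>
    rw [PE_succ, padicValNat.mul (PE_ne m) (factor_pos _ (by omega)), ih, val_even _ (by omega),
      Nat.factorial_succ, padicValNat.mul (by omega) (Nat.factorial_ne_zero m)]
    ring

theorem val_PE_le (m : ℕ) (hm : 1 ≤ m) : padicValNat 2 (PE m) + 1 ≤ 4 * m := by
  have h1 := val_PE m
  have h2 := val_factorial m hm
  omega

theorem PE_ge (m : ℕ) : 8 ^ m * 3 ^ (m * (m - 1)) ≤ PE m := by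
  induction m with
  | zero => simp [PE]
  | succ m ih =>
    rw [PE_succ]
    have h1 : 8 * 3 ^ (2 * m) ≤ 3 ^ (2 * (m + 1)) - 1 := by
      have h2 := three_pow_pos (2 * m)
      have h3 : 3 ^ (2 * (m + 1)) = 9 * 3 ^ (2 * m) := by
        rw [show 2 * (m + 1) = 2 * m + 2 by ring, pow_add]
        ring
      omega
    have h4 : 8 ^ (m + 1) * 3 ^ ((m + 1) * (m + 1 - 1)) = (8 ^ m * 3 ^ (m * (m - 1))) * (8 * 3 ^ (2 * m)) := by
      have h5 : (m + 1) * (m + 1 - 1) = m * (m - 1) + 2 * m := by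
        rcases m with _ | m
        · rfl
        · simp only [Nat.add_sub_cancel]
          ring
      rw [h5, pow_add, pow_succ]
      ring
    rw [h4]
    exact Nat.mul_le_mul ih h1

/-! ### The general step -/

/-- `m ≤ v₂(c)` -/
theorem le_val {m c : ℕ} (hc : c ≠ 0) (h : 2 ^ m ∣ c) : m ≤ padicValNat 2 c := by
  haveI : Fact (Nat.Prime 2) := ⟨Nat.prime_two⟩
  exact (padicValNat_dvd_iff_le hc).mp h

/-- `g c = N`, `v₂(N) ≤ v + v₂(g)`, `g 2^(3v) < N`. -/
theorem fam {g c N m v : ℕ} (he : g * c = N) (hN0 : N ≠ 0) (h : 2 ^ m ∣ c)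
    (hv : padicValNat 2 N ≤ v + padicValNat 2 g) (hN : g * 2 ^ (3 * v) < N) : 2 ^ (3 * m) < c := by
  haveI : Fact (Nat.Prime 2) := ⟨Nat.prime_two⟩
  subst he
  have hg : g ≠ 0 := left_ne_zero_of_mul hN0
  have hc : c ≠ 0 := right_ne_zero_of_mul hN0
  rw [padicValNat.mul hg hc] at hv
  have h1 := le_val hc h
  have h2 : m ≤ v := by omega
  have h3 : 2 ^ (3 * v) < c := lt_of_mul_lt_mul_left hN (Nat.zero_le g)
  exact lt_of_le_of_lt (Nat.pow_le_pow_right (by norm_num) (by omega)) h3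

/-- a single group -/
theorem num {g c N m v : ℕ} (he : g * c = N) (h : 2 ^ m ∣ c) (hv : ¬ g * 2 ^ (v + 1) ∣ N)
    (hN : g * 2 ^ (3 * v) < N) : 2 ^ (3 * m) < c := by
  subst he
  have h2 : m ≤ v := by
    by_contra hcon
    exact hv (Nat.mul_dvd_mul_left g ((pow_dvd_pow 2 (by omega)).trans h))
  have h3 : 2 ^ (3 * v) < c := lt_of_mul_lt_mul_left hN (Nat.zero_le g)
  exact lt_of_le_of_lt (Nat.pow_le_pow_right (by norm_num) (by omega)) h3

/-- a single group with a small 2-part -/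
theorem small {g c N m v : ℕ} (he : g * c = N) (h : 2 ^ m ∣ c) (hm : v < m) (hv : ¬ g * 2 ^ (v + 1) ∣ N) :
    False := by
  subst he
  exact hv (Nat.mul_dvd_mul_left g ((pow_dvd_pow 2 (by omega)).trans h))

/-- `2^(3k) ≤ 3^(2k)` -/
theorem two_le_three (k : ℕ) : 2 ^ (3 * k) ≤ 3 ^ (2 * k) := by
  rw [pow_mul, pow_mul]
  exact Nat.pow_le_pow_left (by norm_num) k

/-- `2^a < 3^b` if `2 a < 3 b` -/
theorem two_lt_three {a b : ℕ} (h : 2 * a < 3 * b) : 2 ^ a < 3 ^ b := by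
  have h1 : (2 ^ a) ^ 2 < (3 ^ b) ^ 2 := by
    calc (2 ^ a) ^ 2 = 2 ^ (2 * a) := by rw [← pow_mul, mul_comm]
      _ < 2 ^ (3 * b) := Nat.pow_lt_pow_right (by norm_num) h
      _ ≤ 3 ^ (2 * b) := two_le_three b
      _ = (3 ^ b) ^ 2 := by rw [← pow_mul, mul_comm]
  exact lt_of_pow_lt_pow_left₀ 2 (Nat.zero_le _) h1

/-! ### The families -/

theorem val_three (n : ℕ) : padicValNat 2 (3 ^ n) = 0 := by
  haveI : Fact (Nat.Prime 2) := ⟨Nat.prime_two⟩
  exact padicValNat.eq_zero_of_not_dvd (fun h => absurd (Nat.prime_two.dvd_of_dvd_pow h) (by norm_num))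

theorem val_two_pow (n : ℕ) : padicValNat 2 (2 ^ n) = n := by
  haveI : Fact (Nat.Prime 2) := ⟨Nat.prime_two⟩
  exact padicValNat.prime_pow n

theorem val_four : padicValNat 2 4 = 2 := val_two_pow 2

/-- `∏_{j=1}^n (3^j - 1)` -/
def PL (n : ℕ) : ℕ := ∏ i ∈ range n, (3 ^ (i + 1) - 1)

theorem PL_ne (n : ℕ) : PL n ≠ 0 := by
  rw [PL, Finset.prod_ne_zero_iff]
  intro i _
  exact factor_pos _ (by omega)

theorem PL_succ (n : ℕ) : PL (n + 1) = PL n * (3 ^ (n + 1) - 1) := by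
  rw [PL, prod_range_succ, ← PL]

theorem val_PL_even (k : ℕ) : padicValNat 2 (PL (2 * k)) = 4 * k + padicValNat 2 (Nat.factorial k) := by
  haveI : Fact (Nat.Prime 2) := ⟨Nat.prime_two⟩
  induction k with
  | zero => simp [PL]
  | succ k ih =>
    rw [show 2 * (k + 1) = 2 * k + 1 + 1 by ring, PL_succ, PL_succ,
      padicValNat.mul (mul_ne_zero (PL_ne _) (factor_pos _ (by omega))) (factor_pos _ (by omega)),
      padicValNat.mul (PL_ne _) (factor_pos _ (by omega)), ih, val_odd_sub,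
      show 2 * k + 1 + 1 = 2 * (k + 1) by ring, val_even _ (by omega), Nat.factorial_succ,
      padicValNat.mul (by omega) (Nat.factorial_ne_zero k)]
    ring

theorem val_PL_odd (k : ℕ) : padicValNat 2 (PL (2 * k + 1)) = 4 * k + 1 + padicValNat 2 (Nat.factorial k) := by
  haveI : Fact (Nat.Prime 2) := ⟨Nat.prime_two⟩
  rw [PL_succ, padicValNat.mul (PL_ne _) (factor_pos _ (by omega)), val_PL_even, val_odd_sub]
  ring

/-- the triangular numbers -/
def tri (n : ℕ) : ℕ := ∑ i ∈ range n, i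

theorem tri_two (n : ℕ) : tri n * 2 = n * (n - 1) := Finset.sum_range_id_mul_two n

theorem PL_ge (n : ℕ) : 2 ^ n * 3 ^ tri n ≤ PL n := by
  induction n with
  | zero => simp [PL, tri]
  | succ n ih =>
    rw [PL_succ, tri, sum_range_succ, ← tri]
    have h1 : 2 * 3 ^ n ≤ 3 ^ (n + 1) - 1 := by
      have h2 := three_pow_pos n
      rw [pow_succ]
      omega
    calc 2 ^ (n + 1) * 3 ^ (tri n + n) = (2 ^ n * 3 ^ tri n) * (2 * 3 ^ n) := by ring
      _ ≤ _ := Nat.mul_le_mul ih h1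

/-- the formula for `PSL_n` -/
theorem prod_sub (n : ℕ) : ∏ i : Fin n, (3 ^ n - 3 ^ (i : ℕ)) = 3 ^ tri n * PL n := by
  rw [← Finset.prod_range (fun i => 3 ^ n - 3 ^ i)]
  have h1 : ∏ i ∈ range n, (3 ^ n - 3 ^ i) = ∏ i ∈ range n, (3 ^ i * (3 ^ (n - i) - 1)) := by
    apply Finset.prod_congr rfl
    intro i hi
    rw [Finset.mem_range] at hi
    rw [Nat.mul_sub, mul_one, ← pow_add]
    congr 2
    omega
  rw [h1, Finset.prod_mul_distrib, Finset.prod_pow_eq_pow_sum, ← tri, PL]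
  congr 1
  rw [← Finset.prod_range_reflect]
  apply Finset.prod_congr rfl
  intro i hi
  rw [Finset.mem_range] at hi
  congr 2
  omega

/-- `PSL_n(3)`, `n ≥ 3` -/
theorem fL {c m n : ℕ} (hn : 3 ≤ n) (he : Nat.gcd n (3 - 1) * ((3 - 1) * c) = ∏ i : Fin n, (3 ^ n - 3 ^ (i : ℕ)))
    (hm : 7 ≤ m) (h : 2 ^ m ∣ c) : 2 ^ (3 * m) < c := by
  haveI : Fact (Nat.Prime 2) := ⟨Nat.prime_two⟩
  rw [prod_sub, show 3 - 1 = 2 by norm_num, ← mul_assoc] at he
  have hN : 3 ^ tri n * PL n ≠ 0 := mul_ne_zero (by positivity) (PL_ne n)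
  have ht := tri_two n
  rcases Nat.even_or_odd' n with ⟨k, rfl | rfl⟩
  · have hg : Nat.gcd (2 * k) 2 * 2 = 4 := by
      rw [Nat.gcd_eq_right (dvd_mul_right 2 k)]
    rw [hg] at he
    by_cases hk : k = 2
    · subst hk
      refine num (v := 7) he h ?_ ?_ <;> norm_num [PL, tri, Finset.prod_range_succ, Finset.sum_range_succ]
    · refine fam (v := 5 * k - 3) he hN h ?_ ?_
      · rw [padicValNat.mul (by positivity) (PL_ne _), val_three, val_PL_even, val_four]
        have := val_factorial k (by omega)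
        omega
      · refine lt_of_lt_of_le ?_ (Nat.mul_le_mul_left _ (PL_ge _))
        obtain ⟨j, rfl⟩ : ∃ j, k = j + 3 := ⟨k - 3, by omega⟩
        have h1 : 4 * 2 ^ (3 * (5 * (j + 3) - 3)) = 2 ^ (2 * (j + 3)) * 2 ^ (13 * j + 32) := by
          rw [show (4 : ℕ) = 2 ^ 2 by norm_num, ← pow_add, ← pow_add]
          congr 1
          omega
        have h2 : 3 ^ tri (2 * (j + 3)) * (2 ^ (2 * (j + 3)) * 3 ^ tri (2 * (j + 3))) =
            2 ^ (2 * (j + 3)) * 3 ^ (tri (2 * (j + 3)) * 2) := by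
          rw [pow_mul 3 (tri _) 2]
          ring
        rw [h1, h2, ht]
        apply Nat.mul_lt_mul_of_pos_left _ (by positivity)
        apply two_lt_three
        have h3 : 2 * (j + 3) - 1 = 2 * j + 5 := by omega
        rw [h3]
        nlinarith
  · have hg : Nat.gcd (2 * k + 1) 2 * 2 = 2 := by
      have : Nat.gcd (2 * k + 1) 2 = 1 := by
        rw [← Nat.Coprime, Nat.coprime_two_right]
        exact ⟨k, rfl⟩
      rw [this]
    rw [hg] at he
    by_cases hk : k = 1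
    · subst hk
      exfalso
      refine small (v := 6) he h (by omega) ?_
      norm_num [PL, tri, Finset.prod_range_succ, Finset.sum_range_succ]
    · refine fam (v := 5 * k - 1) he hN h ?_ ?_
      · rw [padicValNat.mul (by positivity) (PL_ne _), val_three, val_PL_odd, padicValNat.self (by norm_num)]
        have := val_factorial k (by omega)
        omega
      · refine lt_of_lt_of_le ?_ (Nat.mul_le_mul_left _ (PL_ge _))
        obtain ⟨j, rfl⟩ : ∃ j, k = j + 2 := ⟨k - 2, by omega⟩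
        have h1 : 2 * 2 ^ (3 * (5 * (j + 2) - 1)) = 2 ^ (2 * (j + 2) + 1) * 2 ^ (13 * j + 23) := by
          rw [← pow_succ', ← pow_add]
          congr 1
          omega
        have h2 : 3 ^ tri (2 * (j + 2) + 1) * (2 ^ (2 * (j + 2) + 1) * 3 ^ tri (2 * (j + 2) + 1)) =
            2 ^ (2 * (j + 2) + 1) * 3 ^ (tri (2 * (j + 2) + 1) * 2) := by
          rw [pow_mul 3 (tri _) 2]
          ring
        rw [h1, h2, ht]
        apply Nat.mul_lt_mul_of_pos_left _ (by positivity)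
        apply two_lt_three
        have h3 : 2 * (j + 2) + 1 - 1 = 2 * j + 4 := by omega
        rw [h3]
        nlinarith

/-- `PSp_2m(3)`, `PΩ_{2m+1}(3)`, `m ≥ 3` -/
theorem fSp {c m n : ℕ} (hn : 3 ≤ n) (he : 2 * c = 3 ^ (n ^ 2) * PE n) (h : 2 ^ m ∣ c) :
    2 ^ (3 * m) < c := by
  haveI : Fact (Nat.Prime 2) := ⟨Nat.prime_two⟩
  have hv3 : padicValNat 2 (3 ^ (n ^ 2)) = 0 := padicValNat.eq_zero_of_not_dvd
    (fun h => absurd (Nat.prime_two.dvd_of_dvd_pow h) (by norm_num))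
  refine fam (v := 4 * n - 2) he (mul_ne_zero (by positivity) (PE_ne n)) h ?_ ?_
  · rw [padicValNat.mul (by positivity) (PE_ne n), hv3, padicValNat.self (by norm_num)]
    have := val_PE_le n (by omega)
    omega
  · refine lt_of_lt_of_le ?_ (Nat.mul_le_mul_left _ (PE_ge n))
    obtain ⟨k, rfl⟩ : ∃ k, n = k + 3 := ⟨n - 3, by omega⟩
    have h1 : 2 * 2 ^ (3 * (4 * (k + 3) - 2)) = 2 ^ (3 * (k + 3)) * 2 ^ (9 * k + 22) := by
      rw [← pow_succ', ← pow_add]
      congr 1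
      omega
    have h2 : 3 ^ ((k + 3) ^ 2) * (8 ^ (k + 3) * 3 ^ ((k + 3) * (k + 3 - 1))) =
        2 ^ (3 * (k + 3)) * 3 ^ ((k + 3) ^ 2 + (k + 3) * (k + 2)) := by
      rw [pow_mul 2 3, pow_add 3 ((k + 3) ^ 2)]
      norm_num
      ring
    rw [h1, h2]
    apply Nat.mul_lt_mul_of_pos_left _ (by positivity)
    apply two_lt_three
    nlinarith

/-- the product of `PSU_n(3)` -/
def PU (n : ℕ) : ℕ := ∏ i ∈ range n, (if Even i then 3 ^ (i + 1) + 1 else 3 ^ (i + 1) - 1)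

theorem PU_two (k : ℕ) : PU (2 * k + 1) = PU (2 * k) * (3 ^ (2 * k + 1) + 1) := by
  rw [PU, prod_range_succ, ← PU, if_pos (by simp)]

theorem PU_succ (k : ℕ) : PU (2 * (k + 1)) = PU (2 * k) * (3 ^ (2 * k + 1) + 1) * (3 ^ (2 * (k + 1)) - 1) := by
  rw [show 2 * (k + 1) = 2 * k + 1 + 1 by ring, PU, prod_range_succ, ← PU, PU_two, if_neg (by simp)]

theorem PU_even_ne (k : ℕ) : PU (2 * k) ≠ 0 := by
  induction k with
  | zero => simp [PU]
  | succ k ih =>
    rw [PU_succ]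
    exact mul_ne_zero (mul_ne_zero ih (by positivity)) (factor_pos _ (by omega))

theorem PU_odd_ne (k : ℕ) : PU (2 * k + 1) ≠ 0 := by
  rw [PU_two]
  exact mul_ne_zero (PU_even_ne k) (by positivity)

theorem val_PU_even (k : ℕ) : padicValNat 2 (PU (2 * k)) = 5 * k + padicValNat 2 (Nat.factorial k) := by
  haveI : Fact (Nat.Prime 2) := ⟨Nat.prime_two⟩
  induction k with
  | zero => simp [PU]
  | succ k ih =>
    rw [PU_succ, padicValNat.mul (mul_ne_zero (PU_even_ne _) (by positivity)) (factor_pos _ (by omega)),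
      padicValNat.mul (PU_even_ne _) (by positivity), ih, val_odd_add, val_even _ (by omega),
      Nat.factorial_succ, padicValNat.mul (by omega) (Nat.factorial_ne_zero k)]
    ring

theorem val_PU_odd (k : ℕ) : padicValNat 2 (PU (2 * k + 1)) = 5 * k + 2 + padicValNat 2 (Nat.factorial k) := by
  haveI : Fact (Nat.Prime 2) := ⟨Nat.prime_two⟩
  rw [PU_two, padicValNat.mul (PU_even_ne _) (by positivity), val_PU_even, val_odd_add]
  ring

theorem PU_even_ge (k : ℕ) : 2 ^ (3 * k) * 3 ^ (k * (2 * k - 1)) ≤ PU (2 * k) := by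
  induction k with
  | zero => simp [PU]
  | succ k ih =>
    rw [PU_succ]
    have h1 : 8 * 3 ^ (2 * k) ≤ 3 ^ (2 * (k + 1)) - 1 := by
      have h2 := three_pow_pos (2 * k)
      have h3 : 3 ^ (2 * (k + 1)) = 9 * 3 ^ (2 * k) := by
        rw [show 2 * (k + 1) = 2 * k + 2 by ring, pow_add]
        ring
      omega
    have h5 : (k + 1) * (2 * (k + 1) - 1) = k * (2 * k - 1) + (2 * k + 1) + 2 * k := by
      rcases k with _ | k
      · rfl
      · have e1 : 2 * (k + 1 + 1) - 1 = 2 * k + 3 := by omega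
        have e2 : 2 * (k + 1) - 1 = 2 * k + 1 := by omega
        rw [e1, e2]
        ring
    calc 2 ^ (3 * (k + 1)) * 3 ^ ((k + 1) * (2 * (k + 1) - 1))
        = (2 ^ (3 * k) * 3 ^ (k * (2 * k - 1))) * 3 ^ (2 * k + 1) * (8 * 3 ^ (2 * k)) := by
          rw [h5, pow_add, pow_add 3 _ (2 * k + 1), mul_add, pow_add]
          norm_num
          ring
      _ ≤ _ := Nat.mul_le_mul (Nat.mul_le_mul ih (Nat.le_succ _)) h1

theorem PU_odd_ge (k : ℕ) : 2 ^ (3 * k) * 3 ^ (k * (2 * k - 1) + (2 * k + 1)) ≤ PU (2 * k + 1) := by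
  rw [PU_two, pow_add, ← mul_assoc]
  exact Nat.mul_le_mul (PU_even_ge k) (Nat.le_succ _)

/-- `PSU_n(3)`, `n ≥ 3` -/
theorem fU {c m n : ℕ} (hn : 3 ≤ n) (he : Nat.gcd n (3 + 1) * ((3 + 1) * c) = 3 ^ (n * (n - 1) / 2) *
      ∏ i ∈ Finset.range n, (if Even i then 3 ^ (i + 1) + 1 else 3 ^ (i + 1) - 1))
    (hm : 7 ≤ m) (h : 2 ^ m ∣ c) : 2 ^ (3 * m) < c := by
  haveI : Fact (Nat.Prime 2) := ⟨Nat.prime_two⟩
  rw [← PU, show 3 + 1 = 4 by norm_num, ← mul_assoc] at he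
  rcases Nat.even_or_odd' n with ⟨k, rfl | rfl⟩
  · have hN : 3 ^ (2 * k * (2 * k - 1) / 2) * PU (2 * k) ≠ 0 := mul_ne_zero (by positivity) (PU_even_ne k)
    have hdiv : 2 * k * (2 * k - 1) / 2 = k * (2 * k - 1) := by
      rw [mul_assoc, Nat.mul_div_cancel_left _ (by norm_num)]
    rw [hdiv] at hN he
    by_cases hk : k = 2
    · subst hk
      refine num (v := 7) he h ?_ ?_
      · norm_num [PU, Finset.prod_range_succ]
      · norm_num [PU, Finset.prod_range_succ]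
    obtain ⟨j, rfl⟩ : ∃ j, k = j + 3 := ⟨k - 3, by omega⟩
    have h2 : 3 ^ ((j + 3) * (2 * (j + 3) - 1)) * (2 ^ (3 * (j + 3)) * 3 ^ ((j + 3) * (2 * (j + 3) - 1))) =
        2 ^ (3 * (j + 3)) * 3 ^ (2 * ((j + 3) * (2 * (j + 3) - 1))) := by
      rw [mul_comm 2 ((j + 3) * (2 * (j + 3) - 1)), pow_mul 3 (_) 2]
      ring
    have h3 : 2 * (j + 3) - 1 = 2 * j + 5 := by omega
    have hfac := val_factorial (j + 3) (by omega)
    rcases Nat.even_or_odd (j + 3) with hj | hj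
    · have hg : Nat.gcd (2 * (j + 3)) 4 * 4 = 2 ^ 4 := by
        obtain ⟨i, hi⟩ := hj
        have : Nat.gcd (2 * (j + 3)) 4 = 4 := Nat.gcd_eq_right ⟨i, by omega⟩
        rw [this]
        norm_num
      rw [hg] at he
      refine fam (v := 6 * (j + 3) - 5) he hN h ?_ ?_
      · rw [padicValNat.mul (by positivity) (PU_even_ne _), val_three, val_PU_even, val_two_pow]
        omega
      · refine lt_of_lt_of_le ?_ (Nat.mul_le_mul_left _ (PU_even_ge _))
        have h1 : 2 ^ 4 * 2 ^ (3 * (6 * (j + 3) - 5)) = 2 ^ (3 * (j + 3)) * 2 ^ (15 * j + 34) := by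
          rw [← pow_add, ← pow_add]
          congr 1
          omega
        rw [h1, h2]
        apply Nat.mul_lt_mul_of_pos_left _ (by positivity)
        apply two_lt_three
        rw [h3]
        nlinarith
    · have hg : Nat.gcd (2 * (j + 3)) 4 * 4 = 2 ^ 3 := by
        have : Nat.gcd (2 * (j + 3)) 4 = 2 := by
          rw [show 4 = 2 * 2 by norm_num, Nat.gcd_mul_left]
          have h4 : Nat.gcd (j + 3) 2 = 1 := by
            rw [← Nat.Coprime, Nat.coprime_two_right]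
            exact hj
          rw [h4]
        rw [this]
        norm_num
      rw [hg] at he
      refine fam (v := 6 * (j + 3) - 4) he hN h ?_ ?_
      · rw [padicValNat.mul (by positivity) (PU_even_ne _), val_three, val_PU_even, val_two_pow]
        omega
      · refine lt_of_lt_of_le ?_ (Nat.mul_le_mul_left _ (PU_even_ge _))
        have h1 : 2 ^ 3 * 2 ^ (3 * (6 * (j + 3) - 4)) = 2 ^ (3 * (j + 3)) * 2 ^ (15 * j + 36) := by
          rw [← pow_add, ← pow_add]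
          congr 1
          omega
        rw [h1, h2]
        apply Nat.mul_lt_mul_of_pos_left _ (by positivity)
        apply two_lt_three
        rw [h3]
        nlinarith
  · have hN : 3 ^ ((2 * k + 1) * (2 * k + 1 - 1) / 2) * PU (2 * k + 1) ≠ 0 :=
      mul_ne_zero (by positivity) (PU_odd_ne k)
    have hdiv : (2 * k + 1) * (2 * k + 1 - 1) / 2 = (2 * k + 1) * k := by
      rw [Nat.add_sub_cancel, mul_comm 2 k, ← mul_assoc, Nat.mul_div_cancel _ (by norm_num)]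
    rw [hdiv] at hN he
    have hg : Nat.gcd (2 * k + 1) 4 * 4 = 2 ^ 2 := by
      have : Nat.gcd (2 * k + 1) 4 = 1 := by
        rw [← Nat.Coprime, show 4 = 2 ^ 2 by norm_num]
        apply Nat.Coprime.pow_right
        rw [Nat.coprime_two_right]
        exact ⟨k, rfl⟩
      rw [this]
      norm_num
    rw [hg] at he
    by_cases hk : k = 1
    · subst hk
      exfalso
      refine small (v := 6) he h (by omega) ?_
      norm_num [PU, Finset.prod_range_succ]
    · obtain ⟨j, rfl⟩ : ∃ j, k = j + 2 := ⟨k - 2, by omega⟩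
      refine fam (v := 6 * (j + 2) - 1) he hN h ?_ ?_
      · rw [padicValNat.mul (by positivity) (PU_odd_ne _), val_three, val_PU_odd, val_two_pow]
        have := val_factorial (j + 2) (by omega)
        omega
      · refine lt_of_lt_of_le ?_ (Nat.mul_le_mul_left _ (PU_odd_ge _))
        have h1 : 2 ^ 2 * 2 ^ (3 * (6 * (j + 2) - 1)) = 2 ^ (3 * (j + 2)) * 2 ^ (15 * j + 29) := by
          rw [← pow_add, ← pow_add]
          congr 1
          omega
        have h2 : 3 ^ ((2 * (j + 2) + 1) * (j + 2)) *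
            (2 ^ (3 * (j + 2)) * 3 ^ ((j + 2) * (2 * (j + 2) - 1) + (2 * (j + 2) + 1))) =
            2 ^ (3 * (j + 2)) * 3 ^ ((2 * (j + 2) + 1) * (j + 2) +
              ((j + 2) * (2 * (j + 2) - 1) + (2 * (j + 2) + 1))) := by
          rw [pow_add 3 ((2 * (j + 2) + 1) * (j + 2))]
          ring
        rw [h1, h2]
        apply Nat.mul_lt_mul_of_pos_left _ (by positivity)
        apply two_lt_three
        have h3 : 2 * (j + 2) - 1 = 2 * j + 3 := by omega
        rw [h3]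
        nlinarith

/-- `2^v ≤ m` for `v = v₂(m)`, so `v₂(m) + 1 ≤ m` -/
theorem val_lt (m : ℕ) (hm : 1 ≤ m) : padicValNat 2 m + 1 ≤ m := by
  haveI : Fact (Nat.Prime 2) := ⟨Nat.prime_two⟩
  have h1 : 2 ^ padicValNat 2 m ∣ m := pow_padicValNat_dvd
  have h2 := Nat.le_of_dvd (by omega) h1
  have h3 := Nat.lt_two_pow_self (n := padicValNat 2 m)
  omega

/-- `PΩ⁺_2n(3)`, `n ≥ 4` -/
theorem fPlus {c m n : ℕ} (hn : 4 ≤ n) (he : Nat.gcd 4 (3 ^ n - 1) * c = 3 ^ (n * (n - 1)) * (3 ^ n - 1) *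
      ∏ i ∈ Finset.range (n - 1), (3 ^ (2 * (i + 1)) - 1)) (h : 2 ^ m ∣ c) : 2 ^ (3 * m) < c := by
  haveI : Fact (Nat.Prime 2) := ⟨Nat.prime_two⟩
  rw [← PE] at he
  have hN : 3 ^ (n * (n - 1)) * (3 ^ n - 1) * PE (n - 1) ≠ 0 :=
    mul_ne_zero (mul_ne_zero (by positivity) (factor_pos _ (by omega))) (PE_ne _)
  have hval : padicValNat 2 (3 ^ (n * (n - 1)) * (3 ^ n - 1) * PE (n - 1)) =
      padicValNat 2 (3 ^ n - 1) + padicValNat 2 (PE (n - 1)) := by
    rw [padicValNat.mul (mul_ne_zero (by positivity) (factor_pos _ (by omega))) (PE_ne _),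
      padicValNat.mul (by positivity) (factor_pos _ (by omega)), val_three, zero_add]
  have hPE := val_PE_le (n - 1) (by omega)
  have hlow : 2 ^ (3 * (n - 1) + 1) * 3 ^ (n * (n - 1) + (n - 1) + (n - 1) * (n - 1 - 1)) ≤
      3 ^ (n * (n - 1)) * (3 ^ n - 1) * PE (n - 1) := by
    have h1 : 2 * 3 ^ (n - 1) ≤ 3 ^ n - 1 := by
      have h2 := three_pow_pos (n - 1)
      have h3 : 3 ^ n = 3 * 3 ^ (n - 1) := by
        rw [← pow_succ']
        congr 1
        omega
      omega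
    calc 2 ^ (3 * (n - 1) + 1) * 3 ^ (n * (n - 1) + (n - 1) + (n - 1) * (n - 1 - 1))
        = 3 ^ (n * (n - 1)) * (2 * 3 ^ (n - 1)) * (8 ^ (n - 1) * 3 ^ ((n - 1) * (n - 1 - 1))) := by
          rw [pow_add 2, pow_mul 2 3, pow_add 3 _ ((n - 1) * (n - 1 - 1)), pow_add 3 (n * (n - 1))]
          norm_num
          ring
      _ ≤ _ := Nat.mul_le_mul (Nat.mul_le_mul_left _ h1) (PE_ge _)
  rcases Nat.even_or_odd' n with ⟨k, rfl | rfl⟩
  · have hg : Nat.gcd 4 (3 ^ (2 * k) - 1) = 2 ^ 2 := by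
      apply Nat.gcd_eq_left
      have h8 : 2 ^ 3 ∣ 3 ^ (2 * k) - 1 := by
        rw [padicValNat_dvd_iff_le (factor_pos _ (by omega)), val_even _ (by omega)]
        omega
      exact (by norm_num : (4 : ℕ) ∣ 2 ^ 3).trans h8
    rw [hg] at he
    refine fam (v := 9 * k - 5) he hN h ?_ ?_
    · rw [hval, val_even _ (by omega), val_two_pow]
      have := val_lt k (by omega)
      omega
    · refine lt_of_lt_of_le ?_ hlow
      obtain ⟨j, rfl⟩ : ∃ j, k = j + 2 := ⟨k - 2, by omega⟩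
      have h3 : 2 * (j + 2) - 1 = 2 * j + 3 := by omega
      have h4 : 2 * (j + 2) - 1 - 1 = 2 * j + 2 := by omega
      have h1 : 2 ^ 2 * 2 ^ (3 * (9 * (j + 2) - 5)) = 2 ^ (3 * (2 * (j + 2) - 1) + 1) * 2 ^ (21 * j + 31) := by
        rw [← pow_add, ← pow_add]
        congr 1
        omega
      rw [h1]
      apply Nat.mul_lt_mul_of_pos_left _ (by positivity)
      apply two_lt_three
      rw [h4, h3]
      nlinarith
  · have hg : Nat.gcd 4 (3 ^ (2 * k + 1) - 1) = 2 := by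
      have h8 := nine_mod k
      generalize 3 ^ (2 * k + 1) = x at h8 ⊢
      obtain ⟨y, hy⟩ : ∃ y, x = 8 * y + 3 := ⟨x / 8, by omega⟩
      subst hy
      rw [show 8 * y + 3 - 1 = 2 * (4 * y + 1) by omega, show 4 = 2 * 2 by norm_num, Nat.gcd_mul_left]
      have : Nat.gcd 2 (2 * 2 * y + 1) = 1 := by
        rw [← Nat.Coprime, Nat.coprime_two_left]
        exact ⟨2 * y, by ring⟩
      rw [this]
    rw [hg] at he
    refine fam (v := 8 * k - 1) he hN h ?_ ?_
    · rw [hval, val_odd_sub, padicValNat.self (by norm_num)]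
      omega
    · refine lt_of_lt_of_le ?_ hlow
      obtain ⟨j, rfl⟩ : ∃ j, k = j + 2 := ⟨k - 2, by omega⟩
      have h3 : 2 * (j + 2) + 1 - 1 = 2 * j + 4 := by omega
      have h4 : 2 * (j + 2) + 1 - 1 - 1 = 2 * j + 3 := by omega
      have h1 : 2 * 2 ^ (3 * (8 * (j + 2) - 1)) = 2 ^ (3 * (2 * (j + 2) + 1 - 1) + 1) * 2 ^ (18 * j + 33) := by
        rw [← pow_succ', ← pow_add]
        congr 1
        omega
      rw [h1]
      apply Nat.mul_lt_mul_of_pos_left _ (by positivity)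
      apply two_lt_three
      rw [h4, h3]
      nlinarith

/-- `PΩ⁻_2n(3)`, `n ≥ 4` -/
theorem fMinus {c m n : ℕ} (hn : 4 ≤ n) (he : Nat.gcd 4 (3 ^ n + 1) * c = 3 ^ (n * (n - 1)) * (3 ^ n + 1) *
      ∏ i ∈ Finset.range (n - 1), (3 ^ (2 * (i + 1)) - 1)) (h : 2 ^ m ∣ c) : 2 ^ (3 * m) < c := by
  haveI : Fact (Nat.Prime 2) := ⟨Nat.prime_two⟩
  rw [← PE] at he
  have hN : 3 ^ (n * (n - 1)) * (3 ^ n + 1) * PE (n - 1) ≠ 0 :=
    mul_ne_zero (mul_ne_zero (by positivity) (by positivity)) (PE_ne _)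
  have hval : padicValNat 2 (3 ^ (n * (n - 1)) * (3 ^ n + 1) * PE (n - 1)) =
      padicValNat 2 (3 ^ n + 1) + padicValNat 2 (PE (n - 1)) := by
    rw [padicValNat.mul (mul_ne_zero (by positivity) (by positivity)) (PE_ne _),
      padicValNat.mul (by positivity) (by positivity), val_three, zero_add]
  have hPE := val_PE_le (n - 1) (by omega)
  have hlow : 2 ^ (3 * (n - 1)) * 3 ^ (n * (n - 1) + n + (n - 1) * (n - 1 - 1)) ≤
      3 ^ (n * (n - 1)) * (3 ^ n + 1) * PE (n - 1) := by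
    calc 2 ^ (3 * (n - 1)) * 3 ^ (n * (n - 1) + n + (n - 1) * (n - 1 - 1))
        = 3 ^ (n * (n - 1)) * 3 ^ n * (8 ^ (n - 1) * 3 ^ ((n - 1) * (n - 1 - 1))) := by
          rw [pow_mul 2 3, pow_add 3 _ ((n - 1) * (n - 1 - 1)), pow_add 3 (n * (n - 1))]
          norm_num
          ring
      _ ≤ _ := Nat.mul_le_mul (Nat.mul_le_mul_left _ (Nat.le_succ _)) (PE_ge _)
  have hfin : 4 * 2 ^ (3 * (4 * n - 5)) < 2 ^ (3 * (n - 1)) * 3 ^ (n * (n - 1) + n + (n - 1) * (n - 1 - 1)) := by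
    obtain ⟨j, rfl⟩ : ∃ j, n = j + 4 := ⟨n - 4, by omega⟩
    have h3 : j + 4 - 1 = j + 3 := by omega
    have h4 : j + 4 - 1 - 1 = j + 2 := by omega
    have h1 : 4 * 2 ^ (3 * (4 * (j + 4) - 5)) = 2 ^ (3 * (j + 4 - 1)) * 2 ^ (9 * j + 26) := by
      rw [show (4 : ℕ) = 2 ^ 2 by norm_num, ← pow_add, ← pow_add]
      congr 1
      omega
    rw [h1]
    apply Nat.mul_lt_mul_of_pos_left _ (by positivity)
    apply two_lt_three
    rw [h4, h3]
    nlinarith
  rcases Nat.even_or_odd' n with ⟨k, rfl | rfl⟩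
  · have h2 : padicValNat 2 (3 ^ (2 * k) + 1) = 1 := val_even_add k
    have hg : Nat.gcd 4 (3 ^ (2 * k) + 1) = 2 := by
      have h5 : ¬ 4 ∣ 3 ^ (2 * k) + 1 := by
        intro h6
        rw [show 4 = 2 ^ 2 by norm_num, padicValNat_dvd_iff_le (by positivity)] at h6
        omega
      have h6 : 2 ∣ 3 ^ (2 * k) + 1 := by
        have h7 : 2 ^ 1 ∣ 3 ^ (2 * k) + 1 := by
          rw [padicValNat_dvd_iff_le (by positivity)]
          omega
        simpa using h7
      have h7 : Nat.gcd 4 (3 ^ (2 * k) + 1) ∣ 2 ^ 2 := by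
        norm_num
        exact Nat.gcd_dvd_left _ _
      obtain ⟨i, hi, h8⟩ := (Nat.dvd_prime_pow Nat.prime_two).mp h7
      have h9 : 2 ∣ Nat.gcd 4 (3 ^ (2 * k) + 1) := Nat.dvd_gcd (by norm_num) h6
      have h10 : Nat.gcd 4 (3 ^ (2 * k) + 1) ∣ 3 ^ (2 * k) + 1 := Nat.gcd_dvd_right _ _
      interval_cases i
      · rw [h8] at h9
        norm_num at h9
      · rw [h8, pow_one]
      · rw [h8] at h10
        exact absurd (by simpa using h10) h5
    rw [hg] at he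
    refine fam (v := 4 * (2 * k) - 5) he hN h ?_ ?_
    · rw [hval, h2, padicValNat.self (by norm_num)]
      omega
    · refine lt_of_lt_of_le ?_ hlow
      refine lt_of_le_of_lt ?_ hfin
      exact Nat.mul_le_mul_right _ (by norm_num)
  · have h2 : padicValNat 2 (3 ^ (2 * k + 1) + 1) = 2 := val_odd_add k
    have hg : Nat.gcd 4 (3 ^ (2 * k + 1) + 1) = 2 ^ 2 := by
      apply Nat.gcd_eq_left
      rw [show 4 = 2 ^ 2 by norm_num, padicValNat_dvd_iff_le (by positivity)]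
      omega
    rw [hg] at he
    refine fam (v := 4 * (2 * k + 1) - 5) he hN h ?_ ?_
    · rw [hval, h2, val_two_pow]
      omega
    · refine lt_of_lt_of_le ?_ hlow
      refine lt_of_le_of_lt ?_ hfin
      norm_num

/-! ### The exceptional groups -/

theorem fG2 {c m : ℕ} (hm : 7 ≤ m) (he : c = 3 ^ 6 * (3 ^ 2 - 1) * (3 ^ 6 - 1)) (h : 2 ^ m ∣ c) : False :=
  small (g := 1) (v := 6) ((one_mul c).trans he) h (by omega) (by norm_num)

theorem fF4 {c m : ℕ} (he : c = 3 ^ 24 * (3 ^ 2 - 1) * (3 ^ 6 - 1) * (3 ^ 8 - 1) * (3 ^ 12 - 1))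
    (h : 2 ^ m ∣ c) : 2 ^ (3 * m) < c :=
  num (g := 1) (v := 15) ((one_mul c).trans he) h (by norm_num) (by norm_num)

theorem fE6 {c m : ℕ} (he : Nat.gcd 3 (3 - 1) * c =
      3 ^ 36 * (3 ^ 2 - 1) * (3 ^ 5 - 1) * (3 ^ 6 - 1) * (3 ^ 8 - 1) * (3 ^ 9 - 1) * (3 ^ 12 - 1))
    (h : 2 ^ m ∣ c) : 2 ^ (3 * m) < c :=
  num (v := 17) he h (by norm_num) (by norm_num)

theorem fE7 {c m : ℕ} (he : Nat.gcd 2 (3 - 1) * c = 3 ^ 63 * (3 ^ 2 - 1) * (3 ^ 6 - 1) * (3 ^ 8 - 1) *
      (3 ^ 10 - 1) * (3 ^ 12 - 1) * (3 ^ 14 - 1) * (3 ^ 18 - 1)) (h : 2 ^ m ∣ c) : 2 ^ (3 * m) < c :=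
  num (v := 23) he h (by norm_num) (by norm_num)

theorem fE8 {c m : ℕ} (he : c = 3 ^ 120 * (3 ^ 2 - 1) * (3 ^ 8 - 1) * (3 ^ 12 - 1) * (3 ^ 14 - 1) *
      (3 ^ 18 - 1) * (3 ^ 20 - 1) * (3 ^ 24 - 1) * (3 ^ 30 - 1)) (h : 2 ^ m ∣ c) : 2 ^ (3 * m) < c :=
  num (g := 1) (v := 30) ((one_mul c).trans he) h (by norm_num) (by norm_num)

theorem f2E6 {c m : ℕ} (he : Nat.gcd 3 (3 + 1) * c =
      3 ^ 36 * (3 ^ 2 - 1) * (3 ^ 5 + 1) * (3 ^ 6 - 1) * (3 ^ 8 - 1) * (3 ^ 9 + 1) * (3 ^ 12 - 1))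
    (h : 2 ^ m ∣ c) : 2 ^ (3 * m) < c :=
  num (v := 19) he h (by norm_num) (by norm_num)

theorem f3D4 {c m : ℕ} (hm : 7 ≤ m) (he : c = 3 ^ 12 * (3 ^ 2 - 1) * (3 ^ 6 - 1) * (3 ^ 8 + 3 ^ 4 + 1))
    (h : 2 ^ m ∣ c) : False :=
  small (g := 1) (v := 6) ((one_mul c).trans he) h (by omega) (by norm_num)

/-- `PSp_4(3)` -/
theorem fSp4 {c m : ℕ} (hm : 7 ≤ m) (he : 2 * c = 3 ^ (2 ^ 2) * PE 2) (h : 2 ^ m ∣ c) : False :=
  small (v := 6) he h (by omega) (by norm_num [PE, Finset.prod_range_succ])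

end Cfsg.Agent.OddHalf.D7Out.ExitNum
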