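import Cfsg.Agent.OddHalf.D7Out.ExitNum
import Cfsg.Agent.OddHalf.LieOddFam
import Cfsg.Agent.S0243
import Cfsg.Agent.S0245
import Cfsg.Agent.S0280
import Cfsg.Agent.S0292
import Cfsg.Agent.S0293
import Cfsg.Agent.S0294
import Cfsg.Agent.S1059
import Cfsg.Agent.S1062
import Cfsg.Agent.S1063
import Cfsg.Agent.S1064
import Cfsg.Agent.S1065
import Cfsg.Agent.S1066
import Cfsg.Agent.S1067
import Cfsg.Agent.ClassicalGeometry.AutPSpCount

/-!
# The 2-parts of the orders of the groups of Lie type of rank at least 2 over the field with 3 elements (helper887)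

`cube_lt`: if `2 ^ m` divides `|X|`, `7 ≤ m`, then `2 ^ (3 m) < |X|`.
-/

set_option autoImplicit false
set_option linter.style.haveILetI false

namespace Cfsg.Agent.OddHalf.D7Out.ExitOrd

open Subgroup Cfsg Cfsg.Agent.OddHalf.LieOddFam

universe u

/-- **`|X|₂ ^ 3 < |X|`** for `X` of Lie type of rank at least 2 over `F₃`, if `2 ^ 7` divides `|X|`. -/
theorem cube_lt {X : Type u} [Group X] (hX : Rk X 3) {m : ℕ} (hm : 7 ≤ m) (h : 2 ^ m ∣ Nat.card X) :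
    2 ^ (3 * m) < Nat.card X := by
  rcases hX with hX | hX | hX | hX | hX | hX | hX | hX | hX | hX | hX | hX | hX
  · obtain ⟨F, _, _, n, hF, hn, ⟨e⟩⟩ := hX
    rw [Nat.card_congr e.toEquiv] at h ⊢
    exact ExitNum.fL hn (Cfsg.Agent.S0243.result hF n (by omega)) hm h
  · obtain ⟨F, _, _, n, hF, hn, ⟨e⟩⟩ := hX
    rw [Nat.card_congr e.toEquiv] at h ⊢
    have h1 := Cfsg.Agent.S0245.result hF n
    have h2 := Cfsg.Agent.ClassicalGeometry.AutPSpCount.card_sp (F := F) (m := n) (by omega)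
    rw [h1, hF] at h2
    have h3 : 2 * Nat.card (PSp n F) = 3 ^ (n ^ 2) * ExitNum.PE n := by
      rw [ExitNum.PE, h2]
      norm_num
    by_cases h4 : n = 2
    · subst h4
      exact (ExitNum.fSp4 hm h3 h).elim
    · exact ExitNum.fSp (by omega) h3 h
  · obtain ⟨F, _, _, n, hF, hn, ⟨e⟩⟩ := hX
    rw [Nat.card_congr e.toEquiv] at h ⊢
    exact ExitNum.fU hn (Cfsg.Agent.S0280.result hF n (by omega)) hm h
  · obtain ⟨F, _, _, n, hF, hn, ⟨e⟩⟩ := hX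
    rw [Nat.card_congr e.toEquiv] at h ⊢
    exact ExitNum.fSp hn (Cfsg.Agent.S0292.result hF ⟨1, by norm_num⟩ n hn) h
  · obtain ⟨F, _, _, n, hF, hn, ⟨e⟩⟩ := hX
    rw [Nat.card_congr e.toEquiv] at h ⊢
    exact ExitNum.fPlus hn (Cfsg.Agent.S0293.result hF n hn) h
  · obtain ⟨F, _, _, n, b, c, hF, hn, hbc, ⟨e⟩⟩ := hX
    rw [Nat.card_congr e.toEquiv] at h ⊢
    exact ExitNum.fMinus hn (Cfsg.Agent.S0294.result hF n hn b c hbc) h
  · obtain ⟨F, _, _, hF, ⟨e⟩⟩ := hX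
    rw [Nat.card_congr e.toEquiv] at h ⊢
    exact (ExitNum.fG2 hm (Cfsg.Agent.S1059.result hF) h).elim
  · obtain ⟨F, _, _, hF, ⟨e⟩⟩ := hX
    rw [Nat.card_congr e.toEquiv] at h ⊢
    exact ExitNum.fF4 (Cfsg.Agent.S1062.result hF) h
  · obtain ⟨F, _, _, hF, ⟨e⟩⟩ := hX
    rw [Nat.card_congr e.toEquiv] at h ⊢
    exact ExitNum.fE6 (Cfsg.Agent.S1063.result hF) h
  · obtain ⟨F, _, _, hF, ⟨e⟩⟩ := hX
    rw [Nat.card_congr e.toEquiv] at h ⊢
    exact ExitNum.fE7 (Cfsg.Agent.S1064.result hF) h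
  · obtain ⟨F, _, _, hF, ⟨e⟩⟩ := hX
    rw [Nat.card_congr e.toEquiv] at h ⊢
    exact ExitNum.fE8 (Cfsg.Agent.S1065.result hF) h
  · obtain ⟨F, _, _, hF, ⟨e⟩⟩ := hX
    rw [Nat.card_congr e.toEquiv] at h ⊢
    exact ExitNum.f2E6 (Cfsg.Agent.S1066.result (Nat.prime_three.isPrimePow) hF) h
  · obtain ⟨F, _, _, hF, ⟨e⟩⟩ := hX
    rw [Nat.card_congr e.toEquiv] at h ⊢
    exact (ExitNum.f3D4 hm (Cfsg.Agent.S1067.result (Nat.prime_three.isPrimePow) hF) h).elim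

end Cfsg.Agent.OddHalf.D7Out.ExitOrd
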