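import Cfsg.Agent.OddHalf.D7Out.Outer
import Cfsg.Agent.KFacts.RgdFld.Fld
import Cfsg.Agent.KFacts.RgdSys

/-!
# D7, the front: the field part of `C(t)` for a simply laced `K` (helper909)

* `exists_fld` : `Defs.Fld` for a group `K` with a connected simply laced root group datum of rank at least two;
* `exists_fld_sys`, `not_iso_sys` : for `ChevTwo.Sys`.
-/

set_option autoImplicit false
set_option linter.unusedSectionVars false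

namespace Cfsg.Agent.OddHalf.D7Out.FldOf

open CoxeterSystem Cfsg.Agent.ChevalleyStructure.CoxeterGeom Cfsg.Agent.Tits.Roots Cfsg.Agent.Tits.Core
  Cfsg.Agent.Nodes.Coroot
  Cfsg.Agent.Tits.Exchange Cfsg.Agent.Nodes.Reps Cfsg.Agent.Nodes.BNOf Cfsg.Agent.Nodes.StabComb
  Cfsg.Agent.Nodes.Bruhat Cfsg.Agent.Nodes.OppDec Cfsg.Agent.Nodes.LeviDec Cfsg.Agent.Nodes.NormalForm
  Cfsg.Agent.Nodes.PosPair Cfsg.Agent.KFacts.RgdSL Cfsg.Agent.KFacts.RgdCent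
  Cfsg.Agent.KFacts.RgdOpp Cfsg.Agent.KFacts.RgdAut Cfsg.Agent.KFacts.RgdDiag Cfsg.Agent.KFacts.RgdRigid
  Cfsg.Agent.KFacts.RgdField Cfsg.Agent.KFacts.RgdTau Cfsg.Agent.KFacts.RgdFld.Center Cfsg.Agent.KFacts.RgdFld.Fld
open scoped commutatorElement

variable {I W : Type*} [Fintype I] [DecidableEq I] [Group W] {M : CoxeterMatrix I}
  {cs : CoxeterSystem M W} {A : I → I → ℤ} {h : IsCartan M A}
  {G : Type*} [Group G] {K : Subgroup G} {T₀ : Subgroup ↥K} {n : I → ↥K} {X : (I → ℤ) → Subgroup ↥K}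
  {F : Type*} [Field F] {x : (I → ℤ) → F → ↥K} {χ : (I → ℤ) → ↥K → F} {hh : I → F → ↥K}
  {t v : G} {U Z T : Subgroup G}

theorem sq_of_diagTwo (hM : Outer.DiagTwo M) (σ : Equiv.Perm I) (hσ : ∀ i j, M (σ i) (σ j) = M i j) (k : ℕ)
    (hk : σ ^ 2 ^ k = 1) : σ * σ = 1 := by
  by_cases h1 : σ = 1
  · rw [h1, one_mul]
  have hinv : ∀ i j, M (σ⁻¹ i) (σ⁻¹ j) = M i j := by
    intro i j
    have h2 : ∀ i, σ (σ⁻¹ i) = i := fun i => σ.apply_symm_apply i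
    rw [← hσ, h2, h2]
  have hpow : ∀ (σ : Equiv.Perm I), (∀ i j, M (σ i) (σ j) = M i j) → ∀ (m : ℕ) i j, M ((σ ^ m) i) ((σ ^ m) j) = M i j := by
    intro σ hσ m
    induction m with
    | zero => intro i j; rfl
    | succ m ih => intro i j; rw [pow_succ, Equiv.Perm.mul_apply, Equiv.Perm.mul_apply, ih, hσ]
  have h2 : σ = σ⁻¹ := by
    refine hM (Subgroup.zpowers σ) ?_ ?_ σ (Subgroup.mem_zpowers σ) σ⁻¹ (inv_mem (Subgroup.mem_zpowers σ)) h1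
      (fun h2 => h1 (inv_eq_one.1 h2))
    · rintro ⟨y, hy⟩
      obtain ⟨j, rfl⟩ := Subgroup.mem_zpowers_iff.1 hy
      refine ⟨k, Subtype.ext ?_⟩
      show (σ ^ j) ^ 2 ^ k = 1
      rw [← zpow_natCast, ← zpow_mul, mul_comm, zpow_mul, zpow_natCast, hk, one_zpow]
    · intro y hy
      obtain ⟨j, rfl⟩ := Subgroup.mem_zpowers_iff.1 hy
      rcases Int.eq_nat_or_neg j with ⟨m, rfl | rfl⟩
      · rw [zpow_natCast]
        exact hpow σ hσ m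
      · rw [zpow_neg, zpow_natCast, ← inv_pow]
        exact hpow σ⁻¹ hinv m
  nth_rw 2 [h2]
  exact mul_inv_cancel σ

/-- **The field part of `C(t)`.** -/
theorem exists_fld [Finite G] [Finite W] [Nontrivial I] [CharP F 2] (E : Defs.Fr t v K U Z T)
    (hU : U = (RGD.Sup X (RGD.Pos cs h)).map K.subtype) {ρ : I → ℤ} (hZ : Z = (X ρ).map K.subtype)
    (R : RGD cs h 2 T₀ n X)
    (hG1 : RGD.Sup X {x | IsRoot cs h x} = ⊤) (C : Coords cs h T₀ n X x χ) (H : Coroots A T₀ X χ hh)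
    (hconn : ∀ J : Set I, J.Nonempty → J ≠ Set.univ → ∃ a ∈ J, ∃ b, b ∉ J ∧ M a b ≠ 2)
    (hA : ∀ σ : Equiv.Perm I, (∀ i j, M (σ i) (σ j) = M i j) → ∀ i j, A (σ i) (σ j) = A i j)
    (hs : SL cs h) (hN : Str cs h x) (hρ : IsRoot cs h ρ) (hd : ∀ i, 0 ≤ cpr cs h (sr i) ρ)
    (hM : Outer.DiagTwo M) (g : ↥T →* Equiv.Perm I × (F ≃+* F))
    (hg : ∀ y : ↥T, ∃ u ∈ RGD.Sup X (RGD.Pos cs h), Tau T₀ X χ A (MulAut.conj u * Outer.act E y) (g y).1 (g y).2) :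
    ∃ (B : Type) (_ : CommGroup B) (lf : ↥(Subgroup.centralizer ({t} : Set G)) →* B)
      (hT : T ≤ Subgroup.centralizer ({t} : Set G)), Defs.Fld E lf hT ∧
      ∀ y : ↥T, lf ⟨y, hT y.2⟩ = 1 → (g y).2 = 1 := by
  obtain ⟨B, hB, lf, hT, L, hL⟩ := Cfsg.Agent.KFacts.RgdFld.Fld.exists_fld E hU hZ R hG1 C H hconn hA hs hN hρ hd
    (sq_of_diagTwo hM)
  refine ⟨B, hB, lf, hT, L, fun y hy => ?_⟩
  obtain ⟨u, -, hu⟩ := hg y
  have e : actC E ⟨y, hT y.2⟩ = Outer.act E y := by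
    ext k
    rfl
  rw [← e] at hu
  exact hL y y.2 u _ _ hu hy

/-- **(F1)**: `t` is not isolated in `Z(T)`. -/
theorem not_iso [Finite G] [Finite W] [Nontrivial I] [CharP F 2] (hG : commutator G = ⊤) (E : Defs.FrT t v K U Z T)
    (hU : U = (RGD.Sup X (RGD.Pos cs h)).map K.subtype) {ρ : I → ℤ} (hZ : Z = (X ρ).map K.subtype)
    (R : RGD cs h 2 T₀ n X)
    (hG1 : RGD.Sup X {x | IsRoot cs h x} = ⊤) (C : Coords cs h T₀ n X x χ) (H : Coroots A T₀ X χ hh)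
    (hconn : ∀ J : Set I, J.Nonempty → J ≠ Set.univ → ∃ a ∈ J, ∃ b, b ∉ J ∧ M a b ≠ 2)
    (hA : ∀ σ : Equiv.Perm I, (∀ i j, M (σ i) (σ j) = M i j) → ∀ i j, A (σ i) (σ j) = A i j)
    (hs : SL cs h) (hN : Str cs h x) (hρ : IsRoot cs h ρ) (hd : ∀ i, 0 ≤ cpr cs h (sr i) ρ)
    (hM : Outer.DiagTwo M) : ¬ Defs.Iso t T := by
  obtain ⟨g, hg⟩ := Outer.exists_g E.toFr hU R hG1 C H hconn hA
  obtain ⟨B, hB, lf, hT, L, hL⟩ := FldOf.exists_fld E.toFr hU hZ R hG1 C H hconn hA hs hN hρ hd hM g fun y => (hg y).1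
  exact Outer.not_iso hG R hM E g (fun y => (hg y).1) (fun y hy => ((hg y).2).1 hy) L hL

/-- the structure constants of `ChevTwo.Sys` -/
theorem str_of_sys {R : RGD cs h 2 T₀ n X} {e : (I → ℤ) → F → ↥K} (S : Cfsg.Agent.KFacts.ChevTwo.Sys R e) (hs : SL cs h) :
    Str cs h e := fun a b ha hb hc => ⟨1, one_ne_zero, fun l m => by
  rw [one_mul]
  exact S.data.comm1 a b ha hb hc (by rw [← hs a b ha hb, hc]) l m⟩

/-- **The field part of `C(t)`, for `ChevTwo.Sys`.** -/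
theorem exists_fld_sys [Finite G] [Finite W] [Nontrivial I] [CharP F 2] [Finite F] (E : Defs.Fr t v K U Z T)
    (hU : U = (RGD.Sup X (RGD.Pos cs h)).map K.subtype) {ρ : I → ℤ} (hZ : Z = (X ρ).map K.subtype)
    {R : RGD cs h 2 T₀ n X} {e : (I → ℤ) → F → ↥K} (S : Cfsg.Agent.KFacts.ChevTwo.Sys R e)
    (hG1 : RGD.Sup X {x | IsRoot cs h x} = ⊤) (hN : NoCent cs h T₀ X)
    (hconn : ∀ J : Set I, J.Nonempty → J ≠ Set.univ → ∃ a ∈ J, ∃ b, b ∉ J ∧ M a b ≠ 2)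
    (hl : ∀ i j, i ≠ j → M i j = 2 ∨ M i j = 3)
    (hs : SL cs h) (hρ : IsRoot cs h ρ) (hd : ∀ i, 0 ≤ cpr cs h (sr i) ρ)
    (hM : Outer.DiagTwo M) (g : ↥T →* Equiv.Perm I × (F ≃+* F))
    (hg : ∀ y : ↥T, ∃ u ∈ RGD.Sup X (RGD.Pos cs h),
      Tau T₀ X (Cfsg.Agent.KFacts.RgdSys.chS e) A (MulAut.conj u * Outer.act E y) (g y).1 (g y).2) :
    ∃ (B : Type) (_ : CommGroup B) (lf : ↥(Subgroup.centralizer ({t} : Set G)) →* B)
      (hT : T ≤ Subgroup.centralizer ({t} : Set G)), Defs.Fld E lf hT ∧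
      ∀ y : ↥T, lf ⟨y, hT y.2⟩ = 1 → (g y).2 = 1 :=
  FldOf.exists_fld E hU hZ R hG1 (Cfsg.Agent.KFacts.RgdSys.coords S hG1) (Cfsg.Agent.KFacts.RgdSys.coroots S hG1 hN) hconn
    (fun _ hσ => cartan_of_laced h hl hσ) hs (str_of_sys S hs) hρ hd hM g hg

/-- **(F1)**, for `ChevTwo.Sys`. -/
theorem not_iso_sys [Finite G] [Finite W] [Nontrivial I] [CharP F 2] [Finite F] (hG : commutator G = ⊤)
    (E : Defs.FrT t v K U Z T)
    (hU : U = (RGD.Sup X (RGD.Pos cs h)).map K.subtype) {ρ : I → ℤ} (hZ : Z = (X ρ).map K.subtype)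
    {R : RGD cs h 2 T₀ n X} {e : (I → ℤ) → F → ↥K} (S : Cfsg.Agent.KFacts.ChevTwo.Sys R e)
    (hG1 : RGD.Sup X {x | IsRoot cs h x} = ⊤) (hN : NoCent cs h T₀ X)
    (hconn : ∀ J : Set I, J.Nonempty → J ≠ Set.univ → ∃ a ∈ J, ∃ b, b ∉ J ∧ M a b ≠ 2)
    (hl : ∀ i j, i ≠ j → M i j = 2 ∨ M i j = 3)
    (hs : SL cs h) (hρ : IsRoot cs h ρ) (hd : ∀ i, 0 ≤ cpr cs h (sr i) ρ)
    (hM : Outer.DiagTwo M) : ¬ Defs.Iso t T :=
  not_iso hG E hU hZ R hG1 (Cfsg.Agent.KFacts.RgdSys.coords S hG1) (Cfsg.Agent.KFacts.RgdSys.coroots S hG1 hN) hconn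
    (fun _ hσ => cartan_of_laced h hl hσ) hs (str_of_sys S hs) hρ hd hM

end Cfsg.Agent.OddHalf.D7Out.FldOf
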