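import Cfsg.Agent.OddHalf.D7Out.FrontSL
import Cfsg.Agent.KFacts.RgdFld.Fld

/-!
# The field part for simply laced `K` with coordinates (helper875; facts of helper909)
-/

set_option autoImplicit false
set_option linter.unusedSectionVars false

namespace Cfsg.Agent.OddHalf.D7Out.HasFldOf

open CoxeterSystem Cfsg.Agent.ChevalleyStructure.CoxeterGeom Cfsg.Agent.Tits.Roots Cfsg.Agent.Tits.Core
  Cfsg.Agent.Tits.Exchange Cfsg.Agent.Nodes.Reps Cfsg.Agent.Nodes.BNOf Cfsg.Agent.Nodes.StabComb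
  Cfsg.Agent.Nodes.Bruhat Cfsg.Agent.KFacts.RgdCent Cfsg.Agent.KFacts.RgdSL Cfsg.Agent.KFacts.RgdTI
  Cfsg.Agent.KFacts.SLRow.Def Cfsg.Agent.KFacts.ChevTwo Cfsg.Agent.KFacts.RgdSys Cfsg.Agent.KFacts.RgdTau
  Cfsg.Agent.KFacts.RgdField Cfsg.Agent.OddHalf.SL.Index Cfsg.Agent.OddHalf.SL.PreOf
  Cfsg.Agent.Nodes.Coroot Cfsg.Agent.Tits.RootComb Cfsg.Agent.Nodes.Comb
open scoped commutatorElement

variable {I W : Type*} [Fintype I] [DecidableEq I] [Group W] {M : CoxeterMatrix I}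
  {cs : CoxeterSystem M W} {A : I → I → ℤ} {h : IsCartan M A}
  {G : Type*} [Group G] {K : Subgroup G} {T₀ : Subgroup ↥K} {n : I → ↥K} {X : (I → ℤ) → Subgroup ↥K} {q : ℕ}
  {F : Type*} [Field F] {e : (I → ℤ) → F → ↥K} {t v : G}

/-- an element of 2-power order of a diagram with `DiagTwo` is an involution -/
theorem sq_eq_one {M : CoxeterMatrix I} (hM : Outer.DiagTwo M) {σ : Equiv.Perm I}
    (hσ : ∀ i j, M (σ i) (σ j) = M i j) {k : ℕ} (hk : σ ^ 2 ^ k = 1) : σ * σ = 1 := by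
  by_contra hne
  have h1 : σ ≠ 1 := by rintro rfl; exact hne (mul_one 1)
  have h2 : IsPGroup 2 (Subgroup.zpowers σ) := by
    rintro ⟨τ, hτ⟩
    obtain ⟨i, rfl⟩ := Subgroup.mem_zpowers_iff.1 hτ
    refine ⟨k, Subtype.ext ?_⟩
    show (σ ^ i) ^ 2 ^ k = 1
    rw [← zpow_natCast, ← zpow_mul, mul_comm, zpow_mul, zpow_natCast, hk, one_zpow]
  have h3 : ∀ τ ∈ Subgroup.zpowers σ, ∀ i j, M (τ i) (τ j) = M i j := by
    have h4 : ∀ τ : Equiv.Perm I, (∀ i j, M (τ i) (τ j) = M i j) → ∀ i j, M (τ⁻¹ i) (τ⁻¹ j) = M i j :=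
      fun τ hτ => Diagram.sym_inv hτ
    let S : Subgroup (Equiv.Perm I) :=
      { carrier := {τ | ∀ i j, M (τ i) (τ j) = M i j}
        one_mem' := fun _ _ => rfl
        mul_mem' := fun {a b} ha hb => Diagram.sym_mul ha hb
        inv_mem' := fun {a} ha => h4 a ha }
    have h5 : Subgroup.zpowers σ ≤ S := by rw [Subgroup.zpowers_le]; exact hσ
    exact fun τ hτ => h5 hτ
  have h4 := hM _ h2 h3 σ (Subgroup.mem_zpowers σ) (σ * σ) (mul_mem (Subgroup.mem_zpowers σ) (Subgroup.mem_zpowers σ))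
    h1 hne
  exact h1 (left_eq_mul.1 h4)

/-- **The field part.** -/
theorem hasFld [Finite G] [Finite W] [Finite F] [CharP F 2] (D : Datum (⊤ : Subgroup ↥K) q cs h T₀ n X)
    (Sy : Sys D.rgd e) (hM : Outer.DiagTwo M) : FrontSL.HasFld cs h T₀ X e t v := by
  intro ρ T g hρ hd E hg
  have hnt : Nontrivial I := Fintype.one_lt_card_iff_nontrivial.1 (lt_of_lt_of_le (by norm_num) D.three)
  have hconn : ∀ J : Set I, J.Nonempty → J ≠ Set.univ → ∃ a ∈ J, ∃ b, b ∉ J ∧ M a b ≠ 2 := by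
    intro J hJ hJ'
    obtain ⟨i, hi, j, hj, hij⟩ := D.irr J hJ (Set.nonempty_compl.2 hJ')
    exact ⟨i, hi, j, hj, hij⟩
  have hA : ∀ σ : Equiv.Perm I, (∀ i j, M (σ i) (σ j) = M i j) → ∀ i j, A (σ i) (σ j) = A i j := by
    intro σ hσ i j
    refine cartan_of_laced h ?_ hσ i j
    intro i j hij
    rcases h.rel i j hij with ⟨h0, -⟩ | ⟨h0, -⟩ | ⟨h0, -⟩ | ⟨h0, -⟩
    · exact Or.inl h0
    · exact Or.inr h0
    · exact absurd h0 (D.h4 _ _)
    · exact absurd h0 (D.h6 _ _)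
  have hsl := OddHalf.SL.PreOf.sl (cs := cs) (h := h) D.h4 D.h6
  obtain ⟨B, hB, lf, hT, hFld, h1⟩ := Cfsg.Agent.KFacts.RgdFld.Fld.exists_fld E rfl rfl D.rgd D.gen (coords Sy D.gen)
    (coroots Sy D.gen D.cent) hconn hA hsl (by
      intro a b ha hb hab
      have hba : cpr cs h b a = -1 := by
        have h2 := roots cs h D.h4 D.h6
        rw [← bf_eq_cpr D.h4 D.h6 _ hb] at hab
        rw [← bf_eq_cpr D.h4 D.h6 _ ha, h2.symm]
        exact hab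
      exact ⟨1, one_ne_zero, fun l m => by rw [one_mul]; exact Sy.data.comm1 a b ha hb hab hba l m⟩) hρ hd
    fun σ hσ k hk => sq_eq_one hM hσ hk
  refine ⟨B, hB, lf, hT, hFld, fun y hy => ?_⟩
  obtain ⟨u, hu, S⟩ := hg y
  refine h1 y y.2 u (g y).1 (g y).2 ?_ hy
  have e1 : Outer.act E y = Cfsg.Agent.KFacts.RgdFld.Fld.actC E ⟨y, hT y.2⟩ := by
    ext k
    rfl
  rwa [← e1]

end Cfsg.Agent.OddHalf.D7Out.HasFldOf
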