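import Mathlib

/-!
# Node D7 of S1765, THEOREM H (7): the ring lemmas

* `Alg`: a unital biadditive product on an abelian group which is two-dimensional over a "field" of scalars is
  commutative and associative.
* `not_mem_commutator`: if a group `Γ` acts on a finite commutative ring `R = F + F θ` of characteristic 2 by ring
  automorphisms and `t ∈ Γ` acts as `θ ↦ θ + 1` with fixed field `F`, then `t` is not in the commutator subgroup of `Γ`.
-/

set_option autoImplicit false

open scoped commutatorElement

namespace Cfsg.Agent.OddHalf.D7Out.RingEnd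

/-! ### Two-dimensional algebras -/

/-- A unital product which is bilinear over `F` and two-dimensional. -/
structure Alg (R : Type*) [AddCommGroup R] (m : R → R → R) (e θ : R) (F : Set R) : Prop where
  add_left : ∀ a b c, m (a + b) c = m a c + m b c
  add_right : ∀ a b c, m a (b + c) = m a b + m a c
  one_left : ∀ a, m e a = a
  s1 : ∀ a ∈ F, ∀ w, m a w = m w a
  s2 : ∀ a ∈ F, ∀ w w', m (m a w) w' = m a (m w w')
  s3 : ∀ a ∈ F, ∀ w w', m w (m a w') = m a (m w w')
  dec : ∀ w, ∃ a ∈ F, ∃ b ∈ F, w = a + m b θ

namespace Alg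

variable {R : Type*} [AddCommGroup R] {m : R → R → R} {e θ : R} {F : Set R}

theorem comm (h : Alg R m e θ F) (x y : R) : m x y = m y x := by
  obtain ⟨a, ha, b, hb, rfl⟩ := h.dec x
  obtain ⟨c, hc, d, hd, rfl⟩ := h.dec y
  rw [h.add_left, h.add_right, h.add_right, h.add_left, h.add_right, h.add_right]
  have e1 : m a c = m c a := h.s1 a ha c
  have e2 : m a (m d θ) = m (m d θ) a := h.s1 a ha _
  have e3 : m (m b θ) c = m c (m b θ) := (h.s1 c hc _).symm
  have e4 : m (m b θ) (m d θ) = m (m d θ) (m b θ) := by
    rw [h.s2 b hb, h.s3 d hd, h.s2 d hd, h.s3 b hb, ← h.s2 b hb, ← h.s2 d hd, h.s1 b hb d]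
  rw [e1, e2, e3, e4]
  abel

theorem assoc (h : Alg R m e θ F) (x y z : R) : m (m x y) z = m x (m y z) := by
  have k1 : ∀ z, m (m θ θ) z = m θ (m θ z) := by
    intro z
    obtain ⟨a, ha, b, hb, rfl⟩ := h.dec z
    rw [h.add_right, h.add_right, h.add_right]
    have e1 : m (m θ θ) a = m θ (m θ a) := by
      rw [← h.s1 a ha, ← h.s1 a ha θ, h.s3 a ha]
    have e2 : m (m θ θ) (m b θ) = m θ (m θ (m b θ)) := by
      rw [h.s3 b hb, h.s3 b hb, h.s3 b hb, h.comm (m θ θ) θ]
    rw [e1, e2]
  have k2 : ∀ y z, m (m θ y) z = m θ (m y z) := by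
    intro y z
    obtain ⟨a, ha, b, hb, rfl⟩ := h.dec y
    rw [h.add_right, h.add_left, h.add_left, h.add_right]
    have e1 : m (m θ a) z = m θ (m a z) := by
      rw [← h.s1 a ha θ, h.s2 a ha, h.s3 a ha]
    have e2 : m (m θ (m b θ)) z = m θ (m (m b θ) z) := by
      rw [h.s3 b hb, h.s2 b hb, h.s2 b hb, h.s3 b hb, k1]
    rw [e1, e2]
  obtain ⟨a, ha, b, hb, rfl⟩ := h.dec x
  rw [h.add_left, h.add_left, h.add_left]
  have e1 : m (m a y) z = m a (m y z) := h.s2 a ha y z
  have e2 : m (m (m b θ) y) z = m (m b θ) (m y z) := by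
    rw [h.s2 b hb, h.s2 b hb, h.s2 b hb, k2]
  rw [e1, e2]

/-- The commutative ring. -/
@[reducible] def ring (h : Alg R m e θ F) : CommRing R :=
  { (inferInstance : AddCommGroup R) with
    mul := m
    one := e
    left_distrib := fun a b c => h.add_right a b c
    right_distrib := fun a b c => h.add_left a b c
    zero_mul := fun a => by
      show m 0 a = 0
      have := h.add_left 0 0 a
      rw [add_zero] at this
      exact left_eq_add.1 this
    mul_zero := fun a => by
      show m a 0 = 0
      have := h.add_right a 0 0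
      rw [add_zero] at this
      exact left_eq_add.1 this
    mul_assoc := fun a b c => h.assoc a b c
    one_mul := fun a => h.one_left a
    mul_one := fun a => by
      show m a e = a
      rw [h.comm]; exact h.one_left a
    mul_comm := fun a b => h.comm a b }

end Alg

/-! ### Automorphisms of the ring `F + F θ` -/

/-- The ring automorphisms of a finite commutative domain commute. -/
theorem aut_comm {R : Type*} [CommRing R] [IsDomain R] [Finite R] (σ τ : R ≃+* R) (r : R) :
    σ (τ r) = τ (σ r) := by
  classical
  have : Fintype R := Fintype.ofFinite R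
  by_cases hr : r = 0
  · rw [hr, map_zero, map_zero, map_zero]
  have hunit : IsUnit r := by
    have := (Finite.isDomain_to_isField R).mul_inv_cancel hr
    obtain ⟨b, hb⟩ := this
    exact IsUnit.of_mul_eq_one b hb
  obtain ⟨u, rfl⟩ := hunit
  obtain ⟨g, hg⟩ := IsCyclic.exists_generator (α := Rˣ)
  obtain ⟨n, hn⟩ := Subgroup.mem_zpowers_iff.1 (hg u)
  obtain ⟨i, hi⟩ := Subgroup.mem_zpowers_iff.1 (hg (Units.map (σ : R →* R) g))
  obtain ⟨j, hj⟩ := Subgroup.mem_zpowers_iff.1 (hg (Units.map (τ : R →* R) g))
  have h1 : ∀ (ρ : R ≃+* R) (v : Rˣ), ρ (v : R) = ((Units.map (ρ : R →* R) v : Rˣ) : R) :=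
    fun ρ v => rfl
  rw [h1 τ, h1 σ, h1 σ, h1 τ]
  congr 1
  have h2 : ∀ k : ℤ, Units.map (σ : R →* R) (g ^ k) = g ^ (i * k) := by
    intro k; rw [map_zpow, ← hi, ← zpow_mul]
  have h3 : ∀ k : ℤ, Units.map (τ : R →* R) (g ^ k) = g ^ (j * k) := by
    intro k; rw [map_zpow, ← hj, ← zpow_mul]
  rw [← hn, h3, h2, h2, h3]
  congr 1
  ring

theorem not_mem_commutator {R : Type*} [CommRing R] [Finite R] (h2 : ∀ r : R, r + r = 0)
    (h10 : (1 : R) ≠ 0) {Γ : Type*} [Group Γ] (ρ : Γ →* (R ≃+* R)) (t : Γ) (F : Set R)
    (hinv : ∀ a ∈ F, a ≠ 0 → ∃ b, a * b = 1)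
    (θ : R) (hdec : ∀ r, ∃ a ∈ F, ∃ b ∈ F, r = a + b * θ)
    (hθ : ρ t θ = θ + 1) (hF : ∀ a ∈ F, ρ t a = a) (hF' : ∀ a, ρ t a = a → a ∈ F) :
    t ∉ commutator Γ := by
  classical
  -- elements fixed by `t`
  have hidF : ∀ a ∈ F, a * a = a → a = 0 ∨ a = 1 := by
    intro a ha haa
    by_cases h0 : a = 0
    · exact Or.inl h0
    · obtain ⟨b, hb⟩ := hinv a ha h0
      right
      calc a = a * (a * b) := by rw [hb, mul_one]
        _ = a * a * b := by ring
        _ = a * b := by rw [haa]
        _ = 1 := hb
  have hsub : ∀ r : R, r + ρ t r ∈ F := by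
    intro r
    obtain ⟨a, ha, b, hb, rfl⟩ := hdec r
    have e : a + b * θ + ρ t (a + b * θ) = b := by
      rw [map_add, map_mul, hF a ha, hF b hb, hθ]
      have e1 := h2 a
      have e2 := h2 (b * θ)
      calc a + b * θ + (a + b * (θ + 1)) = (a + a) + (b * θ + b * θ) + b := by ring
        _ = b := by rw [e1, e2, add_zero, zero_add]
    rw [e]; exact hb
  -- idempotents
  have hid : ∀ f : R, f * f = f → f ≠ 0 → f ≠ 1 → ρ t f = f + 1 := by
    intro f hf h0 h1
    have hb := hsub f
    set b := f + ρ t f with hbdef
    have hbb : b * b = b := by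
      have e1 : ρ t f * ρ t f = ρ t f := by rw [← map_mul, hf]
      have e2 := h2 (f * ρ t f)
      calc b * b = f * f + (f * ρ t f + f * ρ t f) + ρ t f * ρ t f := by rw [hbdef]; ring
        _ = b := by rw [hf, e1, e2, add_zero]
    rcases hidF b hb hbb with h | h
    · exfalso
      have e1 : ρ t f = f := by
        have := h2 f
        calc ρ t f = (f + f) + ρ t f := by rw [this, zero_add]
          _ = f + (f + ρ t f) := by ring
          _ = f := by rw [← hbdef, h, add_zero]
      rcases hidF f (hF' f e1) hf with h' | h'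
      · exact h0 h'
      · exact h1 h'
    · calc ρ t f = (f + f) + ρ t f := by rw [h2, zero_add]
        _ = f + (f + ρ t f) := by ring
        _ = f + 1 := by rw [← hbdef, h]
  intro ht
  by_cases hex : ∃ f : R, f * f = f ∧ f ≠ 0 ∧ f ≠ 1
  · obtain ⟨f, hf, h0, h1⟩ := hex
    have key : ∀ g : Γ, ρ g f = f ∨ ρ g f = f + 1 := by
      intro g
      have e1 : ρ g f * ρ g f = ρ g f := by rw [← map_mul, hf]
      have e2 : ρ g f ≠ 0 := fun h => h0 ((map_eq_zero_iff _ (ρ g).injective).1 h)
      have e3 : ρ g f ≠ 1 := fun h => h1 ((map_eq_one_iff _ (ρ g).injective).1 h)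
      have e4 := hid _ e1 e2 e3
      have e5 := hid f hf h0 h1
      have e6 : (f + ρ g f) * (f + ρ g f) = f + ρ g f := by
        calc (f + ρ g f) * (f + ρ g f) = f * f + (f * ρ g f + f * ρ g f) + ρ g f * ρ g f := by ring
          _ = f + ρ g f := by rw [hf, e1, h2, add_zero]
      have e7 : ρ t (f + ρ g f) = f + ρ g f := by
        rw [map_add, e4, e5]
        calc f + 1 + (ρ g f + 1) = f + ρ g f + (1 + 1) := by ring
          _ = f + ρ g f := by rw [h2, add_zero]
      rcases hidF _ (hF' _ e7) e6 with h | h
      · left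
        calc ρ g f = f + f + ρ g f := by rw [h2, zero_add]
          _ = f + (f + ρ g f) := by ring
          _ = f := by rw [h, add_zero]
      · right
        calc ρ g f = f + f + ρ g f := by rw [h2, zero_add]
          _ = f + (f + ρ g f) := by ring
          _ = f + 1 := by rw [h]
    let N : Subgroup Γ :=
      { carrier := {g | ρ g f = f}
        one_mem' := by simp
        mul_mem' := by
          intro a b ha hb
          show ρ (a * b) f = f
          rw [map_mul, RingAut.mul_apply]
          rw [show ρ b f = f from hb]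
          exact ha
        inv_mem' := by
          intro a ha
          show ρ a⁻¹ f = f
          have ha' : ρ a f = f := ha
          have : ρ a⁻¹ (ρ a f) = f := by
            rw [← RingAut.mul_apply, ← map_mul, inv_mul_cancel, map_one, RingAut.one_apply]
          rwa [ha'] at this }
    have hN : commutator Γ ≤ N := by
      rw [commutator_def, Subgroup.commutator_le]
      intro g _ k _
      show ρ ⁅g, k⁆ f = f
      have hgk : ρ (g * k) f = ρ (k * g) f := by
        rw [map_mul, map_mul, RingAut.mul_apply, RingAut.mul_apply]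
        rcases key g with h | h <;> rcases key k with h' | h' <;>
          rw [h, h'] <;> (try rw [map_add, map_one]) <;> (try rw [map_add, map_one]) <;>
          (try rw [h]) <;> (try rw [h'])
      have e1 : ρ ⁅g, k⁆ (ρ (k * g) f) = ρ (g * k) f := by
        rw [← RingAut.mul_apply, ← map_mul]
        congr 2
        rw [commutatorElement_def]; group
      rw [hgk] at e1
      have e2 : ∀ g : Γ, ρ g f = f ∨ ρ g f = f + 1 := key
      rcases key (k * g) with h | h
      · rw [h] at e1; exact e1
      · rw [h, map_add, map_one] at e1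
        exact add_right_cancel e1
    have h3 : ρ t f = f := hN ht
    rw [hid f hf h0 h1] at h3
    exact h10 (left_eq_add.1 h3.symm)
  · -- `R` is a field
    push Not at hex
    have hfield : ∀ r : R, r ≠ 0 → ∃ s, r * s = 1 := by
      intro r hr
      have hb := hsub r
      set b := r + ρ t r with hbdef
      by_cases hb0 : b = 0
      · have e1 : ρ t r = r := by
          calc ρ t r = (r + r) + ρ t r := by rw [h2, zero_add]
            _ = r + (r + ρ t r) := by ring
            _ = r := by rw [← hbdef, hb0, add_zero]
        exact hinv r (hF' r e1) hr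
      · obtain ⟨c, hc⟩ := hinv b hb hb0
        have hn : r * ρ t r ∈ F := by
          apply hF'
          have e1 : ρ t (ρ t r) = r := by
            have : ρ t b = b := hF b hb
            rw [hbdef, map_add] at this
            calc ρ t (ρ t r) = (ρ t r + ρ t r) + ρ t (ρ t r) := by rw [h2, zero_add]
              _ = ρ t r + (ρ t r + ρ t (ρ t r)) := by ring
              _ = ρ t r + (r + ρ t r) := by rw [this]
              _ = r + (ρ t r + ρ t r) := by ring
              _ = r := by rw [h2, add_zero]
          rw [map_mul, e1, mul_comm]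
        by_cases hn0 : r * ρ t r = 0
        · exfalso
          have e1 : r * r = b * r := by
            calc r * r = r * r + r * ρ t r := by rw [hn0, add_zero]
              _ = b * r := by rw [hbdef]; ring
          have e2 : (c * r) * (c * r) = c * r := by
            calc (c * r) * (c * r) = c * c * (r * r) := by ring
              _ = (b * c) * (c * r) := by rw [e1]; ring
              _ = c * r := by rw [hc, one_mul]
          by_cases e3 : c * r = 0
          · apply hr
            calc r = (b * c) * r := by rw [hc, one_mul]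
              _ = b * (c * r) := by ring
              _ = 0 := by rw [e3, mul_zero]
          · have e4 := hex _ e2 e3
            have e5 : r = b := by
              calc r = (b * c) * r := by rw [hc, one_mul]
                _ = b * (c * r) := by ring
                _ = b := by rw [e4, mul_one]
            have e6 : ρ t r = 0 := by
              have : r = r + ρ t r := by rw [← hbdef]; exact e5
              exact (left_eq_add.1 this)
            exact hr ((map_eq_zero_iff _ (ρ t).injective).1 e6)
        · obtain ⟨d, hd⟩ := hinv _ hn hn0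
          exact ⟨ρ t r * d, by rw [← mul_assoc]; exact hd⟩
    have : Nontrivial R := ⟨1, 0, h10⟩
    have : NoZeroDivisors R := ⟨by
      intro a b hab
      by_cases ha : a = 0
      · exact Or.inl ha
      · right
        obtain ⟨s, hs⟩ := hfield a ha
        calc b = (a * s) * b := by rw [hs, one_mul]
          _ = s * (a * b) := by ring
          _ = 0 := by rw [hab, mul_zero]⟩
    have : IsDomain R := NoZeroDivisors.to_isDomain R
    have hker : commutator Γ ≤ ρ.ker := by
      rw [commutator_def, Subgroup.commutator_le]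
      intro g _ k _
      rw [MonoidHom.mem_ker, map_commutatorElement, commutatorElement_eq_one_iff_mul_comm]
      ext r
      rw [RingAut.mul_apply, RingAut.mul_apply]
      exact aut_comm _ _ r
    have h3 : ρ t = 1 := MonoidHom.mem_ker.1 (hker ht)
    rw [h3, RingAut.one_apply] at hθ
    exact h10 (left_eq_add.1 hθ)

end Cfsg.Agent.OddHalf.D7Out.RingEnd
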