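import Mathlib
import Cfsg.Agent.OddHalf.D7Out.RingEnd
import Cfsg.Agent.LieRecognition.FieldSemilinear

/-!
# Node D7 of S1765: the ring structure of a doubled long root group

`D = Q**` a class 2 group with central elementary abelian `V = W_ρ`; `A = W_s`, `B = W_{ρ-s}` doubled root groups,
`x1 ∈ A`, `y1 ∈ B`, `⁅x1, y1⁆ = z`, all three centralised by the involution `t`. Then `V` is a commutative ring with unit
`z`, product `⁅x, y1⁆ ∘ ⁅x1, y⁆ = ⁅x, y⁆`; `R = F + Fθ`, `F = C_V(t)`, and every element normalising `D` and `V` and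
centralising `z` acts by ring automorphisms.
-/

set_option autoImplicit false

open scoped commutatorElement

namespace Cfsg.Agent.OddHalf.D7Out.RingOut

open Subgroup

variable {G : Type*} [Group G]

/-- The input. -/
structure Inp (D V A B P TA : Subgroup G) (t z x1 y1 : G) : Prop where
  tt : t * t = 1
  V_le : V ≤ D
  V_sq : ∀ v ∈ V, v * v = 1
  V_cent : ∀ v ∈ V, ∀ x ∈ D, v * x = x * v
  comm : ∀ x ∈ D, ∀ y ∈ D, ⁅x, y⁆ ∈ V
  V_t : ∀ v ∈ V, t * v * t ∈ V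
  z_mem : z ∈ V
  z_ne : z ≠ 1
  A_le : A ≤ D
  B_le : B ≤ D
  A_t : ∀ x ∈ A, t * x * t ∈ A
  B_t : ∀ x ∈ B, t * x * t ∈ B
  x1A : x1 ∈ A
  y1B : y1 ∈ B
  x1t : x1 * t = t * x1
  y1t : y1 * t = t * y1
  xy : ⁅x1, y1⁆ = z
  /-- `A → V`, `x ↦ ⁅x, y1⁆` is onto, with kernel centralising `B` -/
  onA : ∀ v ∈ V, ∃ x ∈ A, ⁅x, y1⁆ = v
  onB : ∀ v ∈ V, ∃ y ∈ B, ⁅x1, y⁆ = v
  injA : ∀ x ∈ A, ⁅x, y1⁆ = 1 → ∀ y ∈ B, ⁅x, y⁆ = 1
  injB : ∀ y ∈ B, ⁅x1, y⁆ = 1 → ∀ x ∈ A, ⁅x, y⁆ = 1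
  /-- the torus: elements centralising `B`, acting as scalars on `A` and `V` -/
  TA_t : ∀ h ∈ TA, h * t = t * h
  TA_A : ∀ h ∈ TA, ∀ x ∈ A, h * x * h⁻¹ ∈ A
  TA_B : ∀ h ∈ TA, ∀ y ∈ B, h * y = y * h
  TA_V : ∀ h ∈ TA, ∀ v ∈ V, h * v * h⁻¹ ∈ V
  /-- the same scalars, acting on `B` -/
  TB : ∀ h ∈ TA, ∃ h' : G, (∀ x ∈ A, h' * x = x * h') ∧ (∀ y ∈ B, h' * y * h'⁻¹ ∈ B) ∧
    ∀ v ∈ V, h' * v * h'⁻¹ = h * v * h⁻¹
  trans : ∀ v ∈ V, v * t = t * v → v ≠ 1 → ∃ h ∈ TA, h * z * h⁻¹ = v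
  theta : ∃ θ ∈ V, t * θ * t = θ * z
  /-- `P` centralises `V`, normalises `D`, and `D` is generated by `V` and the `P`-conjugates of `A`, `B` -/
  P_V : ∀ p ∈ P, ∀ v ∈ V, p * v = v * p
  P_D : ∀ p ∈ P, ∀ x ∈ D, p * x * p⁻¹ ∈ D
  gen : ∀ M : Subgroup G, M ≤ D → A ≤ M → B ≤ M → V ≤ M → (∀ p ∈ P, ∀ x ∈ M, p * x * p⁻¹ ∈ M) → D ≤ M
  /-- `D = B C_D(A)` -/
  dec : ∀ y ∈ D, ∃ y' ∈ B, ∀ x ∈ A, ⁅x, y⁆ = ⁅x, y'⁆
  /-- `D = A C_D(B)` -/
  dec' : ∀ x ∈ D, ∃ x' ∈ A, ∀ y ∈ B, ⁅x, y⁆ = ⁅x', y⁆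

namespace Inp

variable {D V A B P TA : Subgroup G} {t z x1 y1 : G}

theorem tinv (h : Inp D V A B P TA t z x1 y1) : t⁻¹ = t := inv_eq_of_mul_eq_one_left h.tt

theorem conj_comm (g x y : G) : ⁅g * x * g⁻¹, g * y * g⁻¹⁆ = g * ⁅x, y⁆ * g⁻¹ := by
  simp only [commutatorElement_def]; group

theorem V_mul (h : Inp D V A B P TA t z x1 y1) : ∀ v ∈ V, ∀ w ∈ V, v * w = w * v :=
  fun v hv w hw => h.V_cent v hv w (h.V_le hw)

theorem cl (h : Inp D V A B P TA t z x1 y1) {x x' y : G} (hx : x ∈ D) (hx' : x' ∈ D) (hy : y ∈ D) :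
    ⁅x * x', y⁆ = ⁅x, y⁆ * ⁅x', y⁆ := by
  have e : ⁅x * x', y⁆ = (x * ⁅x', y⁆ * x⁻¹) * ⁅x, y⁆ := by
    simp only [commutatorElement_def]; group
  have c := h.V_cent _ (h.comm x' hx' y hy) x hx
  have e2 : x * ⁅x', y⁆ * x⁻¹ = ⁅x', y⁆ := by rw [← c]; group
  rw [e, e2]
  exact h.V_mul _ (h.comm x' hx' y hy) _ (h.comm x hx y hy)

theorem cs (h : Inp D V A B P TA t z x1 y1) {x y : G} (hx : x ∈ D) (hy : y ∈ D) :
    ⁅x, y⁆ = ⁅y, x⁆ := by
  have e : ⁅x, y⁆⁻¹ = ⁅y, x⁆ := commutatorElement_inv x y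
  rw [← e]
  exact (inv_eq_of_mul_eq_one_left (h.V_sq _ (h.comm x hx y hy))).symm

theorem cr (h : Inp D V A B P TA t z x1 y1) {x y y' : G} (hx : x ∈ D) (hy : y ∈ D) (hy' : y' ∈ D) :
    ⁅x, y * y'⁆ = ⁅x, y⁆ * ⁅x, y'⁆ := by
  rw [h.cs hx (mul_mem hy hy'), h.cl hy hy' hx, h.cs hy hx, h.cs hy' hx]

theorem ci (h : Inp D V A B P TA t z x1 y1) {x y : G} (hx : x ∈ D) (hy : y ∈ D) :
    ⁅x⁻¹, y⁆ = ⁅x, y⁆ := by
  have e := h.cl (inv_mem hx) hx hy
  rw [inv_mul_cancel, commutatorElement_one_left] at e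
  exact (mul_eq_one_iff_eq_inv.1 e.symm).trans
    (inv_eq_of_mul_eq_one_left (h.V_sq _ (h.comm x hx y hy)))

theorem eqA (h : Inp D V A B P TA t z x1 y1) {x x' : G} (hx : x ∈ A) (hx' : x' ∈ A)
    (e : ⁅x, y1⁆ = ⁅x', y1⁆) {y : G} (hy : y ∈ B) : ⁅x, y⁆ = ⁅x', y⁆ := by
  have h1 := h.injA (x * x'⁻¹) (mul_mem hx (inv_mem hx')) (by
    rw [h.cl (h.A_le hx) (inv_mem (h.A_le hx')) (h.B_le h.y1B), h.ci (h.A_le hx') (h.B_le h.y1B), e]
    exact h.V_sq _ (h.comm _ (h.A_le hx') _ (h.B_le h.y1B))) y hy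
  rw [h.cl (h.A_le hx) (inv_mem (h.A_le hx')) (h.B_le hy), h.ci (h.A_le hx') (h.B_le hy)] at h1
  exact (mul_eq_one_iff_eq_inv.1 h1).trans
    (inv_eq_of_mul_eq_one_left (h.V_sq _ (h.comm _ (h.A_le hx') _ (h.B_le hy))))

theorem eqB (h : Inp D V A B P TA t z x1 y1) {y y' : G} (hy : y ∈ B) (hy' : y' ∈ B)
    (e : ⁅x1, y⁆ = ⁅x1, y'⁆) {x : G} (hx : x ∈ A) : ⁅x, y⁆ = ⁅x, y'⁆ := by
  have hx1 := h.A_le h.x1A
  have ei : ⁅x1, y'⁻¹⁆ = ⁅x1, y'⁆ := by
    rw [h.cs hx1 (inv_mem (h.B_le hy')), h.ci (h.B_le hy') hx1, h.cs (h.B_le hy') hx1]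
  have h1 := h.injB (y * y'⁻¹) (mul_mem hy (inv_mem hy')) (by
    rw [h.cr hx1 (h.B_le hy) (inv_mem (h.B_le hy')), ei, e]
    exact h.V_sq _ (h.comm _ hx1 _ (h.B_le hy'))) x hx
  have ei' : ⁅x, y'⁻¹⁆ = ⁅x, y'⁆ := by
    rw [h.cs (h.A_le hx) (inv_mem (h.B_le hy')), h.ci (h.B_le hy') (h.A_le hx),
      h.cs (h.B_le hy') (h.A_le hx)]
  rw [h.cr (h.A_le hx) (h.B_le hy) (inv_mem (h.B_le hy')), ei'] at h1
  exact (mul_eq_one_iff_eq_inv.1 h1).trans
    (inv_eq_of_mul_eq_one_left (h.V_sq _ (h.comm _ (h.A_le hx) _ (h.B_le hy'))))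

/-! ### The product -/

/-- a preimage of `v` under `A → V` -/
noncomputable def pa (h : Inp D V A B P TA t z x1 y1) (v : ↥V) : G := (h.onA v v.2).choose

noncomputable def pb (h : Inp D V A B P TA t z x1 y1) (v : ↥V) : G := (h.onB v v.2).choose

theorem pa_mem (h : Inp D V A B P TA t z x1 y1) (v : ↥V) : h.pa v ∈ A := (h.onA v v.2).choose_spec.1

theorem pa_eq (h : Inp D V A B P TA t z x1 y1) (v : ↥V) : ⁅h.pa v, y1⁆ = v :=
  (h.onA v v.2).choose_spec.2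

theorem pb_mem (h : Inp D V A B P TA t z x1 y1) (v : ↥V) : h.pb v ∈ B := (h.onB v v.2).choose_spec.1

theorem pb_eq (h : Inp D V A B P TA t z x1 y1) (v : ↥V) : ⁅x1, h.pb v⁆ = v :=
  (h.onB v v.2).choose_spec.2

/-- The product of `V`. -/
noncomputable def mul (h : Inp D V A B P TA t z x1 y1) (v w : ↥V) : ↥V :=
  ⟨⁅h.pa v, h.pb w⁆, h.comm _ (h.A_le (h.pa_mem v)) _ (h.B_le (h.pb_mem w))⟩

theorem mul_eq (h : Inp D V A B P TA t z x1 y1) {x y : G} (hx : x ∈ A) (hy : y ∈ B) {v w : ↥V}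
    (ex : ⁅x, y1⁆ = v) (ey : ⁅x1, y⁆ = w) : (h.mul v w : G) = ⁅x, y⁆ := by
  show ⁅h.pa v, h.pb w⁆ = ⁅x, y⁆
  rw [h.eqA (h.pa_mem v) hx (by rw [ex]; exact h.pa_eq v) (h.pb_mem w),
    h.eqB (h.pb_mem w) hy (by rw [ey]; exact h.pb_eq w) hx]

/-- the unit -/
def one (h : Inp D V A B P TA t z x1 y1) : ↥V := ⟨z, h.z_mem⟩

theorem one_mul (h : Inp D V A B P TA t z x1 y1) (w : ↥V) : h.mul h.one w = w := by
  apply Subtype.ext
  rw [h.mul_eq h.x1A (h.pb_mem w) h.xy (h.pb_eq w)]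
  exact h.pb_eq w

theorem mul_one (h : Inp D V A B P TA t z x1 y1) (w : ↥V) : h.mul w h.one = w := by
  apply Subtype.ext
  rw [h.mul_eq (h.pa_mem w) h.y1B (h.pa_eq w) h.xy]
  exact h.pa_eq w

theorem add_left (h : Inp D V A B P TA t z x1 y1) (a b c : ↥V) :
    h.mul (a * b) c = h.mul a c * h.mul b c := by
  apply Subtype.ext
  have ha := h.pa_mem a
  have hb := h.pa_mem b
  rw [h.mul_eq (mul_mem ha hb) (h.pb_mem c) (v := a * b) (w := c)
    (by rw [h.cl (h.A_le ha) (h.A_le hb) (h.B_le h.y1B), h.pa_eq, h.pa_eq]; rfl) (h.pb_eq c),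
    h.cl (h.A_le ha) (h.A_le hb) (h.B_le (h.pb_mem c))]
  rfl

theorem add_right (h : Inp D V A B P TA t z x1 y1) (a b c : ↥V) :
    h.mul a (b * c) = h.mul a b * h.mul a c := by
  apply Subtype.ext
  have hb := h.pb_mem b
  have hc := h.pb_mem c
  rw [h.mul_eq (h.pa_mem a) (mul_mem hb hc) (v := a) (w := b * c) (h.pa_eq a)
    (by rw [h.cr (h.A_le h.x1A) (h.B_le hb) (h.B_le hc), h.pb_eq, h.pb_eq]; rfl),
    h.cr (h.A_le (h.pa_mem a)) (h.B_le hb) (h.B_le hc)]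
  rfl

/-! ### Scalars -/

/-- `s ∈ TA` acts on `V`. -/
def sc (h : Inp D V A B P TA t z x1 y1) {s : G} (hs : s ∈ TA) (v : ↥V) : ↥V :=
  ⟨s * v * s⁻¹, h.TA_V s hs v v.2⟩

theorem sc_left (h : Inp D V A B P TA t z x1 y1) {s : G} (hs : s ∈ TA) (v w : ↥V) :
    h.mul (h.sc hs v) w = h.sc hs (h.mul v w) := by
  apply Subtype.ext
  have hv := h.pa_mem v
  have cB : ∀ x, ∀ y ∈ B, ⁅s * x * s⁻¹, y⁆ = s * ⁅x, y⁆ * s⁻¹ := by
    intro x y hy
    have e : s * y * s⁻¹ = y := by rw [h.TA_B s hs y hy]; group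
    have e2 := conj_comm s x y
    rwa [e] at e2
  rw [h.mul_eq (x := s * h.pa v * s⁻¹) (h.TA_A s hs _ hv) (h.pb_mem w) (v := h.sc hs v) (w := w)
    (by rw [cB _ y1 h.y1B, h.pa_eq]; rfl) (h.pb_eq w), cB _ _ (h.pb_mem w)]
  rfl

theorem sc_right (h : Inp D V A B P TA t z x1 y1) {s : G} (hs : s ∈ TA) (v w : ↥V) :
    h.mul v (h.sc hs w) = h.sc hs (h.mul v w) := by
  apply Subtype.ext
  obtain ⟨s', hA, hB, hV⟩ := h.TB s hs
  have cA : ∀ x ∈ A, ∀ y, ⁅x, s' * y * s'⁻¹⁆ = s' * ⁅x, y⁆ * s'⁻¹ := by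
    intro x hx y
    have e : s' * x * s'⁻¹ = x := by rw [hA x hx]; group
    have e2 := conj_comm s' x y
    rwa [e] at e2
  have hw := h.pb_mem w
  rw [h.mul_eq (h.pa_mem v) (hB _ hw) (v := v) (w := h.sc hs w) (h.pa_eq v)
    (by rw [cA x1 h.x1A, h.pb_eq, hV _ w.2]; rfl), cA _ (h.pa_mem v),
    hV _ (h.comm _ (h.A_le (h.pa_mem v)) _ (h.B_le hw))]
  rfl

theorem sc_one (h : Inp D V A B P TA t z x1 y1) {s : G} (hs : s ∈ TA) (w : ↥V) :
    h.mul (h.sc hs h.one) w = h.sc hs w := by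
  rw [h.sc_left, h.one_mul]

theorem one_sc (h : Inp D V A B P TA t z x1 y1) {s : G} (hs : s ∈ TA) (w : ↥V) :
    h.mul w (h.sc hs h.one) = h.sc hs w := by
  rw [h.sc_right, h.mul_one]

/-- `F = C_V(t)`. -/
def F (_ : Inp D V A B P TA t z x1 y1) : Set ↥V := {v | (v : G) * t = t * v}

theorem F_cases (h : Inp D V A B P TA t z x1 y1) {a : ↥V} (ha : a ∈ h.F) :
    a = 1 ∨ ∃ s, ∃ hs : s ∈ TA, a = h.sc hs h.one := by
  by_cases h1 : (a : G) = 1
  · exact Or.inl (Subtype.ext h1)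
  · right
    obtain ⟨s, hs, e⟩ := h.trans a a.2 ha h1
    exact ⟨s, hs, Subtype.ext e.symm⟩

theorem mul_zero_left (h : Inp D V A B P TA t z x1 y1) (w : ↥V) : h.mul 1 w = 1 := by
  have := h.add_left 1 1 w
  rw [_root_.mul_one] at this
  exact (left_eq_mul.1 this)

theorem mul_zero_right (h : Inp D V A B P TA t z x1 y1) (w : ↥V) : h.mul w 1 = 1 := by
  have := h.add_right w 1 1
  rw [_root_.mul_one] at this
  exact (left_eq_mul.1 this)

/-- `t` acts on `V`. -/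
def tau (h : Inp D V A B P TA t z x1 y1) (v : ↥V) : ↥V := ⟨t * v * t, h.V_t v v.2⟩

theorem tau_mul (h : Inp D V A B P TA t z x1 y1) (v w : ↥V) : h.tau (v * w) = h.tau v * h.tau w := by
  apply Subtype.ext
  show t * ((v : G) * w) * t = t * v * t * (t * w * t)
  calc t * ((v : G) * w) * t = t * v * 1 * w * t := by group
    _ = t * v * (t * t) * w * t := by rw [h.tt]
    _ = t * v * t * (t * w * t) := by group

theorem tau_comm (h : Inp D V A B P TA t z x1 y1) (x y : G) :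
    t * ⁅x, y⁆ * t = ⁅t * x * t, t * y * t⁆ := by
  have := conj_comm t x y
  rw [h.tinv] at this
  exact this.symm

theorem tau_mulV (h : Inp D V A B P TA t z x1 y1) (v w : ↥V) :
    h.tau (h.mul v w) = h.mul (h.tau v) (h.tau w) := by
  apply Subtype.ext
  have ey1 : ∀ x, ⁅t * x * t, y1⁆ = t * ⁅x, y1⁆ * t := by
    intro x
    have e : t * y1 * t = y1 := by rw [← h.y1t, mul_assoc, h.tt, _root_.mul_one]
    rw [h.tau_comm, e]
  have ex1 : ∀ y, ⁅x1, t * y * t⁆ = t * ⁅x1, y⁆ * t := by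
    intro y
    have e : t * x1 * t = x1 := by rw [← h.x1t, mul_assoc, h.tt, _root_.mul_one]
    rw [h.tau_comm, e]
  rw [h.mul_eq (h.A_t _ (h.pa_mem v)) (h.B_t _ (h.pb_mem w)) (v := h.tau v) (w := h.tau w)
    (by rw [ey1, h.pa_eq]; rfl) (by rw [ex1, h.pb_eq]; rfl), ← h.tau_comm]
  rfl

theorem mem_F (h : Inp D V A B P TA t z x1 y1) {v : ↥V} : v ∈ h.F ↔ h.tau v = v := by
  constructor
  · intro hv
    apply Subtype.ext
    show t * (v : G) * t = v
    have : (v : G) * t = t * v := hv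
    rw [← this, mul_assoc, h.tt, _root_.mul_one]
  · intro hv
    have e : t * (v : G) * t = v := congrArg Subtype.val hv
    show (v : G) * t = t * v
    calc (v : G) * t = (t * v * t) * t := by rw [e]
      _ = t * v * (t * t) := by group
      _ = t * v := by rw [h.tt, _root_.mul_one]

theorem sq (h : Inp D V A B P TA t z x1 y1) (v : ↥V) : v * v = 1 := Subtype.ext (h.V_sq v v.2)

theorem mc (h : Inp D V A B P TA t z x1 y1) (v w : ↥V) : v * w = w * v :=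
  Subtype.ext (h.V_mul v v.2 w w.2)

theorem dec_F (h : Inp D V A B P TA t z x1 y1) {θ : ↥V} (hθ : h.tau θ = θ * h.one) (w : ↥V) :
    ∃ a ∈ h.F, ∃ b ∈ h.F, w = a * h.mul b θ := by
  have h2 : ∀ v, h.tau (h.tau v) = v := by
    intro v
    apply Subtype.ext
    show t * (t * (v : G) * t) * t = v
    calc t * (t * (v : G) * t) * t = (t * t) * v * (t * t) := by group
      _ = v := by rw [h.tt]; group
  have hb : w * h.tau w ∈ h.F := by
    rw [mem_F, tau_mul, h2, h.mc]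
  refine ⟨w * h.mul (w * h.tau w) θ, ?_, w * h.tau w, hb, ?_⟩
  · rw [mem_F, tau_mul, tau_mulV, (h.mem_F).1 hb, hθ, add_right, mul_one]
    set u := h.mul (w * h.tau w) θ
    have e : h.tau w * (w * h.tau w) = w := by rw [h.mc w, ← mul_assoc, h.sq, _root_.one_mul]
    calc h.tau w * (u * (w * h.tau w)) = h.tau w * ((w * h.tau w) * u) := by rw [h.mc u _]
      _ = (h.tau w * (w * h.tau w)) * u := by rw [mul_assoc (h.tau w) (w * h.tau w) u]
      _ = w * u := by rw [e]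
  · rw [mul_assoc, h.sq, _root_.mul_one]

/-- the additive group of `V` -/
@[reducible] def cg (h : Inp D V A B P TA t z x1 y1) : CommGroup ↥V :=
  { (inferInstance : Group ↥V) with mul_comm := h.mc }

theorem s1 (h : Inp D V A B P TA t z x1 y1) {a : ↥V} (ha : a ∈ h.F) (w : ↥V) :
    h.mul a w = h.mul w a := by
  rcases h.F_cases ha with e | ⟨s, hs, e⟩
  · rw [e, mul_zero_left, mul_zero_right]
  · rw [e, sc_one, one_sc]

theorem s2 (h : Inp D V A B P TA t z x1 y1) {a : ↥V} (ha : a ∈ h.F) (w w' : ↥V) :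
    h.mul (h.mul a w) w' = h.mul a (h.mul w w') := by
  rcases h.F_cases ha with e | ⟨s, hs, e⟩
  · rw [e, mul_zero_left, mul_zero_left, mul_zero_left]
  · rw [e, sc_one, sc_one, sc_left]

theorem s3 (h : Inp D V A B P TA t z x1 y1) {a : ↥V} (ha : a ∈ h.F) (w w' : ↥V) :
    h.mul w (h.mul a w') = h.mul a (h.mul w w') := by
  rcases h.F_cases ha with e | ⟨s, hs, e⟩
  · rw [e, mul_zero_left, mul_zero_left, mul_zero_right]
  · rw [e, sc_one, sc_one, sc_right]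

theorem alg (h : Inp D V A B P TA t z x1 y1) {θ : ↥V} (hθ : h.tau θ = θ * h.one) :
    let _ := h.cg
    RingEnd.Alg (Additive ↥V) (fun v w => Additive.ofMul (h.mul v.toMul w.toMul))
      (Additive.ofMul h.one) (Additive.ofMul θ) {v | v.toMul ∈ h.F} := by
  intro _
  exact
    { add_left := fun a b c => h.add_left a.toMul b.toMul c.toMul
      add_right := fun a b c => h.add_right a.toMul b.toMul c.toMul
      one_left := fun a => h.one_mul a.toMul
      s1 := fun a ha w => h.s1 ha w.toMul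
      s2 := fun a ha w w' => h.s2 ha w.toMul w'.toMul
      s3 := fun a ha w w' => h.s3 ha w.toMul w'.toMul
      dec := by
        intro w
        obtain ⟨a, ha, b, hb, e⟩ := h.dec_F hθ w.toMul
        exact ⟨Additive.ofMul a, ha, Additive.ofMul b, hb, e⟩ }

theorem exists_theta (h : Inp D V A B P TA t z x1 y1) : ∃ θ : ↥V, h.tau θ = θ * h.one := by
  obtain ⟨θ, hθ, e⟩ := h.theta
  exact ⟨⟨θ, hθ⟩, Subtype.ext e⟩

theorem mulV_comm (h : Inp D V A B P TA t z x1 y1) (v w : ↥V) : h.mul v w = h.mul w v := by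
  obtain ⟨θ, hθ⟩ := h.exists_theta
  let _ := h.cg
  exact (h.alg hθ).comm (Additive.ofMul v) (Additive.ofMul w)

theorem mulV_assoc (h : Inp D V A B P TA t z x1 y1) (u v w : ↥V) :
    h.mul (h.mul u v) w = h.mul u (h.mul v w) := by
  obtain ⟨θ, hθ⟩ := h.exists_theta
  let _ := h.cg
  exact (h.alg hθ).assoc (Additive.ofMul u) (Additive.ofMul v) (Additive.ofMul w)

/-- The commutative ring `V`. -/
@[reducible] noncomputable def ring (h : Inp D V A B P TA t z x1 y1) : CommRing (Additive ↥V) :=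
  letI := h.cg
  (h.alg h.exists_theta.choose_spec).ring

/-! ### The centroid -/

/-- The centroid condition for a function `f` on `V`. -/
def Cent (_ : Inp D V A B P TA t z x1 y1) (f : ↥V → ↥V) : Prop :=
  ∀ x ∈ D, ∃ x' ∈ D, ∀ y (_ : y ∈ D), ∀ v : ↥V, ⁅x, y⁆ = v → ⁅x', y⁆ = f v

theorem cent_mul (h : Inp D V A B P TA t z x1 y1) (r : ↥V) : h.Cent (fun v => h.mul v r) := by
  -- the subgroup of good elements
  let M : Subgroup G :=
    { carrier := {x | x ∈ D ∧ ∃ x' ∈ D, ∀ y (_ : y ∈ D), ∀ v : ↥V, ⁅x, y⁆ = v → ⁅x', y⁆ = h.mul v r}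
      one_mem' := by
        refine ⟨one_mem _, 1, one_mem _, ?_⟩
        intro y hy v hv
        rw [commutatorElement_one_left] at hv ⊢
        have : v = 1 := Subtype.ext hv.symm
        rw [this, mul_zero_left]; rfl
      mul_mem' := by
        rintro a b ⟨ha, a', ha', hav⟩ ⟨hb, b', hb', hbv⟩
        refine ⟨mul_mem ha hb, a' * b', mul_mem ha' hb', ?_⟩
        intro y hy v hv
        rw [h.cl ha hb hy] at hv
        rw [h.cl ha' hb' hy, hav y hy ⟨_, h.comm a ha y hy⟩ rfl, hbv y hy ⟨_, h.comm b hb y hy⟩ rfl]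
        have e : v = ⟨_, h.comm a ha y hy⟩ * ⟨_, h.comm b hb y hy⟩ := Subtype.ext hv.symm
        rw [e, h.add_left]; rfl
      inv_mem' := by
        rintro a ⟨ha, a', ha', hav⟩
        refine ⟨inv_mem ha, a', ha', ?_⟩
        intro y hy v hv
        rw [h.ci ha hy] at hv
        exact hav y hy v hv }
  have hM : D ≤ M := by
    apply h.gen M
    · intro x hx; exact hx.1
    · -- `A ≤ M`
      intro x hx
      have hxD := h.A_le hx
      refine ⟨hxD, h.pa (h.mul ⟨_, h.comm x hxD y1 (h.B_le h.y1B)⟩ r), h.A_le (h.pa_mem _), ?_⟩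
      intro y hy v hv
      obtain ⟨y', hy', hyy⟩ := h.dec y hy
      rw [hyy x hx] at hv
      rw [hyy _ (h.pa_mem _)]
      have e1 : (h.mul ⟨_, h.comm x hxD y1 (h.B_le h.y1B)⟩
          ⟨_, h.comm x1 (h.A_le h.x1A) y' (h.B_le hy')⟩ : G) = ⁅x, y'⁆ :=
        h.mul_eq hx hy' rfl rfl
      have e2 := h.mul_eq (h.pa_mem (h.mul ⟨_, h.comm x hxD y1 (h.B_le h.y1B)⟩ r)) hy'
        (w := ⟨_, h.comm x1 (h.A_le h.x1A) y' (h.B_le hy')⟩) (h.pa_eq _) rfl
      rw [← e2]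
      have e3 : v = h.mul ⟨_, h.comm x hxD y1 (h.B_le h.y1B)⟩
          ⟨_, h.comm x1 (h.A_le h.x1A) y' (h.B_le hy')⟩ := Subtype.ext (by rw [e1, hv])
      rw [e3, h.mulV_assoc, h.mulV_assoc, h.mulV_comm r]
    · -- `B ≤ M`
      intro x hx
      have hxD := h.B_le hx
      refine ⟨hxD, h.pb (h.mul ⟨_, h.comm x1 (h.A_le h.x1A) x hxD⟩ r), h.B_le (h.pb_mem _), ?_⟩
      intro y hy v hv
      obtain ⟨y', hy', hyy⟩ := h.dec' y hy
      rw [h.cs hxD hy, hyy x hx] at hv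
      rw [h.cs (h.B_le (h.pb_mem _)) hy, hyy _ (h.pb_mem _)]
      have e1 : (h.mul ⟨_, h.comm y' (h.A_le hy') y1 (h.B_le h.y1B)⟩
          ⟨_, h.comm x1 (h.A_le h.x1A) x hxD⟩ : G) = ⁅y', x⁆ :=
        h.mul_eq hy' hx rfl rfl
      have e2 := h.mul_eq hy' (h.pb_mem (h.mul ⟨_, h.comm x1 (h.A_le h.x1A) x hxD⟩ r))
        (v := ⟨_, h.comm y' (h.A_le hy') y1 (h.B_le h.y1B)⟩) rfl (h.pb_eq _)
      rw [← e2]
      have e3 : v = h.mul ⟨_, h.comm y' (h.A_le hy') y1 (h.B_le h.y1B)⟩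
          ⟨_, h.comm x1 (h.A_le h.x1A) x hxD⟩ := Subtype.ext (by rw [e1, hv])
      rw [e3, h.mulV_assoc]
    · -- `V ≤ M`
      intro x hx
      refine ⟨h.V_le hx, 1, one_mem _, ?_⟩
      intro y hy v hv
      have e : ⁅x, y⁆ = 1 := by
        rw [commutatorElement_eq_one_iff_mul_comm]; exact h.V_cent x hx y hy
      rw [e] at hv
      rw [commutatorElement_one_left]
      have : v = 1 := Subtype.ext hv.symm
      rw [this, mul_zero_left]; rfl
    · rintro p hp x ⟨hx, x', hx', hxv⟩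
      refine ⟨h.P_D p hp x hx, p * x' * p⁻¹, h.P_D p hp x' hx', ?_⟩
      intro y hy v hv
      have hy' : p⁻¹ * y * p ∈ D := by
        have := h.P_D p⁻¹ (inv_mem hp) y hy
        rwa [inv_inv] at this
      have ey : p * (p⁻¹ * y * p) * p⁻¹ = y := by group
      have hcv : ∀ a ∈ D, ⁅p * a * p⁻¹, y⁆ = ⁅a, p⁻¹ * y * p⁆ := by
        intro a ha
        have := conj_comm p a (p⁻¹ * y * p)
        rw [ey] at this
        rw [this, h.P_V p hp _ (h.comm a ha _ hy')]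
        group
      rw [hcv x hx] at hv
      rw [hcv x' hx']
      exact hxv _ hy' v hv
  intro x hx
  exact (hM hx).2

/-- two centroid functions commute -/
theorem cent_comm (h : Inp D V A B P TA t z x1 y1) {f g : ↥V → ↥V} (hf : h.Cent f) (hg : h.Cent g)
    (v : ↥V) : f (g v) = g (f v) := by
  have hx := h.A_le (h.pa_mem v)
  have hy := h.B_le h.y1B
  obtain ⟨x', hx', hx''⟩ := hg _ hx
  obtain ⟨y', hy', hy''⟩ := hf _ hy
  -- `g v = ⁅x', y1⁆`, `f v = ⁅y', x⁆`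
  have e1 : ⁅x', y1⁆ = g v := hx'' y1 hy v (h.pa_eq v)
  have e2 : ⁅y', h.pa v⁆ = f v := hy'' _ hx v (by rw [h.cs hy hx]; exact h.pa_eq v)
  have e3 : ⁅y', x'⁆ = f (g v) := hy'' _ hx' (g v) (by rw [h.cs hy hx']; exact e1)
  have e4 : ⁅x', y'⁆ = g (f v) := hx'' y' hy' (f v) (by rw [h.cs hx hy']; exact e2)
  apply Subtype.ext
  rw [← e3, ← e4]
  exact h.cs hy' hx'

/-- **(R1)** Every element normalising `D` and `V` and centralising `z` acts by ring automorphisms. -/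
theorem conj_mul (h : Inp D V A B P TA t z x1 y1) {g : G} (gD : ∀ x ∈ D, g * x * g⁻¹ ∈ D)
    (gD' : ∀ x ∈ D, g⁻¹ * x * g ∈ D) (gV : ∀ v ∈ V, g * v * g⁻¹ ∈ V)
    (gV' : ∀ v ∈ V, g⁻¹ * v * g ∈ V) (gz : g * z = z * g) (v w v' w' : ↥V)
    (hv : g * v * g⁻¹ = v') (hw : g * w * g⁻¹ = w') : g * (h.mul v w : G) * g⁻¹ = h.mul v' w' := by
  -- the conjugate of the multiplication by `w`
  let f : ↥V → ↥V := fun u => ⟨g * (h.mul ⟨g⁻¹ * u * g, gV' u u.2⟩ w : G) * g⁻¹, gV _ (h.mul _ w).2⟩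
  have hf : h.Cent f := by
    intro x hx
    obtain ⟨x', hx', hxv⟩ := h.cent_mul w _ (gD' x hx)
    refine ⟨g * x' * g⁻¹, gD x' hx', ?_⟩
    intro y hy u hu
    have e : ⁅g⁻¹ * x * g, g⁻¹ * y * g⁆ = g⁻¹ * ⁅x, y⁆ * g := by
      have := conj_comm g⁻¹ x y
      rwa [inv_inv] at this
    have e2 := hxv (g⁻¹ * y * g) (gD' y hy) ⟨g⁻¹ * u * g, gV' u u.2⟩ (by rw [e, hu])
    have e3 : ⁅g * x' * g⁻¹, y⁆ = g * ⁅x', g⁻¹ * y * g⁆ * g⁻¹ := by
      have := conj_comm g x' (g⁻¹ * y * g)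
      have ey : g * (g⁻¹ * y * g) * g⁻¹ = y := by group
      rwa [ey] at this
    rw [e3, e2]
  -- evaluate at `v' = z ∘ v'`
  have h1 := h.cent_comm hf (h.cent_mul v') h.one
  have hz : (⟨g⁻¹ * (h.one : ↥V) * g, gV' _ h.one.2⟩ : ↥V) = h.one := by
    apply Subtype.ext
    show g⁻¹ * z * g = z
    rw [mul_assoc, ← gz]; group
  have h2 : f h.one = w' := by
    apply Subtype.ext
    show g * (h.mul ⟨g⁻¹ * (h.one : ↥V) * g, gV' _ h.one.2⟩ w : G) * g⁻¹ = w'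
    rw [hz, h.one_mul, hw]
  have h3 : (f v' : G) = g * (h.mul v w : G) * g⁻¹ := by
    show g * (h.mul ⟨g⁻¹ * (v' : G) * g, gV' _ v'.2⟩ w : G) * g⁻¹ = _
    have : (⟨g⁻¹ * (v' : G) * g, gV' _ v'.2⟩ : ↥V) = v := by
      apply Subtype.ext
      show g⁻¹ * (v' : G) * g = v
      rw [← hv]; group
    rw [this]
  rw [h.one_mul] at h1
  rw [h2] at h1
  rw [← h3, h1, h.mulV_comm]

/-! ### Idempotents and fields -/

section Ring

variable {R : Type*} [CommRing R]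

/-- The hypotheses on the ring `R = F + F θ` with the involution `τ`. -/
structure RT (R : Type*) [CommRing R] (τ : R ≃+* R) : Prop where
  two : ∀ r : R, r + r = 0
  inv : ∀ a : R, τ a = a → a ≠ 0 → ∃ b, a * b = 1
  tt : ∀ a, τ (τ a) = a

theorem RT.idem_fix {τ : R ≃+* R} (H : RT R τ) {a : R} (ha : τ a = a) (haa : a * a = a) :
    a = 0 ∨ a = 1 := by
  by_cases h0 : a = 0
  · exact Or.inl h0
  · obtain ⟨b, hb⟩ := H.inv a ha h0
    right
    calc a = a * (a * b) := by rw [hb, _root_.mul_one]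
      _ = a * a * b := by ring
      _ = a * b := by rw [haa]
      _ = 1 := hb

theorem RT.idem {τ : R ≃+* R} (H : RT R τ) {f : R} (hf : f * f = f) (h0 : f ≠ 0) (h1 : f ≠ 1) :
    τ f = f + 1 := by
  have hb : τ (f + τ f) = f + τ f := by rw [map_add, H.tt, add_comm]
  have hbb : (f + τ f) * (f + τ f) = f + τ f := by
    have e1 : τ f * τ f = τ f := by rw [← map_mul, hf]
    calc (f + τ f) * (f + τ f) = f * f + (f * τ f + f * τ f) + τ f * τ f := by ring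
      _ = f + τ f := by rw [hf, e1, H.two, add_zero]
  rcases H.idem_fix hb hbb with h | h
  · exfalso
    have e1 : τ f = f := by
      calc τ f = (f + f) + τ f := by rw [H.two, zero_add]
        _ = f + (f + τ f) := by ring
        _ = f := by rw [h, add_zero]
    rcases H.idem_fix e1 hf with h' | h'
    · exact h0 h'
    · exact h1 h'
  · calc τ f = (f + f) + τ f := by rw [H.two, zero_add]
      _ = f + (f + τ f) := by ring
      _ = f + 1 := by rw [h]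

theorem RT.field {τ : R ≃+* R} (H : RT R τ) (hid : ∀ f : R, f * f = f → f ≠ 0 → f = 1) :
    ∀ r : R, r ≠ 0 → ∃ s, r * s = 1 := by
  intro r hr
  have hb : τ (r + τ r) = r + τ r := by rw [map_add, H.tt, add_comm]
  by_cases hb0 : r + τ r = 0
  · have e1 : τ r = r := by
      calc τ r = (r + r) + τ r := by rw [H.two, zero_add]
        _ = r + (r + τ r) := by ring
        _ = r := by rw [hb0, add_zero]
    exact H.inv r e1 hr
  · obtain ⟨c, hc⟩ := H.inv _ hb hb0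
    have hn : τ (r * τ r) = r * τ r := by rw [map_mul, H.tt, mul_comm]
    by_cases hn0 : r * τ r = 0
    · exfalso
      set b := r + τ r with hbdef
      have e1 : r * r = b * r := by
        calc r * r = r * r + r * τ r := by rw [hn0, add_zero]
          _ = b * r := by rw [hbdef]; ring
      have e2 : (c * r) * (c * r) = c * r := by
        calc (c * r) * (c * r) = c * c * (r * r) := by ring
          _ = (b * c) * (c * r) := by rw [e1]; ring
          _ = c * r := by rw [hc, _root_.one_mul]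
      by_cases e3 : c * r = 0
      · apply hr
        calc r = (b * c) * r := by rw [hc, _root_.one_mul]
          _ = b * (c * r) := by ring
          _ = 0 := by rw [e3, mul_zero]
      · have e4 := hid _ e2 e3
        have e5 : r = b := by
          calc r = (b * c) * r := by rw [hc, _root_.one_mul]
            _ = b * (c * r) := by ring
            _ = b := by rw [e4, _root_.mul_one]
        have e6 : τ r = 0 := by
          have : r = r + τ r := by rw [← hbdef]; exact e5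
          exact (left_eq_add.1 this)
        exact hr ((map_eq_zero_iff _ τ.injective).1 e6)
    · obtain ⟨d, hd⟩ := H.inv _ hn hn0
      exact ⟨τ r * d, by rw [← mul_assoc]; exact hd⟩

end Ring

/-- The automorphism of the ring `V` induced by `g`. -/
noncomputable def equivOf (h : Inp D V A B P TA t z x1 y1) (g : G) (gV : ∀ v ∈ V, g * v * g⁻¹ ∈ V)
    (gV' : ∀ v ∈ V, g⁻¹ * v * g ∈ V)
    (hm : ∀ v w v' w' : ↥V, g * v * g⁻¹ = v' → g * w * g⁻¹ = w' →
      g * (h.mul v w : G) * g⁻¹ = h.mul v' w') :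
    let _ := h.ring
    Additive ↥V ≃+* Additive ↥V :=
  letI := h.ring
  { toFun := fun v => Additive.ofMul ⟨g * v.toMul * g⁻¹, gV _ v.toMul.2⟩
    invFun := fun v => Additive.ofMul ⟨g⁻¹ * v.toMul * g, gV' _ v.toMul.2⟩
    left_inv := fun v => by
      apply Subtype.ext
      show g⁻¹ * (g * (v.toMul : G) * g⁻¹) * g = v.toMul
      group
    right_inv := fun v => by
      apply Subtype.ext
      show g * (g⁻¹ * (v.toMul : G) * g) * g⁻¹ = v.toMul
      group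
    map_mul' := fun v w => by
      apply Subtype.ext
      exact hm v.toMul w.toMul _ _ rfl rfl
    map_add' := fun v w => by
      apply Subtype.ext
      show g * ((v.toMul : G) * w.toMul) * g⁻¹ = g * v.toMul * g⁻¹ * (g * w.toMul * g⁻¹)
      group }

theorem equivOf_apply (h : Inp D V A B P TA t z x1 y1) (g : G) (gV gV' hm) (v : ↥V) :
    (((h.equivOf g gV gV' hm (Additive.ofMul v)).toMul : ↥V) : G) = g * v * g⁻¹ := rfl

theorem tau_cond (h : Inp D V A B P TA t z x1 y1) :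
    (∀ v ∈ V, t * v * t⁻¹ ∈ V) ∧ (∀ v ∈ V, t⁻¹ * v * t ∈ V) ∧
    ∀ v w v' w' : ↥V, t * v * t⁻¹ = v' → t * w * t⁻¹ = w' →
      t * (h.mul v w : G) * t⁻¹ = h.mul v' w' := by
  rw [h.tinv]
  refine ⟨h.V_t, h.V_t, ?_⟩
  intro v w v' w' hv hw
  have e1 : v' = h.tau v := Subtype.ext hv.symm
  have e2 : w' = h.tau w := Subtype.ext hw.symm
  rw [e1, e2, ← h.tau_mulV]; rfl

/-- `t` as a ring automorphism -/
noncomputable def tauE (h : Inp D V A B P TA t z x1 y1) :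
    let _ := h.ring
    Additive ↥V ≃+* Additive ↥V :=
  h.equivOf t h.tau_cond.1 h.tau_cond.2.1 h.tau_cond.2.2

theorem sc_inv (h : Inp D V A B P TA t z x1 y1) {s : G} (hs : s ∈ TA) (v : ↥V) :
    h.sc hs (h.sc (inv_mem hs) v) = v := by
  apply Subtype.ext
  show s * (s⁻¹ * (v : G) * s⁻¹⁻¹) * s⁻¹ = v
  group

theorem rt (h : Inp D V A B P TA t z x1 y1) :
    let _ := h.ring
    RT (Additive ↥V) h.tauE := by
  intro _
  refine ⟨fun r => h.sq r.toMul, ?_, ?_⟩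
  · intro a ha h0
    have hF : a.toMul ∈ h.F := by
      rw [mem_F]
      apply Subtype.ext
      have : (((h.tauE a).toMul : ↥V) : G) = a.toMul := by rw [ha]
      calc t * (a.toMul : G) * t = t * (a.toMul : G) * t⁻¹ := by rw [h.tinv]
        _ = a.toMul := this
    rcases h.F_cases hF with e | ⟨s, hs, e⟩
    · exact absurd e h0
    · refine ⟨Additive.ofMul (h.sc (inv_mem hs) h.one), ?_⟩
      show h.mul a.toMul (h.sc (inv_mem hs) h.one) = h.one
      rw [e, h.sc_one, h.sc_inv]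
  · intro a
    apply Subtype.ext
    show t * (t * (a.toMul : G) * t⁻¹) * t⁻¹ = a.toMul
    rw [h.tinv]
    calc t * (t * (a.toMul : G) * t) * t = (t * t) * a.toMul * (t * t) := by group
      _ = a.toMul := by rw [h.tt]; group

/-- **(R2), the dichotomy**, raw form. -/
theorem cases (h : Inp D V A B P TA t z x1 y1) :
    (∃ e : ↥V, h.mul e e = e ∧ e ≠ 1 ∧ e ≠ h.one ∧ h.tau e = e * h.one) ∨
    ∀ v : ↥V, v ≠ 1 → ∃ w, h.mul v w = h.one := by
  let _ := h.ring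
  have H : RT (Additive ↥V) h.tauE := h.rt
  by_cases hex : ∃ f : Additive ↥V, f * f = f ∧ f ≠ 0 ∧ f ≠ 1
  · left
    obtain ⟨f, hf, h0, h1⟩ := hex
    refine ⟨f.toMul, hf, h0, h1, ?_⟩
    have h2 := H.idem hf h0 h1
    apply Subtype.ext
    have h3 : (((h.tauE f).toMul : ↥V) : G) = (f.toMul * h.one : ↥V) := by rw [h2]; rfl
    show t * (f.toMul : G) * t = _
    rw [← h3]
    show t * (f.toMul : G) * t = t * (f.toMul : G) * t⁻¹
    rw [h.tinv]
  · right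
    push Not at hex
    intro v hv
    exact H.field hex (Additive.ofMul v) hv

/-! ### Case A -/

/-- `e ∘ V`. -/
def Ae (h : Inp D V A B P TA t z x1 y1) (e : ↥V) : Subgroup G where
  carrier := {v | ∃ hv : v ∈ V, h.mul e ⟨v, hv⟩ = ⟨v, hv⟩}
  one_mem' := ⟨one_mem _, h.mul_zero_right e⟩
  mul_mem' := by
    rintro a b ⟨ha, ha'⟩ ⟨hb, hb'⟩
    refine ⟨mul_mem ha hb, ?_⟩
    have := h.add_right e ⟨a, ha⟩ ⟨b, hb⟩
    rw [ha', hb'] at this
    exact this
  inv_mem' := by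
    rintro a ⟨ha, ha'⟩
    have e1 : a⁻¹ = a := inv_eq_of_mul_eq_one_left (h.V_sq a ha)
    rw [e1]; exact ⟨ha, ha'⟩

theorem mem_Ae (h : Inp D V A B P TA t z x1 y1) {e v : ↥V} :
    (v : G) ∈ h.Ae e ↔ h.mul e v = v := by
  constructor
  · rintro ⟨_, h'⟩; exact h'
  · intro h'; exact ⟨v.2, h'⟩

theorem Ae_le (h : Inp D V A B P TA t z x1 y1) (e : ↥V) : h.Ae e ≤ V := fun _ hv => hv.1

/-- The data of case A. -/
structure Idem (h : Inp D V A B P TA t z x1 y1) (e : ↥V) : Prop where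
  ee : h.mul e e = e
  ne0 : e ≠ 1
  ne1 : e ≠ h.one
  tau : h.tau e = e * h.one

/-- **(R2), the dichotomy.** -/
theorem idem_or_field (h : Inp D V A B P TA t z x1 y1) :
    (∃ e : ↥V, Idem h e) ∨ ∀ v : ↥V, v ≠ 1 → ∃ w, h.mul v w = h.one := by
  rcases h.cases with ⟨e, h1, h2, h3, h4⟩ | h1
  · exact Or.inl ⟨e, h1, h2, h3, h4⟩
  · exact Or.inr h1

/-- `e (1 + e) = 0`. -/
theorem Idem.orth {h : Inp D V A B P TA t z x1 y1} {e : ↥V} (I : Idem h e) :
    h.mul e (e * h.one) = 1 := by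
  rw [h.add_right, I.ee, h.mul_one, h.sq]

theorem Idem.tau_mem {h : Inp D V A B P TA t z x1 y1} {e : ↥V} (I : Idem h e) {v : ↥V} :
    t * (v : G) * t ∈ h.Ae e ↔ h.mul (e * h.one) v = v := by
  have e0 : t * (v : G) * t = (h.tau v : ↥V) := rfl
  rw [e0, h.mem_Ae]
  have h2 : ∀ v, h.tau (h.tau v) = v := by
    intro v
    apply Subtype.ext
    show t * (t * (v : G) * t) * t = v
    calc t * (t * (v : G) * t) * t = (t * t) * v * (t * t) := by group
      _ = v := by rw [h.tt]; group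
  constructor
  · intro h'
    have := congrArg h.tau h'
    rwa [h.tau_mulV, h2, I.tau] at this
  · intro h'
    have := congrArg h.tau h'
    rw [h.tau_mulV, ← I.tau, h2] at this
    exact this

/-- `V = A' × tA't`. -/
theorem Idem.inf {h : Inp D V A B P TA t z x1 y1} {e : ↥V} (I : Idem h e) {v : G} (hv : v ∈ h.Ae e)
    (hv' : t * v * t ∈ h.Ae e) : v = 1 := by
  have h1 : h.mul e ⟨v, hv.1⟩ = ⟨v, hv.1⟩ := hv.2
  have h2 : h.mul (e * h.one) ⟨v, hv.1⟩ = ⟨v, hv.1⟩ :=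
    (I.tau_mem (v := ⟨v, hv.1⟩)).1 hv'
  have h3 : h.mul e (h.mul (e * h.one) ⟨v, hv.1⟩) = 1 := by
    rw [← h.mulV_assoc, I.orth, h.mul_zero_left]
  rw [h2, h1] at h3
  exact congrArg Subtype.val h3

theorem Idem.exists_mul {h : Inp D V A B P TA t z x1 y1} {e : ↥V} (I : Idem h e) {v : G}
    (hv : v ∈ V) : ∃ a ∈ h.Ae e, ∃ b ∈ h.Ae e, v = a * (t * b * t) := by
  refine ⟨h.mul e ⟨v, hv⟩, (h.mem_Ae).2 ?_, h.tau (h.mul (e * h.one) ⟨v, hv⟩), ?_, ?_⟩
  · rw [← h.mulV_assoc, I.ee]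
  · have := (I.tau_mem (v := h.mul (e * h.one) ⟨v, hv⟩)).2 (by
      rw [← h.mulV_assoc]
      congr 1
      rw [h.add_left, h.one_mul, I.orth, _root_.one_mul])
    exact this
  · have e1 : t * ((h.tau (h.mul (e * h.one) ⟨v, hv⟩) : ↥V) : G) * t =
        (h.mul (e * h.one) ⟨v, hv⟩ : ↥V) := by
      show t * (t * ((h.mul (e * h.one) ⟨v, hv⟩ : ↥V) : G) * t) * t = _
      calc t * (t * ((h.mul (e * h.one) ⟨v, hv⟩ : ↥V) : G) * t) * t
          = (t * t) * ((h.mul (e * h.one) ⟨v, hv⟩ : ↥V) : G) * (t * t) := by group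
        _ = _ := by rw [h.tt]; group
    rw [e1]
    have e2 : (⟨v, hv⟩ : ↥V) = h.mul e ⟨v, hv⟩ * h.mul (e * h.one) ⟨v, hv⟩ := by
      rw [h.add_left, h.one_mul, ← mul_assoc, h.sq, _root_.one_mul]
    exact congrArg Subtype.val e2

/-- scalars normalise `A'` -/
theorem Idem.scalar {h : Inp D V A B P TA t z x1 y1} {e : ↥V} (_I : Idem h e) {k s : G} (hs : s ∈ TA)
    (hk : ∀ v ∈ V, k * v * k⁻¹ = s * v * s⁻¹) {v : G} (hv : v ∈ h.Ae e) : k * v * k⁻¹ ∈ h.Ae e := by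
  rw [hk v hv.1]
  have h1 : h.mul e ⟨v, hv.1⟩ = ⟨v, hv.1⟩ := hv.2
  have h2 : h.mul e (h.sc hs ⟨v, hv.1⟩) = h.sc hs ⟨v, hv.1⟩ := by rw [h.sc_right, h1]
  exact (h.mem_Ae (v := h.sc hs ⟨v, hv.1⟩)).2 h2

/-- **(R2)(A)**: the two halves of the doubled root groups commute. `m`, `m'` are elements of `K` which conjugate
`A = W_s`, `B = W_{ρ-s}` to `V` in the way given by the commutators with `y1`, `x1`. -/
theorem Idem.commute {h : Inp D V A B P TA t z x1 y1} {e : ↥V} (I : Idem h e) {m m' : G}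
    (hm : ∀ x ∈ A, m * x * m⁻¹ = ⁅x, y1⁆) (hm' : ∀ y ∈ B, m' * y * m'⁻¹ = ⁅x1, y⁆) {v w : G}
    (hvw : (v ∈ h.Ae e ∧ t * w * t ∈ h.Ae e ∧ w ∈ V) ∨ (t * v * t ∈ h.Ae e ∧ v ∈ V ∧ w ∈ h.Ae e)) :
    (m⁻¹ * v * m) * (m'⁻¹ * w * m') = (m'⁻¹ * w * m') * (m⁻¹ * v * m) := by
  have hv : v ∈ V := by
    rcases hvw with h1 | h1
    · exact h1.1.1
    · exact h1.2.1
  have hw : w ∈ V := by
    rcases hvw with h1 | h1
    · exact h1.2.2
    · exact h1.2.2.1
  have ex : m⁻¹ * v * m = h.pa ⟨v, hv⟩ := by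
    have := hm _ (h.pa_mem ⟨v, hv⟩)
    rw [h.pa_eq] at this
    have e2 : v = m * h.pa ⟨v, hv⟩ * m⁻¹ := this.symm
    conv_lhs => rw [e2]
    group
  have ey : m'⁻¹ * w * m' = h.pb ⟨w, hw⟩ := by
    have := hm' _ (h.pb_mem ⟨w, hw⟩)
    rw [h.pb_eq] at this
    have e2 : w = m' * h.pb ⟨w, hw⟩ * m'⁻¹ := this.symm
    conv_lhs => rw [e2]
    group
  rw [ex, ey, ← commutatorElement_eq_one_iff_mul_comm]
  have h1 : ((h.mul ⟨v, hv⟩ ⟨w, hw⟩ : ↥V) : G) = ⁅h.pa ⟨v, hv⟩, h.pb ⟨w, hw⟩⁆ := rfl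
  rw [← h1]
  have key : ∀ a b : ↥V, h.mul e a = a → h.mul (e * h.one) b = b → h.mul a b = 1 := by
    intro a b ha hb
    rw [← ha, ← hb, h.mulV_assoc e a, h.mulV_comm a, h.mulV_assoc (e * h.one), ← h.mulV_assoc e,
      I.orth, h.mul_zero_left]
  rcases hvw with ⟨h2, h3, -⟩ | ⟨h2, -, h3⟩
  · have h4 := (I.tau_mem (v := ⟨w, hw⟩)).1 h3
    rw [key ⟨v, hv⟩ ⟨w, hw⟩ h2.2 h4]; rfl
  · have h4 := (I.tau_mem (v := ⟨v, hv⟩)).1 h2
    rw [h.mulV_comm, key ⟨w, hw⟩ ⟨v, hv⟩ h3.2 h4]; rfl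

/-! ### The size of `A'` -/

theorem Idem.card {h : Inp D V A B P TA t z x1 y1} {e : ↥V} (I : Idem h e) :
    Nat.card (h.Ae e) * Nat.card (h.Ae e) = Nat.card V := by
  rw [← Nat.card_prod]
  have hT : ∀ b : ↥(h.Ae e), t * (b : G) * t ∈ V := fun b => h.V_t _ (h.Ae_le e b.2)
  refine Nat.card_congr (Equiv.ofBijective
    (fun p : ↥(h.Ae e) × ↥(h.Ae e) => (⟨(p.1 : G) * (t * p.2 * t),
      mul_mem (h.Ae_le e p.1.2) (hT p.2)⟩ : ↥V)) ⟨?_, ?_⟩)
  · rintro ⟨a, b⟩ ⟨a', b'⟩ hab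
    have h1 : (a : G) * (t * b * t) = a' * (t * b' * t) := congrArg Subtype.val hab
    have tb : ∀ b : G, (t * b * t)⁻¹ = t * b⁻¹ * t := by
      intro b
      rw [mul_inv_rev, mul_inv_rev, h.tinv, mul_assoc]
    have h2 : (a' : G)⁻¹ * a = t * (b' * (b : G)⁻¹) * t := by
      have h3 : (a' : G)⁻¹ * a = (t * b' * t) * (t * b * t)⁻¹ := by
        rw [eq_mul_inv_iff_mul_eq, mul_assoc, h1]; group
      rw [h3, tb]
      calc t * (b' : G) * t * (t * (b : G)⁻¹ * t) = t * b' * (t * t) * (b : G)⁻¹ * t := by group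
        _ = t * (b' * (b : G)⁻¹) * t := by rw [h.tt]; group
    have h4 : (a' : G)⁻¹ * a = 1 := by
      apply I.inf (mul_mem (inv_mem a'.2) a.2)
      rw [h2]
      have : t * (t * ((b' : G) * (b : G)⁻¹) * t) * t = (b' : G) * (b : G)⁻¹ := by
        calc t * (t * ((b' : G) * (b : G)⁻¹) * t) * t = (t * t) * ((b' : G) * (b : G)⁻¹) * (t * t) := by
              group
          _ = _ := by rw [h.tt]; group
      rw [this]
      exact mul_mem b'.2 (inv_mem b.2)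
    have h5 : (a : G) = a' := by
      rw [inv_mul_eq_one] at h4; exact h4.symm
    have h6 : (b : G) = b' := by
      rw [h5] at h1
      have h7 := mul_left_cancel h1
      exact mul_left_cancel (mul_right_cancel h7)
    exact Prod.ext (Subtype.ext h5) (Subtype.ext h6)
  · rintro ⟨v, hv⟩
    obtain ⟨a, ha, b, hb, e1⟩ := I.exists_mul hv
    exact ⟨(⟨a, ha⟩, ⟨b, hb⟩), Subtype.ext e1.symm⟩

/-! ### Case B -/

/-- the only involution of a cyclic group -/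
theorem eq_of_isCyclic {C : Type*} [Group C] [Finite C] (hC : IsCyclic C) {a b : C} (ha : a * a = 1)
    (ha1 : a ≠ 1) (hb : b * b = 1) (hb1 : b ≠ 1) : a = b := by
  classical
  have := Fintype.ofFinite C
  have h1 : (Finset.univ.filter fun x : C => x ^ 2 = 1).card ≤ 2 :=
    IsCyclic.card_pow_eq_one_le (by norm_num)
  by_contra hab
  have h2 : ({1, a, b} : Finset C) ⊆ Finset.univ.filter fun x : C => x ^ 2 = 1 := by
    intro x hx
    simp only [Finset.mem_insert, Finset.mem_singleton] at hx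
    simp only [Finset.mem_filter, Finset.mem_univ, true_and, pow_two]
    rcases hx with rfl | rfl | rfl
    · simp
    · exact ha
    · exact hb
  have h3 := Finset.card_le_card h2
  have h4 : ({1, a, b} : Finset C).card = 3 := by
    rw [Finset.card_eq_three]
    exact ⟨1, a, b, fun h => ha1 h.symm, fun h => hb1 h.symm, hab, rfl⟩
  omega

/-- the hypotheses on a subgroup `T` acting on `V` by ring automorphisms -/
structure Act (_ : Inp D V A B P TA t z x1 y1) (T : Subgroup G) : Prop where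
  TD : ∀ g ∈ T, ∀ x ∈ D, g * x * g⁻¹ ∈ D
  TV : ∀ g ∈ T, ∀ v ∈ V, g * v * g⁻¹ ∈ V
  Tz : ∀ g ∈ T, g * z = z * g

theorem Act.TD' {h : Inp D V A B P TA t z x1 y1} {T : Subgroup G} (H : Act h T) :
    ∀ g ∈ T, ∀ x ∈ D, g⁻¹ * x * g ∈ D := by
  intro g hg x hx
  have := H.TD g⁻¹ (inv_mem hg) x hx
  rwa [inv_inv] at this

theorem Act.TV' {h : Inp D V A B P TA t z x1 y1} {T : Subgroup G} (H : Act h T) :
    ∀ g ∈ T, ∀ x ∈ V, g⁻¹ * x * g ∈ V := by
  intro g hg x hx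
  have := H.TV g⁻¹ (inv_mem hg) x hx
  rwa [inv_inv] at this

/-- The homomorphism `T → Aut(V, ∘)`. -/
noncomputable def Act.hom {h : Inp D V A B P TA t z x1 y1} {T : Subgroup G} (H : Act h T) :
    let _ := h.ring
    T →* (Additive ↥V ≃+* Additive ↥V) :=
  letI := h.ring
  { toFun := fun g => h.equivOf g (H.TV g g.2) (H.TV' g g.2)
      (h.conj_mul (H.TD g g.2) (H.TD' g g.2) (H.TV g g.2) (H.TV' g g.2) (H.Tz g g.2))
    map_one' := by
      apply RingEquiv.ext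
      intro v
      apply Subtype.ext
      show (1 : G) * (v.toMul : G) * (1 : G)⁻¹ = v.toMul
      group
    map_mul' := fun g g' => by
      apply RingEquiv.ext
      intro v
      apply Subtype.ext
      show ((g : G) * g') * (v.toMul : G) * ((g : G) * g')⁻¹ = g * (g' * v.toMul * (g' : G)⁻¹) * (g : G)⁻¹
      group }

theorem Act.hom_apply {h : Inp D V A B P TA t z x1 y1} {T : Subgroup G} (H : Act h T) (g : T) (v : ↥V) :
    (((H.hom g (Additive.ofMul v)).toMul : ↥V) : G) = g * v * (g : G)⁻¹ := rfl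

theorem Act.hom_eq_one {h : Inp D V A B P TA t z x1 y1} {T : Subgroup G} (H : Act h T) (g : T) :
    H.hom g = 1 ↔ ∀ v ∈ V, (g : G) * v = v * g := by
  let _ := h.ring
  constructor
  · intro h1 v hv
    have h2 := H.hom_apply g ⟨v, hv⟩
    rw [h1] at h2
    have h3 : v = g * v * (g : G)⁻¹ := h2
    calc (g : G) * v = (g * v * (g : G)⁻¹) * g := by group
      _ = v * g := by rw [← h3]
  · intro h1
    apply RingEquiv.ext
    intro v
    apply Subtype.ext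
    show (g : G) * (v.toMul : G) * (g : G)⁻¹ = v.toMul
    rw [h1 _ v.toMul.2]
    group

/-- **(R2)(B)**: if `V` is a field, `T` acts on `V` through a cyclic group; `t` induces its involution. -/
theorem Act.exists_theta [Finite G] {h : Inp D V A B P TA t z x1 y1} {T : Subgroup G} (H : Act h T)
    (ht : t ∈ T) (hf : ∀ v : ↥V, v ≠ 1 → ∃ w, h.mul v w = h.one) :
    ∃ (C : Type) (_ : CommGroup C) (θ : T →* C), (∀ x, θ x = 1 ↔ ∀ v ∈ V, (x : G) * v = v * x) ∧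
      θ ⟨t, ht⟩ ≠ 1 ∧ ∀ x, θ (x * x) = 1 → θ x = 1 ∨ θ x = θ ⟨t, ht⟩ := by
  let _ := h.ring
  have hF : IsField (Additive ↥V) :=
    { exists_pair_ne := ⟨0, 1, fun e => h.z_ne (congrArg Subtype.val e).symm⟩
      mul_comm := mul_comm
      mul_inv_cancel := fun {a} ha => hf a.toMul ha }
  have hC : IsCyclic (Additive ↥V ≃+* Additive ↥V) :=
    letI := hF.toField
    LieRecognition.FieldSemilinear.isCyclic_ringAut (Additive ↥V)
  have : Finite (Additive ↥V ≃+* Additive ↥V) :=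
    Finite.of_injective (fun e => (e : Additive ↥V → Additive ↥V)) DFunLike.coe_injective
  have ht1 : H.hom ⟨t, ht⟩ ≠ 1 := by
    intro h1
    obtain ⟨θ, hθ, e⟩ := h.theta
    have h2 := (H.hom_eq_one ⟨t, ht⟩).1 h1 θ hθ
    have h3 : t * θ * t = θ := by
      have h2' : t * θ = θ * t := h2
      rw [h2', mul_assoc, h.tt, _root_.mul_one]
    rw [h3] at e
    exact h.z_ne (left_eq_mul.1 e)
  let ε := (zmodCyclicMulEquiv hC).symm
  refine ⟨Multiplicative (ZMod (Nat.card (Additive ↥V ≃+* Additive ↥V))), inferInstance,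
    ε.toMonoidHom.comp H.hom, ?_, ?_, ?_⟩
  · intro x
    rw [← H.hom_eq_one]
    exact ε.map_eq_one_iff
  · intro h1
    exact ht1 (ε.map_eq_one_iff.1 h1)
  · intro x hx
    have h1 : H.hom x * H.hom x = 1 := by
      rw [← map_mul]
      exact ε.map_eq_one_iff.1 hx
    by_cases h2 : H.hom x = 1
    · left
      exact ε.map_eq_one_iff.2 h2
    · right
      have h3 : H.hom ⟨t, ht⟩ * H.hom ⟨t, ht⟩ = 1 := by
        rw [← map_mul]
        have : (⟨t, ht⟩ : T) * ⟨t, ht⟩ = 1 := Subtype.ext h.tt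
        rw [this, map_one]
      have h4 := eq_of_isCyclic hC h1 h2 h3 ht1
      show ε (H.hom x) = ε (H.hom ⟨t, ht⟩)
      rw [h4]

/-- `t ∉ T'` for every group `T ∋ t` normalising `D`, `V` and centralising `z`. -/
theorem Act.not_mem_commutator [Finite G] {h : Inp D V A B P TA t z x1 y1} {T : Subgroup G}
    (H : Act h T) (ht : t ∈ T) : (⟨t, ht⟩ : T) ∉ commutator T := by
  let _ := h.ring
  obtain ⟨θ, hθ⟩ := h.exists_theta
  have ht' : ∀ v : ↥V, H.hom ⟨t, ht⟩ (Additive.ofMul v) = Additive.ofMul (h.tau v) := by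
    intro v
    apply Subtype.ext
    show t * (v : G) * t⁻¹ = t * v * t
    rw [h.tinv]
  refine RingEnd.not_mem_commutator (R := Additive ↥V) (fun r => h.sq r.toMul) ?_ H.hom ⟨t, ht⟩
    {v | v.toMul ∈ h.F} ?_ (Additive.ofMul θ) ?_ ?_ ?_ ?_
  · intro e
    exact h.z_ne (congrArg Subtype.val e)
  · intro a ha h0
    have ha' : a.toMul ∈ h.F := ha
    rcases h.F_cases ha' with e | ⟨s, hs, e⟩
    · exact absurd e h0
    · refine ⟨Additive.ofMul (h.sc (inv_mem hs) h.one), ?_⟩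
      show h.mul a.toMul (h.sc (inv_mem hs) h.one) = h.one
      rw [e, h.sc_one, h.sc_inv]
  · intro w
    obtain ⟨a, ha, b, hb, e⟩ := h.dec_F hθ w.toMul
    exact ⟨Additive.ofMul a, ha, Additive.ofMul b, hb, e⟩
  · rw [ht', hθ]; rfl
  · intro a ha
    have ha' : a.toMul ∈ h.F := ha
    have h1 := ht' a.toMul
    rw [(h.mem_F).1 ha'] at h1
    exact h1
  · intro a ha
    have h1 := ht' a.toMul
    have h2 : H.hom ⟨t, ht⟩ (Additive.ofMul a.toMul) = a := ha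
    rw [h2] at h1
    have h3 : h.tau a.toMul = a.toMul := congrArg Additive.toMul h1.symm
    exact (h.mem_F).2 h3

end Inp

end Cfsg.Agent.OddHalf.D7Out.RingOut
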